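import Groth.Agent.Lib.IsoNat5.Transfer
import Groth.Agent.Lib.StAlg16.SourceLocal
import Groth.Agent.Lib.StAlg16.LocQApps
import Groth.Agent.Lib.StAlg16.OpenSub
import Groth.Agent.Lib.StAlg16.LargestOpen
import Groth.Agent.Lib.StAlg16.DiagOps
import Groth.Agent.Lib.AlgSpDescent.FppfComp

/-!
Properties of charts of algebraic stacks detected by the presheaves of isomorphism classes.
-/

universe u

open CategoryTheory CategoryTheory.Functor CategoryTheory.Limits AlgebraicGeometry Opposite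

set_option linter.style.haveILetI false
set_option linter.unusedSectionVars false
set_option backward.isDefEq.respectTransparency false
set_option backward.isDefEq.respectTransparency.types false

namespace Groth.Agent.IsoNat5

open Groth.Agent.FC16 Groth.Agent.StAlg Groth.Agent.StAlg16 AlgSt

variable {S : Scheme.{u}} {𝒳 𝒴 : AlgSt.Cat S}

theorem chart_rep1 (h𝒳 : IsAlgStack Scheme.fppfPrecoverage 𝒳) {U : Over S} (x : FibCat.overCat U ⥤ᵇ 𝒳) :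
    AlgSt.RepByAlgSp1 x := (rep1_diag_iff h𝒳.isStack.1).1 h𝒳.diag U x

theorem nonempty_iso_of_objCls_eq (h𝒳 : FibCat.IsFibGrpd 𝒳.p) {U : Over S} {x x' : FibCat.overCat U ⥤ᵇ 𝒳}
    (h : IsoNat.objCls x = IsoNat.objCls x') : Nonempty (x ≅ x') := by
  obtain ⟨e, he⟩ := exists_iso_of_cls_eq h
  obtain ⟨i, -⟩ := exists_iso (presCart_of_isFibGrpd h𝒳 x) (presCart_of_isFibGrpd h𝒳 x') e he
  exact ⟨i⟩

theorem objCls_congr {U : Over S} {x x' : FibCat.overCat U ⥤ᵇ 𝒳} (i : x ≅ x') :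
    IsoNat.objCls x = IsoNat.objCls x' :=
  cls_eq_of_lifts (⟨_, x.w_obj _⟩ : 𝒳.p.Fiber U) ⟨_, x'.w_obj _⟩ (FC16.appIso i (Over.mk (𝟙 U)))
    (FC16.isHomLift_appIso_hom i _ rfl)

variable (φ : IsoNat.FIso 𝒳 𝒴)

/-- corresponding charts stay so under restriction -/
theorem corr_comp (h𝒴 : FibCat.IsFibGrpd 𝒴.p) {U U' : Over S} (k : U' ⟶ U) {x : FibCat.overCat U ⥤ᵇ 𝒳}
    {y : FibCat.overCat U ⥤ᵇ 𝒴} (h : φ.toEquiv U (IsoNat.objCls x) = IsoNat.objCls y) :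
    φ.toEquiv U' (IsoNat.objCls (BasedFunctor.comp (AlgSt.overMap k) x)) =
      IsoNat.objCls (BasedFunctor.comp (AlgSt.overMap k) y) :=
  cls_obj_eq φ h𝒴 h (T := U') (𝟙 U' ≫ k)

theorem corr_iso (h𝒳 : FibCat.IsFibGrpd 𝒳.p) (h𝒴 : FibCat.IsFibGrpd 𝒴.p) {U U' V : Over S} {k : U' ⟶ U} {s : U' ⟶ V}
    {x : FibCat.overCat U ⥤ᵇ 𝒳} {y : FibCat.overCat U ⥤ᵇ 𝒴} {a : FibCat.overCat V ⥤ᵇ 𝒳} {b : FibCat.overCat V ⥤ᵇ 𝒴}
    (h : φ.toEquiv U (IsoNat.objCls x) = IsoNat.objCls y) (hab : φ.toEquiv V (IsoNat.objCls a) = IsoNat.objCls b)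
    (i : BasedFunctor.comp (AlgSt.overMap k) y ≅ BasedFunctor.comp (AlgSt.overMap s) b) :
    Nonempty (BasedFunctor.comp (AlgSt.overMap k) x ≅ BasedFunctor.comp (AlgSt.overMap s) a) :=
  nonempty_iso_of_objCls_eq h𝒳 ((φ.toEquiv U').injective
    ((corr_comp φ h𝒴 k h).trans ((objCls_congr i).trans (corr_comp φ h𝒴 s hab).symm)))

theorem corr_symm (h𝒳 : FibCat.IsFibGrpd 𝒳.p) (h𝒴 : FibCat.IsFibGrpd 𝒴.p) {U : Over S} {x : FibCat.overCat U ⥤ᵇ 𝒳}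
    {y : FibCat.overCat U ⥤ᵇ 𝒴} (h : φ.toEquiv U (IsoNat.objCls x) = IsoNat.objCls y) :
    (symm h𝒳 h𝒴 φ).toEquiv U (IsoNat.objCls y) = IsoNat.objCls x :=
  (Equiv.symm_apply_eq _).2 h.symm

/-- over an atlas every chart factors locally -/
theorem exists_local_factor (h𝒴 : IsAlgStack Scheme.fppfPrecoverage 𝒴) {U : Over S} (y : FibCat.overCat U ⥤ᵇ 𝒴)
    {V : Over S} (b : FibCat.overCat V ⥤ᵇ 𝒴) (hb : AlgSt.RepByAlgSpWith (AlgSp.LocP @Smooth) b)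
    (hbs : AlgSt.RepByAlgSpWith AlgSp.IsSurjectiveMor b) :
    ∃ (U' : Over S) (k : U' ⟶ U) (s : U' ⟶ V), Smooth k.left ∧ Surjective k.left ∧
      Nonempty (BasedFunctor.comp (AlgSt.overMap k) y ≅ BasedFunctor.comp (AlgSt.overMap s) b) := by
  obtain ⟨W, k, s, i, hsq, hP⟩ := exists_chart_square h𝒴.isStack.1 (repByAlgSp1_of_with hb) U y
  refine ⟨W, k, s, (hP @Smooth).1 hb, ⟨fun t => ?_⟩, i⟩
  obtain ⟨v, hv⟩ := surjective_ofChart h𝒴.isStack.1 hbs (Points.ofChart y t)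
  obtain ⟨w, hw, -⟩ := hsq t v hv.symm
  exact ⟨w, hw⟩

/-- descent along a smooth covering of the chart -/
theorem with_of_smooth_cover {P : MorphismProperty Scheme.{u}} [AlgSpace.EtaleLocal P] [IsZariskiLocalAtSource P]
    [IsZariskiLocalAtTarget P] [P.DescendsAlong (@Surjective ⊓ @Flat ⊓ @QuasiCompact)]
    (hsrc : ∀ ⦃A B C : Scheme.{u}⦄ (a : A ⟶ B) (b : B ⟶ C), Flat a →
      LocallyOfFinitePresentation a → Surjective a → P (a ≫ b) → P b)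
    (h𝒴 : IsAlgStack Scheme.fppfPrecoverage 𝒴) {U U' : Over S} (k : U' ⟶ U) (hk : Smooth k.left)
    (hks : Surjective k.left) {y : FibCat.overCat U ⥤ᵇ 𝒴}
    (h : AlgSt.RepByAlgSpWith (AlgSp.LocP P) (BasedFunctor.comp (AlgSt.overMap k) y)) :
    AlgSt.RepByAlgSpWith (AlgSp.LocP P) y := by
  have h1 : AlgSt.RepByAlgSpWith (AlgSp.LocP @Smooth) (AlgSt.overMap k) := with_locP_overMap k hk
  have h3 : AlgSt.RepByAlgSpWith AlgSp.IsSurjectiveMor (AlgSt.overMap k) := by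
    refine with_surjective_of_isSurjective (overCat_isFibGrpd U') (overCat_isFibGrpd U) (repByAlgSp1_of_with h1)
      fun z => ?_
    obtain ⟨t, ht⟩ := hks.surj (ptOf z)
    exact ⟨Points.mk (chartPt U' t), by rw [map_overMap_chartPt, ht, mk_chartPt_ptOf]⟩
  refine with_of_comp_of_source pbP_locP
    (C := ![AlgSp.LocP @Flat, AlgSp.LocP @LocallyOfFinitePresentation, AlgSp.IsSurjectiveMor])
    (fun j => by fin_cases j <;> first | exact goodP_locP | exact goodP_surjective)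
    (fun X Y Z hX hY hZ b a hb hba => ?_) (overCat_isFibGrpd U') (overCat_isFibGrpd U) h𝒴.isStack.1
    (chart_rep1 h𝒴 y) (repByAlgSp1_of_with h1)
    (fun j => by fin_cases j <;>
      first | exact with_locP_mono smooth_le_flat h1 | exact with_locP_mono smooth_le_lfp h1 | exact h3) h
  exact AlgSpDescent.locP_of_fppf_comp hsrc hX hY hZ b a (hb 2) (hb 0) (hb 1) hba

theorem lft_of_cover (h𝒴 : IsAlgStack Scheme.fppfPrecoverage 𝒴) {U U' : Over S} (k : U' ⟶ U) (hk : Smooth k.left)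
    (hks : Surjective k.left) {y : FibCat.overCat U ⥤ᵇ 𝒴}
    (h : AlgSt.RepByAlgSpWith (AlgSp.LocP @LocallyOfFiniteType) (BasedFunctor.comp (AlgSt.overMap k) y)) :
    AlgSt.RepByAlgSpWith (AlgSp.LocP @LocallyOfFiniteType) y :=
  with_of_smooth_cover (fun _ _ _ a b h1 h2 h3 h4 => AlgSpDescent.locallyOfFiniteType_of_fppf_comp a b h1 h2 h3 h4)
    h𝒴 k hk hks h

theorem lfp_of_cover (h𝒴 : IsAlgStack Scheme.fppfPrecoverage 𝒴) {U U' : Over S} (k : U' ⟶ U) (hk : Smooth k.left)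
    (hks : Surjective k.left) {y : FibCat.overCat U ⥤ᵇ 𝒴}
    (h : AlgSt.RepByAlgSpWith (AlgSp.LocP @LocallyOfFinitePresentation) (BasedFunctor.comp (AlgSt.overMap k) y)) :
    AlgSt.RepByAlgSpWith (AlgSp.LocP @LocallyOfFinitePresentation) y :=
  with_of_smooth_cover (fun _ _ _ a b h1 h2 h3 h4 =>
    @FppfSource.locallyOfFinitePresentation_of_fppf_comp _ _ _ a b h3 h1 h2 h4) h𝒴 k hk hks h

theorem smooth_of_cover (h𝒴 : IsAlgStack Scheme.fppfPrecoverage 𝒴) {U U' : Over S} (k : U' ⟶ U) (hk : Smooth k.left)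
    (hks : Surjective k.left) {y : FibCat.overCat U ⥤ᵇ 𝒴}
    (h : AlgSt.RepByAlgSpWith (AlgSp.LocP @Smooth) (BasedFunctor.comp (AlgSt.overMap k) y)) :
    AlgSt.RepByAlgSpWith (AlgSp.LocP @Smooth) y :=
  with_of_smooth_cover (fun _ _ _ a b h1 h2 h3 h4 => AlgSpDescent.smooth_of_fppf_comp a b h1 h2 h3 h4)
    h𝒴 k hk hks h

/-- cancellation with a weaker condition on the outer functor -/
theorem with_of_comp_of_cancel' {P Q : MorphismProperty (AlgSp.Sp S)} {𝒵 : AlgSt.Cat S} (hb : PbP P) (hbQ : PreIso Q)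
    (hcancel : ∀ ⦃X Y Z : AlgSp.Sp S⦄, AlgSp.IsAlgSpace X → AlgSp.IsAlgSpace Y → AlgSp.IsAlgSpace Z →
      ∀ (a : X ⟶ Y) (b : Y ⟶ Z), Q b → P (a ≫ b) → P a)
    (h𝒳 : FibCat.IsFibGrpd 𝒳.p) (h𝒴 : FibCat.IsFibGrpd 𝒴.p) (h𝒵 : FibCat.IsFibGrpd 𝒵.p)
    {f : 𝒳 ⥤ᵇ 𝒴} {c : 𝒴 ⥤ᵇ 𝒵} (hf : AlgSt.RepByAlgSp1 f) (hc : AlgSt.RepByAlgSpWith Q c)
    (hfc : AlgSt.RepByAlgSpWith P (BasedFunctor.comp f c)) : AlgSt.RepByAlgSpWith P f := fun U y => by
  have hU := AlgSp.IsAlgSpace.yon_obj U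
  have hid : ∀ {F : AlgSp.PSp S} (a : F ⟶ ((AlgSp.yon S).obj U).obj), IsPullback (𝟙 F) a a (𝟙 _) := fun a =>
    IsPullback.of_horiz_isIso ⟨by simp⟩
  let y₁ : AlgSt.ofSch U ⥤ᵇ 𝒵 := BasedFunctor.comp (BasedFunctor.comp (AlgSt.toOverCat U) y) c
  obtain ⟨G, a, e, he, ⟨i⟩, hra, hr⟩ := exists_rep_over h𝒴 h𝒵 (repByAlgSp1_of_with hc) y₁
  obtain ⟨hG, hGA⟩ := AlgSpace.isAlgSpaceP_of_repBySp a hra (AlgSpace.isAlgSpaceP_pyon U)
  let u := BasedFunctor.comp e (FibCat.fpSnd y₁ c)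
  obtain ⟨V, b, e₂, he₂, ⟨i₂⟩, hrb, -⟩ := exists_rep_over h𝒳 h𝒴 hf u
  obtain ⟨hV, hVA⟩ := AlgSpace.isAlgSpaceP_of_repBySp b hrb ((AlgSp.isAlgSpaceP_obj_iff ⟨G, hG⟩).2 hGA)
  have hPa : Q (ObjectProperty.homMk a : (⟨G, hG⟩ : AlgSp.Sp S) ⟶ (AlgSp.yon S).obj U) :=
    (hr Q hbQ hc (𝟙 _) _ _ (hid a)).2.2
  haveI := idFun_full (𝒳 := 𝒴)
  haveI := idFun_faithful (𝒳 := 𝒴)
  let M := fpMap (F := u) (G := f) (F' := FibCat.fpSnd y₁ c) (G' := f) (a := e) (b := BasedFunctor.id 𝒳)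
    (s := BasedFunctor.id 𝒴) (Iso.refl _) (Iso.refl _)
  have hM : FibCat.IsEquivOver M := fpMap_isEquivOver _ _ he isEquivOver_id
  let E := BasedFunctor.comp (BasedFunctor.comp e₂ M) (pasteR y₁ c f)
  have hE : FibCat.IsEquivOver E := isEquivOver_comp (isEquivOver_comp he₂ hM) (pasteR_isEquivOver y₁ c f)
  let j : Stk.ofPshMap (b ≫ a) ≅ BasedFunctor.comp E (FibCat.fpFst y₁ (BasedFunctor.comp f c)) :=
    (isoMapOf (BasedFunctor.comp (Stk.ofPshMap b) (Stk.ofPshMap a)) ≪≫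
      eqToIso (congrArg Stk.ofPshMap (by rw [mapOf_comp, mapOf_ofPshMap, mapOf_ofPshMap]))).symm ≪≫
      (wlIso (Stk.ofPshMap b) i.symm ≪≫ wrIso i₂.symm (BasedFunctor.comp e (FibCat.fpFst y₁ c)))
  have h1 : AlgSt.RepByAlgSpWith P (Stk.ofPshMap (b ≫ a)) :=
    (with_congr (f := FibCat.fpFst y₁ (BasedFunctor.comp f c)) (f' := Stk.ofPshMap (b ≫ a)) (a := E)
      (b := BasedFunctor.id _) hE isEquivOver_id j).1 (with_fpFst _ hfc)
  have hPba : P ((ObjectProperty.homMk b : (⟨V, hV⟩ : AlgSp.Sp S) ⟶ ⟨G, hG⟩) ≫ ObjectProperty.homMk a) :=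
    (repBySpWith_of_with (preIso_of_pullback hb) h1 (𝟙 _) _ _ (hid (b ≫ a))).2.2
  have hPb' : P (ObjectProperty.homMk b : (⟨V, hV⟩ : AlgSp.Sp S) ⟶ ⟨G, hG⟩) :=
    hcancel hVA hGA hU _ _ hPa hPba
  have h2 : AlgSt.RepByAlgSpWith P (FibCat.fpFst u f) :=
    (with_congr (f := FibCat.fpFst u f) (f' := Stk.ofPshMap b) (a := e₂) (b := BasedFunctor.id _) he₂
      isEquivOver_id i₂.symm).2 (with_ofPshMap (repBySpWith_of_space hb hVA hGA hPb'))
  have h3 : AlgSt.RepByAlgSpWith P (FibCat.fpFst (FibCat.fpSnd y₁ c) f) :=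
    (with_congr (f := FibCat.fpFst (FibCat.fpSnd y₁ c) f) (f' := FibCat.fpFst u f) (a := M) (b := e) hM he
      (Iso.refl _)).2 h2
  let σ : FibCat.overCat U ⥤ᵇ FibCat.fp y₁ c := FibCat.fpLift (AlgSt.ofOverCat U) y
    (wrIso (wrIso (eqToIso (ofOver_toOver U)) y) c)
  exact repOf_left (y := BasedFunctor.comp σ (FibCat.fpSnd y₁ c)) (Iso.refl _)
    (repOf_of_equiv (pasteL_isEquivOver σ (FibCat.fpSnd y₁ c) f) (Iso.refl _) (h3 U σ))

theorem lft_of_comp (h𝒴 : IsAlgStack Scheme.fppfPrecoverage 𝒴) {U V : Over S} (s : U ⟶ V)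
    {b : FibCat.overCat V ⥤ᵇ 𝒴}
    (h : AlgSt.RepByAlgSpWith (AlgSp.LocP @LocallyOfFiniteType) (BasedFunctor.comp (AlgSt.overMap s) b)) :
    LocallyOfFiniteType s.left :=
  of_with_locP_overMap s (with_of_comp_of_cancel' (Q := ⊤) pbP_locP preIso_top
    (fun X Y Z hX hY hZ f g _ hfg => AlgSpace.locP_of_comp (Q' := @LocallyOfFiniteType) (R := ⊤)
      (fun _ _ _ k l hkl _ => @locallyOfFiniteType_of_comp _ _ _ k l hkl) hX hY hZ hfg (AlgSpace.locP_top g))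
    (overCat_isFibGrpd U) (overCat_isFibGrpd V) h𝒴.isStack.1
    (rep1_of_rep (rep_overCat U) (rep_overCat V) _) (repByAlgSp1_iff.1 (chart_rep1 h𝒴 b)) h)

theorem lfp_of_comp (h𝒴 : IsAlgStack Scheme.fppfPrecoverage 𝒴) {U V : Over S} (s : U ⟶ V)
    {b : FibCat.overCat V ⥤ᵇ 𝒴} (hb : AlgSt.RepByAlgSpWith (AlgSp.LocP @LocallyOfFiniteType) b)
    (h : AlgSt.RepByAlgSpWith (AlgSp.LocP @LocallyOfFinitePresentation) (BasedFunctor.comp (AlgSt.overMap s) b)) :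
    LocallyOfFinitePresentation s.left :=
  of_with_locP_overMap s (with_of_comp_of_cancel' (Q := AlgSp.LocP @LocallyOfFiniteType) pbP_locP
    (preIso_of_pullback pbP_locP)
    (fun X Y Z hX hY hZ f g hg hfg => AlgSpace.locP_of_comp (Q' := @LocallyOfFinitePresentation)
      (R := @LocallyOfFiniteType)
      (fun _ _ _ k l hkl hl => @SchBasic.locallyOfFinitePresentation_of_comp _ _ _ k l hl hkl) hX hY hZ hfg hg)
    (overCat_isFibGrpd U) (overCat_isFibGrpd V) h𝒴.isStack.1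
    (rep1_of_rep (rep_overCat U) (rep_overCat V) _) hb h)

/-- local finite type is detected by the classes -/
theorem lft_transfer (h𝒳 : IsAlgStack Scheme.fppfPrecoverage 𝒳) (h𝒴 : IsAlgStack Scheme.fppfPrecoverage 𝒴)
    {U : Over S} {x : FibCat.overCat U ⥤ᵇ 𝒳} {y : FibCat.overCat U ⥤ᵇ 𝒴}
    (h : φ.toEquiv U (IsoNat.objCls x) = IsoNat.objCls y)
    (hx : AlgSt.RepByAlgSpWith (AlgSp.LocP @LocallyOfFiniteType) x) :
    AlgSt.RepByAlgSpWith (AlgSp.LocP @LocallyOfFiniteType) y := by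
  obtain ⟨V, b, hb, hbs⟩ := h𝒴.atlas
  obtain ⟨a, ha⟩ := exists_chart (symm h𝒳.isStack.1 h𝒴.isStack.1 φ) h𝒳.isStack.1 b
  have hab : φ.toEquiv V (IsoNat.objCls a) = IsoNat.objCls b := ((Equiv.symm_apply_eq _).1 ha).symm
  obtain ⟨U', k, s, hk, hks, ⟨i⟩⟩ := exists_local_factor h𝒴 y b hb hbs
  obtain ⟨i'⟩ := corr_iso φ h𝒳.isStack.1 h𝒴.isStack.1 h hab i
  refine lft_of_cover h𝒴 k hk hks (with_of_iso i.symm ?_)
  have hs : LocallyOfFiniteType s.left := lft_of_comp h𝒳 s (with_of_iso i' (with_comp goodP_locP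
    (overCat_isFibGrpd U') (overCat_isFibGrpd U) (with_locP_overMap k (StAlg.smooth_le_lft _ _ _ hk)) hx))
  exact with_comp goodP_locP (overCat_isFibGrpd U') (overCat_isFibGrpd V) (with_locP_overMap s hs)
    (with_locP_mono smooth_le_lft hb)

/-- local finite presentation is detected by the classes -/
theorem lfp_transfer (h𝒳 : IsAlgStack Scheme.fppfPrecoverage 𝒳) (h𝒴 : IsAlgStack Scheme.fppfPrecoverage 𝒴)
    {U : Over S} {x : FibCat.overCat U ⥤ᵇ 𝒳} {y : FibCat.overCat U ⥤ᵇ 𝒴}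
    (h : φ.toEquiv U (IsoNat.objCls x) = IsoNat.objCls y)
    (hx : AlgSt.RepByAlgSpWith (AlgSp.LocP @LocallyOfFinitePresentation) x) :
    AlgSt.RepByAlgSpWith (AlgSp.LocP @LocallyOfFinitePresentation) y := by
  obtain ⟨V, b, hb, hbs⟩ := h𝒴.atlas
  obtain ⟨a, ha⟩ := exists_chart (symm h𝒳.isStack.1 h𝒴.isStack.1 φ) h𝒳.isStack.1 b
  have hab : φ.toEquiv V (IsoNat.objCls a) = IsoNat.objCls b := ((Equiv.symm_apply_eq _).1 ha).symm
  obtain ⟨U', k, s, hk, hks, ⟨i⟩⟩ := exists_local_factor h𝒴 y b hb hbs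
  obtain ⟨i'⟩ := corr_iso φ h𝒳.isStack.1 h𝒴.isStack.1 h hab i
  refine lfp_of_cover h𝒴 k hk hks (with_of_iso i.symm ?_)
  have hal : AlgSt.RepByAlgSpWith (AlgSp.LocP @LocallyOfFiniteType) a :=
    lft_transfer (symm h𝒳.isStack.1 h𝒴.isStack.1 φ) h𝒴 h𝒳 (corr_symm φ h𝒳.isStack.1 h𝒴.isStack.1 hab)
      (with_locP_mono smooth_le_lft hb)
  have hs : LocallyOfFinitePresentation s.left := lfp_of_comp h𝒳 s hal (with_of_iso i' (with_comp goodP_locP
    (overCat_isFibGrpd U') (overCat_isFibGrpd U) (with_locP_overMap k (StAlg.smooth_le_lfp _ _ _ hk)) hx))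
  exact with_comp goodP_locP (overCat_isFibGrpd U') (overCat_isFibGrpd V) (with_locP_overMap s hs)
    (with_locP_mono smooth_le_lfp hb)

/-- smoothness of a chart from local finite presentation and lifting -/
theorem smooth_of_stLift (h𝒳 : IsAlgStack Scheme.fppfPrecoverage 𝒳) {U : Over S} {x : FibCat.overCat U ⥤ᵇ 𝒳}
    (hl : AlgSt.RepByAlgSpWith (AlgSp.LocP @LocallyOfFinitePresentation) x) (h : StLift x) :
    AlgSt.RepByAlgSpWith (AlgSp.LocP @Smooth) x := fun V z => by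
  obtain ⟨F, e, he, hP⟩ := hl V z
  exact ⟨F, e, he, (SmoothLift15.locP_smooth_iff F.property (AlgSp.IsAlgSpace.yon_obj V) _).2
    ⟨hP, formallySmooth_of_stLift he h𝒳.isStack.1 h⟩⟩

/-- the affine case -/
theorem smooth_transfer_affine (h𝒳 : IsAlgStack Scheme.fppfPrecoverage 𝒳) (h𝒴 : IsAlgStack Scheme.fppfPrecoverage 𝒴)
    {U V : Over S} [IsAffine U.left] [IsAffine V.left] {x : FibCat.overCat U ⥤ᵇ 𝒳} {b : FibCat.overCat V ⥤ᵇ 𝒴}
    (s : U ⟶ V) (hxy : φ.toEquiv U (IsoNat.objCls x) = IsoNat.objCls (BasedFunctor.comp (AlgSt.overMap s) b))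
    (hx : AlgSt.RepByAlgSpWith (AlgSp.LocP @Smooth) x) (hb : AlgSt.RepByAlgSpWith (AlgSp.LocP @Smooth) b) :
    AlgSt.RepByAlgSpWith (AlgSp.LocP @Smooth) (BasedFunctor.comp (AlgSt.overMap s) b) := by
  let ιU : Over.mk (U.left.isoSpec.inv ≫ U.hom) ⟶ U := Over.homMk U.left.isoSpec.inv
  let ιV : V ⟶ Over.mk (V.left.isoSpec.inv ≫ V.hom) := Over.homMk V.left.isoSpec.hom (by simp)
  let ιV' : Over.mk (V.left.isoSpec.inv ≫ V.hom) ⟶ V := Over.homMk V.left.isoSpec.inv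
  have hU : IsIso ιU.left := (inferInstance : IsIso U.left.isoSpec.inv)
  have hU' : Smooth ιU.left := (inferInstance : Smooth U.left.isoSpec.inv)
  have hUs : Surjective ιU.left := (inferInstance : Surjective U.left.isoSpec.inv)
  have hV' : Smooth ιV'.left := (inferInstance : Smooth V.left.isoSpec.inv)
  have hb' := with_comp goodP_locP (overCat_isFibGrpd _) (overCat_isFibGrpd V) (with_locP_overMap ιV' hV') hb
  have hx' := with_comp goodP_locP (overCat_isFibGrpd _) (overCat_isFibGrpd U) (with_locP_overMap ιU hU') hx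
  have hl := lfp_transfer φ h𝒳 h𝒴 hxy (with_locP_mono smooth_le_lfp hx)
  have hl' := with_comp goodP_locP (overCat_isFibGrpd _) (overCat_isFibGrpd U)
    (with_locP_overMap ιU (StAlg.smooth_le_lfp _ _ _ hU')) hl
  have e : ιV ≫ ιV' = 𝟙 V := Over.OverMorphism.ext (V.left.isoSpec.hom_inv_id)
  have hc := corr_comp φ h𝒴.isStack.1 ιU hxy
  obtain ⟨i⟩ := nonempty_iso_of_objCls_eq h𝒴.isStack.1
    (show IsoNat.objCls (BasedFunctor.comp (AlgSt.overMap ιU) (BasedFunctor.comp (AlgSt.overMap s) b)) =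
      IsoNat.objCls (BasedFunctor.comp (AlgSt.overMap (ιU ≫ s ≫ ιV)) (BasedFunctor.comp (AlgSt.overMap ιV') b)) from
      objCls_congr (wrIso (overMapComp ιU s ≪≫ eqToIso (by rw [← Category.comp_id (ιU ≫ s), ← e]; simp [Category.assoc]) ≪≫
        (overMapComp (ιU ≫ s ≫ ιV) ιV').symm) b))
  have hst := stLift_comp φ h𝒳.isStack.1 h𝒴.isStack.1 (stLift_of_smooth h𝒳.isStack.1 hx')
    (stLift_of_smooth h𝒴.isStack.1 hb') (ιU ≫ s ≫ ιV) (hc.trans (objCls_congr i))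
  exact smooth_of_cover h𝒴 ιU hU' hUs (with_of_iso i.symm (smooth_of_stLift h𝒴 (with_of_iso i hl') hst))

/-- smoothness is detected by the classes -/
theorem smooth_transfer (h𝒳 : IsAlgStack Scheme.fppfPrecoverage 𝒳) (h𝒴 : IsAlgStack Scheme.fppfPrecoverage 𝒴)
    {U : Over S} {x : FibCat.overCat U ⥤ᵇ 𝒳} {y : FibCat.overCat U ⥤ᵇ 𝒴}
    (h : φ.toEquiv U (IsoNat.objCls x) = IsoNat.objCls y)
    (hx : AlgSt.RepByAlgSpWith (AlgSp.LocP @Smooth) x) : AlgSt.RepByAlgSpWith (AlgSp.LocP @Smooth) y := by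
  obtain ⟨V, b, hb, hbs⟩ := h𝒴.atlas
  obtain ⟨U', k, s, hk, hks, ⟨i⟩⟩ := exists_local_factor h𝒴 y b hb hbs
  refine smooth_of_cover h𝒴 k hk hks ?_
  let x₁ := BasedFunctor.comp (AlgSt.overMap k) x
  let y₁ := BasedFunctor.comp (AlgSt.overMap k) y
  have hx₁ : AlgSt.RepByAlgSpWith (AlgSp.LocP @Smooth) x₁ :=
    with_comp goodP_locP (overCat_isFibGrpd U') (overCat_isFibGrpd U) (with_locP_overMap k hk) hx
  have h₁ := corr_comp φ h𝒴.isStack.1 k h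
  have hOy : ∀ O : {O : U'.left.affineOpens // ∃ A : V.left.affineOpens, O.1 ≤ s.left ⁻¹ᵁ A.1},
      AlgSt.RepByAlgSpWith (AlgSp.LocP @Smooth) (BasedFunctor.comp (AlgSt.overMap (openIncl O.1.1)) y₁) := by
    rintro ⟨O, A, hOA⟩
    haveI : IsAffine (openPart O.1).left := O.2
    haveI : IsAffine (openPart A.1).left := A.2
    let sO := openRes s A.1 O.1 hOA
    have hi : openIncl O.1 ≫ s = sO ≫ openIncl A.1 := (openRes_comp s A.1 O.1 hOA).symm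
    obtain ⟨j⟩ := nonempty_iso_of_objCls_eq h𝒴.isStack.1
      (show IsoNat.objCls (BasedFunctor.comp (AlgSt.overMap (openIncl O.1)) y₁) =
        IsoNat.objCls (BasedFunctor.comp (AlgSt.overMap sO) (BasedFunctor.comp (AlgSt.overMap (openIncl A.1)) b)) from
        objCls_congr (wlIso (AlgSt.overMap (openIncl O.1)) i ≪≫
          wrIso (overMapComp (openIncl O.1) s ≪≫ eqToIso (by rw [hi]) ≪≫ (overMapComp sO (openIncl A.1)).symm) b))
    refine with_of_iso j.symm (smooth_transfer_affine φ h𝒳 h𝒴 sO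
      ((corr_comp φ h𝒴.isStack.1 (openIncl O.1) h₁).trans (objCls_congr j)) ?_ ?_)
    · exact with_comp goodP_locP (overCat_isFibGrpd _) (overCat_isFibGrpd U')
        (with_locP_overMap (openIncl O.1) (inferInstance : Smooth O.1.ι)) hx₁
    · exact with_comp goodP_locP (overCat_isFibGrpd _) (overCat_isFibGrpd V)
        (with_locP_overMap (openIncl A.1) (inferInstance : Smooth A.1.ι)) hb
  -- glue
  have hPb : PbP (AlgSp.LocP (S := S) @Smooth) := pbP_locP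
  have hP₂ : AlgSp.IsLocalOnBase (AlgSp.IsFppfCover (S := S)) (AlgSp.LocP @Smooth) :=
    StAlg.isLocalOnBase_fppf_of_fpqc (AlgSpDescent.isLocalOnBase_fpqc_locP AlgSpDescent.precompEtale_smooth
      AlgSpDescent.descendsEtaleSource_smooth)
  obtain ⟨W, p, c, ⟨jc⟩, hc, hcs⟩ := exists_good (isAlgStack_overCat U') h𝒴 y₁ b
  obtain ⟨g, ⟨jg⟩⟩ := exists_overMap_iso (BasedFunctor.comp c (FibCat.fpSnd b y₁))
  choose Wo hWo hWp using fun w : W.left => (show ∃ Wo : W.left.Opens, w ∈ Wo ∧ Smooth (Wo.ι ≫ p.left) from by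
    obtain ⟨_, ⟨A, hA, rfl⟩, hwA, -⟩ := V.left.isBasis_affineOpens.exists_subset_of_mem_open
      (Set.mem_univ (s.left (g.left w))) isOpen_univ
    obtain ⟨_, ⟨O, hO, rfl⟩, hwO, hOA⟩ := U'.left.isBasis_affineOpens.exists_subset_of_mem_open
      (show g.left w ∈ ((s.left ⁻¹ᵁ A : U'.left.Opens) : Set U'.left) from hwA) (s.left ⁻¹ᵁ A).2
    refine ⟨g.left ⁻¹ᵁ O, hwO, ?_⟩
    have sq : IsPullback (openIncl (g.left ⁻¹ᵁ O)) (openRes g O (g.left ⁻¹ᵁ O) le_rfl) g (openIncl O) :=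
      IsPullback.of_map (Over.forget S) (openRes_comp g O _ le_rfl).symm
        ((isPullback_morphismRestrict g.left O).flip.of_iso (Iso.refl _) (Iso.refl _) (Iso.refl _) (Iso.refl _)
          (by simp [Scheme.Hom.resLE_eq_morphismRestrict]) (by simp [Scheme.Hom.resLE_eq_morphismRestrict]) (by simp) (by simp))
    have hE : AlgSt.RepByAlgSpWith (AlgSp.LocP @Smooth) (overPullback sq.w) :=
      with_equiv_comp (overPullback_isEquivOver sq) (with_id_overCat _)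
    obtain ⟨c₁, ⟨j₁⟩, hc₁⟩ := exists_iso_chart (f := AlgSt.overMap (openIncl O)) jg (c := overPullback sq.w)
      (h := openIncl (g.left ⁻¹ᵁ O)) (Iso.refl _)
    obtain ⟨c₂, ⟨j₂⟩, hc₂⟩ := exists_comp_chart (overCat_isFibGrpd (openPart O)) (overCat_isFibGrpd U') h𝒴.isStack.1
      (f := AlgSt.overMap (openIncl O)) jc (c := c₁) j₁
    exact (locP_yon_iff _).1 (of_locQ isSmoothLocalST_smooth (overCat_isFibGrpd _) h𝒴.isStack.1
      ((locQ_iff_with isSmoothLocalST_smooth hPb hP₂ (isAlgStack_overCat _) h𝒴 (chart_rep1 h𝒴 _)).2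
        (hOy ⟨⟨O, hO⟩, ⟨A, hA⟩, hOA⟩)) hb j₂ (hc₂ _ goodP_locP hc (hc₁ _ hE))))
  exact (locQ_iff_with isSmoothLocalST_smooth hPb hP₂ (isAlgStack_overCat _) h𝒴 (chart_rep1 h𝒴 y₁)).1
    (locQ_of_good (overCat_isFibGrpd _) h𝒴.isStack.1 hb hbs jc hc hcs ((locP_yon_iff _).2
      (IsZariskiLocalAtSource.of_iSup_eq_top Wo
        (eq_top_iff.2 fun w _ => TopologicalSpace.Opens.mem_iSup.2 ⟨w, hWo w⟩) hWp)))

/-- surjectivity of a chart is detected by the classes -/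
theorem surj_transfer (h𝒳 : IsAlgStack Scheme.fppfPrecoverage 𝒳) (h𝒴 : IsAlgStack Scheme.fppfPrecoverage 𝒴)
    {U : Over S} {x : FibCat.overCat U ⥤ᵇ 𝒳} {y : FibCat.overCat U ⥤ᵇ 𝒴}
    (h : φ.toEquiv U (IsoNat.objCls x) = IsoNat.objCls y)
    (hx : AlgSt.RepByAlgSpWith AlgSp.IsSurjectiveMor x) :
    AlgSt.RepByAlgSpWith AlgSp.IsSurjectiveMor y := by
  refine with_surjective_of_isSurjective (overCat_isFibGrpd U) h𝒴.isStack.1 (chart_rep1 h𝒴 y) fun z => ?_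
  obtain ⟨z₀, rfl⟩ := (ptMap_bijective φ h𝒳.isStack.1 h𝒴.isStack.1).2 z
  obtain ⟨t, rfl⟩ := surjective_ofChart h𝒳.isStack.1 hx z₀
  exact ⟨Points.mk (chartPt U t), by rw [ptMap_ofChart φ h𝒴.isStack.1 x y h, ← ofChart_eq]⟩

/-- squares of charts are carried over -/
theorem locQ_transfer {𝒳' 𝒴' : AlgSt.Cat S} {f : 𝒳 ⥤ᵇ 𝒴} {f' : 𝒳' ⥤ᵇ 𝒴'}
    (h𝒳 : IsAlgStack Scheme.fppfPrecoverage 𝒳) (h𝒴 : IsAlgStack Scheme.fppfPrecoverage 𝒴)
    (h𝒳' : IsAlgStack Scheme.fppfPrecoverage 𝒳') (h𝒴' : IsAlgStack Scheme.fppfPrecoverage 𝒴')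
    (ψ : IsoNat.FIsoSq f f') {P : MorphismProperty (AlgSp.Sp S)} (hf : AlgSt.LocQ P f) : AlgSt.LocQ P f' := by
  obtain ⟨U, V, x, y, h, α, hx, hxs, hy, hh⟩ := hf
  obtain ⟨x', hx'⟩ := exists_chart ψ.src h𝒳'.isStack.1 x
  obtain ⟨y', hy'⟩ := exists_chart ψ.tgt h𝒴'.isStack.1 y
  have e : IsoNat.objCls (BasedFunctor.comp x' f') = IsoNat.objCls (BasedFunctor.comp (AlgSt.overMap h) y') := by
    have e₁ : IsoNat.objCls (BasedFunctor.comp x' f') = IsoNat.mapCls f' U (IsoNat.objCls x') := rfl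
    have e₂ : IsoNat.objCls (BasedFunctor.comp x f) = IsoNat.mapCls f U (IsoNat.objCls x) := rfl
    rw [e₁, ← hx', ← ψ.comm, ← e₂, objCls_congr α]
    exact corr_comp ψ.tgt h𝒴'.isStack.1 h hy'
  obtain ⟨α'⟩ := nonempty_iso_of_objCls_eq h𝒴'.isStack.1 e
  exact ⟨U, V, x', y', h, α', smooth_transfer ψ.src h𝒳 h𝒳' hx' hx, surj_transfer ψ.src h𝒳 h𝒳' hx' hxs,
    smooth_transfer ψ.tgt h𝒴 h𝒴' hy' hy, hh⟩

end Groth.Agent.IsoNat5
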