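import Groth.Agent.Lib.IsoNat5.Dual
import Mathlib.AlgebraicGeometry.Morphisms.FormallyUnramified
import Mathlib.RingTheory.Nakayama
import Mathlib.RingTheory.Kaehler.Basic

/-!
A morphism of finite type with injective tangent maps is unramified.
-/

universe u

open CategoryTheory AlgebraicGeometry TrivSqZeroExt

namespace Groth.Agent.IsoNat5

theorem subsingleton_of_forall_functional {B M : Type u} [CommRing B] [AddCommGroup M] [Module B M] [Module.Finite B M]
    (h : ∀ (m : Ideal B) [m.IsMaximal] (l : M →ₗ[B] B ⧸ m), l = 0) : Subsingleton M := by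
  by_contra hne
  rw [not_subsingleton_iff_nontrivial] at hne
  have hann : Module.annihilator B M ≠ ⊤ := fun e => by
    obtain ⟨x, hx⟩ := exists_ne (0 : M)
    have h1 : (1 : B) ∈ Module.annihilator B M := by rw [e]; trivial
    exact hx (by simpa using Module.mem_annihilator.1 h1 x)
  obtain ⟨m, hm, hle⟩ := Ideal.exists_le_maximal _ hann
  haveI := hm
  letI : Field (B ⧸ m) := Ideal.Quotient.field m
  have hne' : ¬ (⊤ : Submodule B M) ≤ m • ⊤ := fun hle' => by
    obtain ⟨r, hr, hr0⟩ := Submodule.exists_sub_one_mem_and_smul_eq_zero_of_fg_of_le_smul m ⊤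
      Module.Finite.fg_top hle'
    have hr1 : r ∈ m := hle (Module.mem_annihilator.2 fun x => hr0 x trivial)
    exact hm.ne_top ((Ideal.eq_top_iff_one m).2 (by simpa using m.sub_mem hr1 hr))
  obtain ⟨x, -, hx⟩ := SetLike.not_le_iff_exists.1 hne'
  let Q := M ⧸ m • (⊤ : Submodule B M)
  have hx' : (Submodule.Quotient.mk x : Q) ≠ 0 := fun e => hx ((Submodule.Quotient.mk_eq_zero _).1 e)
  obtain ⟨f, hf⟩ := Module.Projective.exists_dual_ne_zero (B ⧸ m) hx'
  have := h m ((f.restrictScalars B).comp (Submodule.mkQ (m • ⊤)))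
  exact hf (by simpa using LinearMap.congr_fun this x)

theorem formallyUnramified_of_dual {A B : Type u} [CommRing A] [CommRing B] [Algebra A B]
    [Algebra.FiniteType A B]
    (h : ∀ (K : Type u) [Field K] (φ : B →+* DualNumber K),
      φ.comp (algebraMap A B) = cst.comp (red.comp (φ.comp (algebraMap A B))) → φ = cst.comp (red.comp φ)) :
    Algebra.FormallyUnramified A B := by
  refine ⟨subsingleton_of_forall_functional (B := B) fun m _ l => ?_⟩
  letI : Field (B ⧸ m) := Ideal.Quotient.field m
  let D := KaehlerDifferential.D A B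
  let φ : B →+* DualNumber (B ⧸ m) :=
    { toFun := fun b => inl (Ideal.Quotient.mk m b) + inr (l (D b))
      map_one' := by ext <;> simp
      map_mul' := fun a b => by
        ext
        · simp
        · simp [Algebra.smul_def, Ideal.Quotient.algebraMap_eq, TrivSqZeroExt.algebraMap_eq_inl]
          ring
      map_zero' := by ext <;> simp
      map_add' := fun a b => by ext <;> simp }
  have hφ := h (B ⧸ m) φ (RingHom.ext fun a => by ext <;> simp [φ])
  apply LinearMap.ext_on_range (KaehlerDifferential.span_range_derivation A B)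
  intro b
  have := congrArg TrivSqZeroExt.snd (congrArg (fun r : B →+* DualNumber (B ⧸ m) => r b) hφ)
  simpa [φ] using this

/-- the tangent vectors `ε ↦ 0` -/
theorem formallyUnramified_of_test {S : Scheme.{u}} {W V : Over S} (k : W ⟶ V) [LocallyOfFiniteType k.left]
    (h : ∀ (K : Type u) [Field K] (str : Spec (CommRingCat.of K) ⟶ S) (v : dualK str (RingHom.id K) ⟶ W)
      (ρ : dualK str (RingHom.id K) ⟶ dualK str (RingHom.id K)),
      ρ.left = Spec.map (CommRingCat.ofHom (mapD (RingHom.id K) 0)) → ρ ≫ v ≫ k = v ≫ k → ρ ≫ v = v) :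
    FormallyUnramified k.left := by
  refine ⟨fun {U} hU {V'} hV e => ?_⟩
  algebraize [(k.left.appLE U V' e).hom]
  haveI : Algebra.FiniteType Γ(V.left, U) Γ(W.left, V') := k.left.finiteType_appLE hU hV e
  refine formallyUnramified_of_dual fun K _ φ hφ => ?_
  let f : CommRingCat.of (DualNumber K) ⟶ CommRingCat.of (DualNumber K) :=
    CommRingCat.ofHom (mapD (RingHom.id K) 0)
  let φ' : Γ(W.left, V') ⟶ CommRingCat.of (DualNumber K) := CommRingCat.ofHom φ
  let ψ : Γ(W.left, V') ⟶ CommRingCat.of K := CommRingCat.ofHom (red.comp φ)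
  let str : Spec (CommRingCat.of K) ⟶ S := Spec.map ψ ≫ hV.fromSpec ≫ W.hom
  have hsq := IsAffineOpen.SpecMap_appLE_fromSpec k.left hU hV e
  have key : k.left.appLE U V' e ≫ φ' = k.left.appLE U V' e ≫ ψ ≫ CommRingCat.ofHom cst := CommRingCat.hom_ext hφ
  have hstr : (Spec.map φ' ≫ hV.fromSpec) ≫ W.hom = Spec.map (CommRingCat.ofHom (cst.comp (RingHom.id K))) ≫ str := by
    have e1 : hV.fromSpec ≫ W.hom = Spec.map (k.left.appLE U V' e) ≫ hU.fromSpec ≫ V.hom := by
      rw [reassoc_of% hsq, Over.w k]
    show (Spec.map φ' ≫ hV.fromSpec) ≫ W.hom = Spec.map (CommRingCat.ofHom cst) ≫ Spec.map ψ ≫ hV.fromSpec ≫ W.hom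
    rw [Category.assoc, e1]
    simp only [← Category.assoc, ← Spec.map_comp]
    rw [key]
    simp only [Category.assoc]
  let v : dualK str (RingHom.id K) ⟶ W := Over.homMk (Spec.map φ' ≫ hV.fromSpec) hstr
  let ρ : dualK str (RingHom.id K) ⟶ dualK str (RingHom.id K) :=
    specK str (mapD (RingHom.id K) 0) (RingHom.ext fun x => by ext <;> simp)
  have hv := congrArg (fun w => w.left) (h K str v ρ rfl (by
    apply Over.OverMorphism.ext
    show Spec.map f ≫ (Spec.map φ' ≫ hV.fromSpec) ≫ k.left = (Spec.map φ' ≫ hV.fromSpec) ≫ k.left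
    simp only [Category.assoc, ← hsq]
    simp only [← Category.assoc, ← Spec.map_comp]
    congr 2
    rw [Category.assoc]
    apply CommRingCat.hom_ext
    show (mapD (RingHom.id K) 0).comp (φ.comp (algebraMap Γ(V.left, U) Γ(W.left, V'))) =
      φ.comp (algebraMap Γ(V.left, U) Γ(W.left, V'))
    rw [← cst_comp_red, RingHom.comp_assoc]
    exact hφ.symm))
  change Spec.map f ≫ Spec.map φ' ≫ hV.fromSpec = Spec.map φ' ≫ hV.fromSpec at hv
  rw [← Category.assoc, cancel_mono, ← Spec.map_comp] at hv
  have h2 := congrArg (fun r => r.hom) (Spec.map_injective hv)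
  show φ = cst.comp (red.comp φ)
  rw [← RingHom.comp_assoc, cst_comp_red]
  exact h2.symm

end Groth.Agent.IsoNat5
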