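import Groth.Agent.Lib.IsoNat5.InfAut
import Groth.Agent.Lib.IsoNat5.UnrTest
import Groth.Agent.Lib.IsoNat5.Charts
import Groth.Agent.Lib.AlgSpDescent.Instances
import Groth.Agent.Lib.StAlg16.Inertia

/-!
Unramified charts are detected by the classes.
-/

universe u

open CategoryTheory CategoryTheory.Functor CategoryTheory.Limits AlgebraicGeometry Opposite

set_option linter.style.haveILetI false
set_option linter.unusedSectionVars false
set_option backward.isDefEq.respectTransparency false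
set_option backward.isDefEq.respectTransparency.types false

namespace Groth.Agent.IsoNat5

open Groth.Agent.FC16 Groth.Agent.StAlg Groth.Agent.StAlg16 AlgSt

variable {S : Scheme.{u}} {𝒳 𝒴 : AlgSt.Cat S} {U V : Over S}

namespace SecObj

variable {𝒵 : AlgSt.Cat S} {F : AlgSp.Sp S} {z : FibCat.overCat V ⥤ᵇ 𝒳} {w : 𝒵 ⥤ᵇ 𝒳}
  {e : AlgSt.ofSp F ⥤ᵇ FibCat.fp z w} {T : Over S} {v : T ⟶ V}

/-- recognising the section of an object -/
theorem sec_eq_of_hom (he : FibCat.IsEquivOver e) (ξ : SecObj z w v) (s : F.obj.obj (op T))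
    (κ : e.obj ⟨T, s⟩ ⟶ ξ.toFp) (hκ : (FibCat.fp z w).p.IsHomLift (𝟙 T) κ) :
    sec he ξ = AlgSpace.sect.symm s := by
  obtain ⟨θ, hθ⟩ := (exists_section he ξ).choose_spec
  haveI := hθ
  haveI := hκ
  haveI := isEquivalence_of_isEquivOver he
  obtain ⟨μ, hμ⟩ := e.toFunctor.map_surjective (κ ≫ θ.inv)
  haveI hμ' : (AlgSt.ofSp F).p.IsHomLift (𝟙 T) μ := by
    rw [← BasedFunctor.isHomLift_iff e, hμ]
    infer_instance
  have hμf : μ.hom = 𝟙 T := (IsHomLift.fac' (AlgSt.ofSp F).p (𝟙 T) μ).trans (by simp)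
  refine congrArg AlgSpace.sect.symm ?_
  have h1 : F.obj.map (𝟙 T : T ⟶ T).op (exists_section he ξ).choose = s :=
    (congrArg (fun q : T ⟶ T => F.obj.map q.op (exists_section he ξ).choose) hμf).symm.trans μ.map_sec
  have h2 : F.obj.map (𝟙 T : T ⟶ T).op (exists_section he ξ).choose = (exists_section he ξ).choose := by
    rw [op_id, F.obj.map_id]
    rfl
  exact h2.symm.trans h1

end SecObj

section Rep

variable {F : AlgSp.Sp S} {z : FibCat.overCat V ⥤ᵇ 𝒳} {x : FibCat.overCat U ⥤ᵇ 𝒳}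
  {e : AlgSt.ofSp F ⥤ᵇ FibCat.fp z x}

/-- every section is given by an isomorphism of charts -/
theorem exists_secObjOf (he : FibCat.IsEquivOver e) {T : Over S} (l : (AlgSp.yon S).obj T ⟶ F) (v : T ⟶ V)
    (hl : l ≫ AlgSt.spMapOfOver (BasedFunctor.comp e (FibCat.fpFst z x)) = (AlgSp.yon S).map v) :
    ∃ (u : T ⟶ U) (i : Iso1 x u z v), (secObjOf i).sec he = l := by
  let a₀ : (AlgSt.ofSp F).obj := ⟨T, AlgSpace.sect l⟩
  have hv : AlgSt.secHom (BasedFunctor.comp e (FibCat.fpFst z x)) a₀ = v := (sect_comp l v).1 hl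
  let o1 : Over.mk v ≅ (e.obj a₀).obj.fst := eqToIso (congrArg Over.mk hv.symm) ≪≫ secFstIso (e := e) a₀
  haveI ho1 : (FibCat.overCat V).p.IsHomLift (𝟙 T) o1.hom := by
    refine IsHomLift.of_fac' _ _ _ rfl ((BasedFunctor.comp e (FibCat.fpFst z x)).w_obj a₀) ?_
    show (eqToHom (congrArg Over.mk hv.symm) ≫ (secFstIso (e := e) a₀).hom).left = _
    rw [Over.comp_left, Over.eqToHom_left]
    simp [secFstIso]
  let o2 := secSndIso (e := e) a₀
  haveI ho2 : (FibCat.overCat U).p.IsHomLift (𝟙 T) o2.hom := secSndIso_lift (e := e) a₀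
  haveI := iso_lift (e.obj a₀) (U := T) ((BasedFunctor.comp e (FibCat.fpFst z x)).w_obj a₀)
  haveI := BasedFunctor.preserves_isHomLift x (𝟙 T) o2.hom
  haveI := BasedFunctor.preserves_isHomLift z (𝟙 T) o1.inv
  let i : Iso1 x (secSnd (e := e) a₀) z v :=
    ⟨x.toFunctor.mapIso o2 ≪≫ (e.obj a₀).obj.iso.symm ≪≫ z.toFunctor.mapIso o1.symm, by
      show 𝒳.p.IsHomLift (𝟙 T) (x.map o2.hom ≫ (e.obj a₀).obj.iso.inv ≫ z.map o1.inv)
      infer_instance⟩
  refine ⟨secSnd (e := e) a₀, i, ?_⟩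
  let κ : e.obj ⟨T, AlgSpace.sect l⟩ ⟶ (secObjOf i).toFp := ObjectProperty.homMk
    { fst := o1.inv
      snd := o2.inv
      w := by
        show z.map o1.inv ≫ (z.map o1.symm.inv ≫ (e.obj a₀).obj.iso.hom) ≫ x.map o2.inv =
          (e.obj a₀).obj.iso.hom ≫ x.map o2.inv
        rw [← Category.assoc, ← Category.assoc, ← Functor.map_comp]
        show (z.map (o1.inv ≫ o1.hom) ≫ _) ≫ _ = _
        rw [o1.inv_hom_id, CategoryTheory.Functor.map_id, Category.id_comp] }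
  have hκ : (FibCat.fp z x).p.IsHomLift (𝟙 T) κ :=
    @isHomLift_of_fst _ _ _ _ _ _ _ _ _ _ _ _ _ (show (FibCat.overCat V).p.IsHomLift (𝟙 T) o1.inv by infer_instance)
  rw [SecObj.sec_eq_of_hom he _ _ κ hκ]
  exact AlgSpace.sect.symm_apply_apply l

end Rep

theorem eq_refl_of_infAut {h𝒳 : FibCat.IsFibGrpd 𝒳.p} {x : FibCat.overCat U ⥤ᵇ 𝒳} (hA : InfAut h𝒳 x)
    {K : Type u} [Field K] {str : Spec (CommRingCat.of K) ⟶ S} {g : dualK str (RingHom.id K) ⟶ U}
    (hg : rho str (RingHom.id K) ≫ g = g) (a : Iso1 x g x g)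
    (ha : Iso1.pb h𝒳 a (rho str (RingHom.id K)) hg hg = Iso1.refl x g) : a = Iso1.refl x g := by
  obtain ⟨u₀, rfl⟩ : ∃ u₀, g = prK str ≫ u₀ :=
    ⟨i0K str ≫ g, by rw [← Category.assoc, ← rho_eq, hg]⟩
  exact hA K str u₀ a ha

/-- tangent vectors of an etale chart of the fibre product with the same image are constant there -/
theorem yon_eq_of_points (h𝒳 : FibCat.IsFibGrpd 𝒳.p) {x : FibCat.overCat U ⥤ᵇ 𝒳} {F : AlgSp.Sp S}
    {z : FibCat.overCat V ⥤ᵇ 𝒳} {e : AlgSt.ofSp F ⥤ᵇ FibCat.fp z x} (he : FibCat.IsEquivOver e)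
    {T : Over S} {ρ : T ⟶ T} (hρρ : ρ ≫ ρ = ρ)
    (hD : ∀ u : T ⟶ U, IsoNat.cls (⟨x.obj (Over.mk u), x.w_obj _⟩ : 𝒳.p.Fiber T) =
      IsoNat.cls (⟨x.obj (Over.mk (ρ ≫ u)), x.w_obj _⟩ : 𝒳.p.Fiber T) → ρ ≫ u = u)
    (hA : ∀ (g : T ⟶ U) (hg : ρ ≫ g = g) (a : Iso1 x g x g), Iso1.pb h𝒳 a ρ hg hg = Iso1.refl x g →
      a = Iso1.refl x g)
    (l : (AlgSp.yon S).obj T ⟶ F) (v : T ⟶ V) (hv : ρ ≫ v = v)
    (hl : l ≫ AlgSt.spMapOfOver (BasedFunctor.comp e (FibCat.fpFst z x)) = (AlgSp.yon S).map v) :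
    (AlgSp.yon S).map ρ ≫ l = l := by
  obtain ⟨u, i, rfl⟩ := exists_secObjOf he l v hl
  have hu : ρ ≫ u = u := hD u ((Iso1.cls_eq i).trans (Iso1.cls_eq (Iso1.pb h𝒳 i ρ rfl hv)).symm)
  let i' := Iso1.pb h𝒳 i ρ hu hv
  have hi' : Iso1.pb h𝒳 i' ρ hu hv = i' := by
    simp only [i', Iso1.pb_pb]
    exact Iso1.pb_congr h𝒳 i hρρ _ _
  have hii : i = i' := by
    have h1 := hA u hu (i.trans i'.symm) (by
      rw [Iso1.pb_trans h𝒳 i i'.symm _ hu hv hu, Iso1.pb_symm h𝒳 i' _ hu hv, hi']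
      exact Iso1.trans_symm i')
    refine (Iso1.trans_right_cancel i'.symm ?_)
    rw [h1, Iso1.trans_symm]
  rw [secObjOf_pb h𝒳 he i ρ hu hv]
  exact congrArg (fun r => (secObjOf r).sec he) hii.symm

/-- infinitesimally close points of an etale chart with the same image are equal -/
theorem eq_of_etale_yon {F : AlgSp.Sp S} {W : Over S} {p : (AlgSp.yon S).obj W ⟶ F}
    (hp : AlgSp.RepWith @Etale p) {A : CommRingCat.{u}} (I : Ideal A) (hI : I ^ 2 = ⊥) (str : Spec A ⟶ S)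
    (v v' : Over.mk str ⟶ W) (hj : thick I str ≫ v = thick I str ≫ v')
    (h : (AlgSp.yon S).map v ≫ p = (AlgSp.yon S).map v' ≫ p) : v = v' := by
  have hf := (AlgSpDescent.formallyEtale_iff.1 (AlgSpDescent.formallyEtale_of_etale hp)).2
  let sq : AlgSp.InfSq p :=
    ⟨A, I, hI, str, (AlgSp.yon S).map (thick I str ≫ v), (AlgSp.yon S).map v ≫ p,
      (congrArg (· ≫ p) (Functor.map_comp _ _ _)).trans (Category.assoc _ _ _)⟩
  refine (AlgSp.yon S).map_injective (hf sq _ _ ?_ rfl ?_ h.symm)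
  · exact (Functor.map_comp _ _ _).symm
  · exact (Functor.map_comp _ _ _).symm.trans (congrArg (AlgSp.yon S).map hj.symm)

/-- a chart with injective tangent maps and no infinitesimal automorphisms is unramified -/
theorem unramified_of_points (h𝒳 : FibCat.IsFibGrpd 𝒳.p) {x : FibCat.overCat U ⥤ᵇ 𝒳}
    (hl : AlgSt.RepByAlgSpWith (AlgSp.LocP @LocallyOfFiniteType) x) (hD : DualInj x) (hA : InfAut h𝒳 x) :
    AlgSt.RepByAlgSpWith (AlgSp.LocP (@LocallyOfFiniteType ⊓ @FormallyUnramified)) x := by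
  intro V z
  obtain ⟨F, e, he, hP⟩ := hl V z
  refine ⟨F, e, he, ?_⟩
  let a := AlgSt.spMapOfOver (BasedFunctor.comp e (FibCat.fpFst z x))
  suffices hu : AlgSp.LocP @FormallyUnramified a from
    fun W W' p q h hp hq w => ⟨hP p q h hp hq w, hu p q h hp hq w⟩
  obtain ⟨W, p, hp, hps⟩ := F.property.atlas
  obtain ⟨k, hk⟩ := (AlgSp.yon S).map_surjective (p ≫ a)
  have hid : AlgSp.RepWith @Etale (𝟙 ((AlgSp.yon S).obj V)) := AlgSp.repWith_id _ V
  haveI : LocallyOfFiniteType k.left := hP p (𝟙 _) k hp hid (by rw [Category.comp_id, hk])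
  refine (AlgSpDescent.isFormallyUnramifiedMor_iff_locP F.property (AlgSp.IsAlgSpace.yon_obj V) a).1
    (AlgSpDescent.formallyUnramified_of_chart hp hid (h := k) (by rw [Category.comp_id, hk]) hps ?_)
  refine formallyUnramified_of_test k fun K _ str v ρ hρ hvk => ?_
  obtain rfl : ρ = rho str (RingHom.id K) := Over.OverMorphism.ext hρ
  have hl := yon_eq_of_points h𝒳 he (rho_rho str (RingHom.id K)) (hD K str)
    (fun g hg b hb => eq_refl_of_infAut hA hg b hb) ((AlgSp.yon S).map v ≫ p) (v ≫ k) hvk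
    (by rw [Category.assoc, ← hk, ← Functor.map_comp])
  refine eq_of_etale_yon hp (A := CommRingCat.of (DualNumber K)) (RingHom.ker (red (A := K))) sq_ker_red _ _ _ ?_ ?_
  · rw [← Category.assoc, thick_rho str (RingHom.id K)]
  · rw [Functor.map_comp, Category.assoc]
    exact hl

/-- being unramified is detected by the classes -/
theorem unramified_transfer (h𝒳 : IsAlgStack Scheme.fppfPrecoverage 𝒳) (h𝒴 : IsAlgStack Scheme.fppfPrecoverage 𝒴)
    (hd : AlgSt.RepByAlgSpWith AlgSp.IsSeparatedMor (FibCat.diag (FibCat.toSelf 𝒴))) (φ : IsoNat.FIso 𝒳 𝒴)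
    {x : FibCat.overCat U ⥤ᵇ 𝒳} {y : FibCat.overCat U ⥤ᵇ 𝒴}
    (hxy : φ.toEquiv U (IsoNat.objCls x) = IsoNat.objCls y)
    (hx : AlgSt.RepByAlgSpWith (AlgSp.LocP (@LocallyOfFiniteType ⊓ @FormallyUnramified)) x) :
    AlgSt.RepByAlgSpWith (AlgSp.LocP (@LocallyOfFiniteType ⊓ @FormallyUnramified)) y :=
  unramified_of_points h𝒴.isStack.1 (lft_transfer φ h𝒳 h𝒴 hxy (with_locP_mono inf_le_left hx))
    (dualInj_transfer h𝒴.isStack.1 φ hxy (dualInj_of_unramified h𝒳.isStack.1 (with_locP_mono inf_le_right hx)))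
    (infAut_transfer h𝒳 h𝒴 hd φ hxy (with_locP_mono inf_le_right hx))

theorem etale_of_smooth_unramified {X Y : Scheme.{u}} (f : X ⟶ Y) [Smooth f] [FormallyUnramified f] : Etale f := by
  refine HasRingHomProperty.iff_appLE (P := @Etale) |>.2 fun U V e => ?_
  have h1 := HasRingHomProperty.appLE (P := @Smooth) f ‹Smooth f› U V e
  have h2 := HasRingHomProperty.appLE (P := @FormallyUnramified) f ‹_› U V e
  algebraize [(f.appLE U.1 V.1 e).hom]
  haveI : Algebra.Smooth Γ(Y, U.1) Γ(X, V.1) := h1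
  haveI : Algebra.FormallyUnramified Γ(Y, U.1) Γ(X, V.1) := h2
  haveI : Algebra.FormallyEtale Γ(Y, U.1) Γ(X, V.1) := Algebra.FormallyEtale.of_formallyUnramified_and_formallySmooth
  exact (⟨inferInstance, inferInstance⟩ : Algebra.Etale Γ(Y, U.1) Γ(X, V.1))

/-- being etale is detected by the classes -/
theorem etale_transfer (h𝒳 : IsAlgStack Scheme.fppfPrecoverage 𝒳) (h𝒴 : IsAlgStack Scheme.fppfPrecoverage 𝒴)
    (hd : AlgSt.RepByAlgSpWith AlgSp.IsSeparatedMor (FibCat.diag (FibCat.toSelf 𝒴))) (φ : IsoNat.FIso 𝒳 𝒴)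
    {x : FibCat.overCat U ⥤ᵇ 𝒳} {y : FibCat.overCat U ⥤ᵇ 𝒴}
    (hxy : φ.toEquiv U (IsoNat.objCls x) = IsoNat.objCls y) (hx : AlgSt.RepByAlgSpWith AlgSp.IsEtaleMor x) :
    AlgSt.RepByAlgSpWith AlgSp.IsEtaleMor y := by
  have hE : AlgSt.RepByAlgSpWith (AlgSp.LocP @Etale) x :=
    repByAlgSpWith_mono (fun _ _ _ _ ha => AlgSpDescent.locP_etale_of_isEtaleMor ha) hx
  have hs := smooth_transfer φ h𝒳 h𝒴 hxy (with_locP_mono (fun _ _ f (_ : Etale f) => (inferInstance : Smooth f)) hE)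
  have hu := unramified_transfer h𝒳 h𝒴 hd φ hxy
    (with_locP_mono (fun _ _ f (_ : Etale f) => ⟨inferInstance, inferInstance⟩) hE)
  have h2 := with_inf (preIso_of_pullback pbP_locP) (preIso_of_pullback pbP_locP) (overCat_isFibGrpd U)
    h𝒴.isStack.1 hs hu
  refine repByAlgSpWith_mono (fun F hF W a ha => AlgSpDescent.isEtaleMor_of_locP_etale hF
    (AlgSp.IsAlgSpace.yon_obj W) fun W' V' p q h hp hq w => ?_) h2
  haveI : Smooth h.left := ha.1 p q h hp hq w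
  haveI : FormallyUnramified h.left := (ha.2 p q h hp hq w).2
  exact etale_of_smooth_unramified h.left

end Groth.Agent.IsoNat5
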