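import Groth.Agent.Lib.IsoNat5.Transfer

/-!
Isomorphisms over the base between values of charts, with their pullbacks.
-/

universe u

open CategoryTheory CategoryTheory.Functor CategoryTheory.Limits AlgebraicGeometry Opposite

set_option linter.style.haveILetI false
set_option linter.unusedSectionVars false
set_option backward.isDefEq.respectTransparency false
set_option backward.isDefEq.respectTransparency.types false

namespace Groth.Agent.IsoNat5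

open Groth.Agent.FC16 Groth.Agent.StAlg AlgSt

variable {S : Scheme.{u}} {𝒳 : AlgSt.Cat S} {A B C T T' T'' : Over S}
  {X : FibCat.overCat A ⥤ᵇ 𝒳} {Y : FibCat.overCat B ⥤ᵇ 𝒳} {Z : FibCat.overCat C ⥤ᵇ 𝒳}

/-- an isomorphism over `T` between the pullbacks of two charts -/
@[ext]
structure Iso1 (X : FibCat.overCat A ⥤ᵇ 𝒳) (g : T ⟶ A) (Y : FibCat.overCat B ⥤ᵇ 𝒳) (t : T ⟶ B) where
  /-- the isomorphism -/
  iso : X.obj (Over.mk g) ≅ Y.obj (Over.mk t)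
  lift : 𝒳.p.IsHomLift (𝟙 T) iso.hom

namespace Iso1

variable {g : T ⟶ A} {t : T ⟶ B} {s : T ⟶ C}

/-- the identity -/
noncomputable def refl (X : FibCat.overCat A ⥤ᵇ 𝒳) (g : T ⟶ A) : Iso1 X g X g where
  iso := Iso.refl _
  lift := IsHomLift.id (X.w_obj (Over.mk g))

/-- composition -/
noncomputable def trans (e : Iso1 X g Y t) (e' : Iso1 Y t Z s) : Iso1 X g Z s where
  iso := e.iso ≪≫ e'.iso
  lift := by
    haveI := e.lift
    haveI := e'.lift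
    show 𝒳.p.IsHomLift (𝟙 T) (e.iso.hom ≫ e'.iso.hom)
    infer_instance

/-- the inverse -/
noncomputable def symm (e : Iso1 X g Y t) : Iso1 Y t X g where
  iso := e.iso.symm
  lift := by
    haveI := e.lift
    exact IsHomLift.lift_id_inv 𝒳.p T e.iso

theorem trans_assoc {D : Over S} {W : FibCat.overCat D ⥤ᵇ 𝒳} {d : T ⟶ D} (e : Iso1 X g Y t)
    (e' : Iso1 Y t Z s) (e'' : Iso1 Z s W d) : (e.trans e').trans e'' = e.trans (e'.trans e'') :=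
  Iso1.ext (Iso.trans_assoc _ _ _)

@[simp] theorem refl_trans (e : Iso1 X g Y t) : (refl X g).trans e = e := Iso1.ext (Iso.refl_trans _)
@[simp] theorem trans_refl (e : Iso1 X g Y t) : e.trans (refl Y t) = e := Iso1.ext (Iso.trans_refl _)
@[simp] theorem symm_trans (e : Iso1 X g Y t) : e.symm.trans e = refl Y t := Iso1.ext (Iso.symm_self_id _)
@[simp] theorem trans_symm (e : Iso1 X g Y t) : e.trans e.symm = refl X g := Iso1.ext (Iso.self_symm_id _)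

@[simp] theorem refl_symm (X : FibCat.overCat A ⥤ᵇ 𝒳) (g : T ⟶ A) : (refl X g).symm = refl X g := Iso1.ext rfl

theorem trans_left_cancel (e : Iso1 X g Y t) {e₁ e₂ : Iso1 Y t Z s} (h : e.trans e₁ = e.trans e₂) : e₁ = e₂ := by
  have h' := congrArg e.symm.trans h
  rwa [← trans_assoc, ← trans_assoc, symm_trans, refl_trans, refl_trans] at h'

theorem trans_right_cancel (e : Iso1 Y t Z s) {e₁ e₂ : Iso1 X g Y t} (h : e₁.trans e = e₂.trans e) : e₁ = e₂ := by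
  have h' := congrArg (fun w => Iso1.trans w e.symm) h
  simpa [trans_assoc] using h'

section Pullback

variable (h𝒳 : FibCat.IsFibGrpd 𝒳.p) {g' : T' ⟶ A} {t' : T' ⟶ B} {s' : T' ⟶ C}

include h𝒳 in
theorem exists_pb (e : Iso1 X g Y t) (f : T' ⟶ T) (hg : f ≫ g = g') (ht : f ≫ t = t') :
    ∃ e' : Iso1 X g' Y t', e'.iso.hom ≫ Y.map (sl f ht) = X.map (sl f hg) ≫ e.iso.hom := by
  haveI := e.lift
  haveI := map_sl_lift X f hg
  haveI := map_sl_lift Y f ht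
  haveI : 𝒳.p.IsHomLift f (X.map (sl f hg) ≫ e.iso.hom) := inferInstance
  obtain ⟨i, hi, hie⟩ := exists_iso_of_lifts h𝒳 f (X.map (sl f hg) ≫ e.iso.hom) (Y.map (sl f ht))
  exact ⟨⟨i, hi⟩, hie⟩

/-- the pullback along `f` -/
noncomputable def pb (e : Iso1 X g Y t) (f : T' ⟶ T) (hg : f ≫ g = g') (ht : f ≫ t = t') : Iso1 X g' Y t' :=
  (exists_pb h𝒳 e f hg ht).choose

theorem pb_spec (e : Iso1 X g Y t) (f : T' ⟶ T) (hg : f ≫ g = g') (ht : f ≫ t = t') :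
    (pb h𝒳 e f hg ht).iso.hom ≫ Y.map (sl f ht) = X.map (sl f hg) ≫ e.iso.hom :=
  (exists_pb h𝒳 e f hg ht).choose_spec

include h𝒳 in
theorem pb_unique {e : Iso1 X g Y t} {f : T' ⟶ T} {hg : f ≫ g = g'} {ht : f ≫ t = t'} (e₁ : Iso1 X g' Y t')
    (h : e₁.iso.hom ≫ Y.map (sl f ht) = X.map (sl f hg) ≫ e.iso.hom) : pb h𝒳 e f hg ht = e₁ := by
  haveI := map_sl_lift Y f ht
  haveI := FC16.isStronglyCartesian h𝒳 f (Y.map (sl f ht))
  haveI := (pb h𝒳 e f hg ht).lift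
  haveI := e₁.lift
  refine Iso1.ext (Iso.ext ?_)
  exact IsStronglyCartesian.ext 𝒳.p f (Y.map (sl f ht)) (𝟙 T') ((pb_spec h𝒳 e f hg ht).trans h.symm)

include h𝒳 in
theorem pb_trans (e : Iso1 X g Y t) (e' : Iso1 Y t Z s) (f : T' ⟶ T) (hg : f ≫ g = g') (ht : f ≫ t = t')
    (hs : f ≫ s = s') : pb h𝒳 (e.trans e') f hg hs = (pb h𝒳 e f hg ht).trans (pb h𝒳 e' f ht hs) := by
  refine pb_unique h𝒳 _ ?_
  show (_ ≫ _) ≫ _ = _
  rw [Category.assoc, pb_spec, ← Category.assoc, pb_spec, Category.assoc]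
  rfl

include h𝒳 in
theorem pb_refl (f : T' ⟶ T) (hg : f ≫ g = g') : pb h𝒳 (refl X g) f hg hg = refl X g' := by
  refine pb_unique h𝒳 _ ?_
  show 𝟙 _ ≫ _ = _ ≫ 𝟙 _
  rw [Category.id_comp, Category.comp_id]

include h𝒳 in
theorem pb_symm (e : Iso1 X g Y t) (f : T' ⟶ T) (hg : f ≫ g = g') (ht : f ≫ t = t') :
    pb h𝒳 e.symm f ht hg = (pb h𝒳 e f hg ht).symm := by
  refine pb_unique h𝒳 _ ?_
  show (pb h𝒳 e f hg ht).iso.inv ≫ _ = _ ≫ e.iso.inv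
  rw [Iso.eq_comp_inv, Category.assoc, ← pb_spec h𝒳 e f hg ht, Iso.inv_hom_id_assoc]

include h𝒳 in
theorem pb_pb (e : Iso1 X g Y t) (f : T' ⟶ T) (hg : f ≫ g = g') (ht : f ≫ t = t') (f' : T'' ⟶ T')
    {g'' : T'' ⟶ A} {t'' : T'' ⟶ B} (hg' : f' ≫ g' = g'') (ht' : f' ≫ t' = t'') :
    pb h𝒳 (pb h𝒳 e f hg ht) f' hg' ht' =
      pb h𝒳 e (f' ≫ f) (by rw [Category.assoc, hg, hg']) (by rw [Category.assoc, ht, ht']) := by
  refine (pb_unique h𝒳 _ ?_).symm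
  have eY : sl (f' ≫ f) (show (f' ≫ f) ≫ t = t'' by rw [Category.assoc, ht, ht']) = sl f' ht' ≫ sl f ht :=
    Over.OverMorphism.ext rfl
  have eX : sl (f' ≫ f) (show (f' ≫ f) ≫ g = g'' by rw [Category.assoc, hg, hg']) = sl f' hg' ≫ sl f hg :=
    Over.OverMorphism.ext rfl
  rw [eY, eX, Functor.map_comp, Functor.map_comp, ← Category.assoc, pb_spec, Category.assoc,
    pb_spec h𝒳 e f hg ht, Category.assoc]

include h𝒳 in
theorem pb_id (e : Iso1 X g Y t) : pb h𝒳 e (𝟙 T) (Category.id_comp g) (Category.id_comp t) = e := by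
  refine pb_unique h𝒳 _ ?_
  have eY : sl (𝟙 T) (Category.id_comp t) = 𝟙 _ := Over.OverMorphism.ext rfl
  have eX : sl (𝟙 T) (Category.id_comp g) = 𝟙 _ := Over.OverMorphism.ext rfl
  rw [eY, eX, CategoryTheory.Functor.map_id, CategoryTheory.Functor.map_id, Category.comp_id, Category.id_comp]

include h𝒳 in
theorem pb_congr (e : Iso1 X g Y t) {f f' : T' ⟶ T} (hf : f = f') (hg : f ≫ g = g') (ht : f ≫ t = t') :
    pb h𝒳 e f hg ht = pb h𝒳 e f' (hf ▸ hg) (hf ▸ ht) := by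
  subst hf
  rfl

end Pullback

/-- equal maps give isomorphic pullbacks -/
noncomputable def ofEq (X : FibCat.overCat A ⥤ᵇ 𝒳) {g₁ g₂ : T ⟶ A} (h : g₁ = g₂) : Iso1 X g₁ X g₂ := by
  subst h
  exact refl X g₁

@[simp] theorem ofEq_rfl (X : FibCat.overCat A ⥤ᵇ 𝒳) (g : T ⟶ A) : ofEq X (rfl : g = g) = refl X g := rfl

theorem pb_ofEq (h𝒳 : FibCat.IsFibGrpd 𝒳.p) {g₁ g₂ : T ⟶ A} (h : g₁ = g₂) {g₁' g₂' : T' ⟶ A} (f : T' ⟶ T)
    (h₁ : f ≫ g₁ = g₁') (h₂ : f ≫ g₂ = g₂') :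
    pb h𝒳 (ofEq X h) f h₁ h₂ = ofEq X (by rw [← h₁, ← h₂, h]) := by
  subst h
  obtain rfl : g₁' = g₂' := h₁.symm.trans h₂
  exact pb_refl h𝒳 f h₁

/-- isomorphic charts -/
noncomputable def ofIso {X Y : FibCat.overCat A ⥤ᵇ 𝒳} (i : X ≅ Y) (g : T ⟶ A) : Iso1 X g Y g where
  iso := appIso i (Over.mk g)
  lift := isHomLift_appIso_hom i _ rfl

theorem pb_ofIso (h𝒳 : FibCat.IsFibGrpd 𝒳.p) {X Y : FibCat.overCat A ⥤ᵇ 𝒳} (i : X ≅ Y) {g' : T' ⟶ A}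
    (f : T' ⟶ T) (h : f ≫ g = g') : pb h𝒳 (ofIso i g) f h h = ofIso i g' :=
  pb_unique h𝒳 _ (i.hom.toNatTrans.naturality (sl f h)).symm

theorem cls_eq (e : Iso1 X g Y t) :
    IsoNat.cls (⟨X.obj (Over.mk g), X.w_obj _⟩ : 𝒳.p.Fiber T) =
      IsoNat.cls (⟨Y.obj (Over.mk t), Y.w_obj _⟩ : 𝒳.p.Fiber T) :=
  cls_eq_of_lifts _ _ e.iso e.lift

theorem nonempty_of_cls_eq (h : IsoNat.cls (⟨X.obj (Over.mk g), X.w_obj _⟩ : 𝒳.p.Fiber T) =
      IsoNat.cls (⟨Y.obj (Over.mk t), Y.w_obj _⟩ : 𝒳.p.Fiber T)) : Nonempty (Iso1 X g Y t) := by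
  obtain ⟨i, hi⟩ := exists_iso_of_cls_eq h
  exact ⟨⟨i, hi⟩⟩

end Iso1

end Groth.Agent.IsoNat5
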