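import Groth.Agent.Lib.IsoNat5.Extend
import Groth.Agent.Lib.AlgSpace.DVRCriterion
import Groth.Agent.Lib.AlgSpace.DVRSeparated
import Groth.Agent.Lib.AlgSpace.ValClosed
import Groth.Agent.Lib.AlgSpace.ValLift
import Mathlib.RingTheory.DiscreteValuationRing.Basic

/-!
Properness of the inertia from extension of automorphisms along discrete valuation rings.
-/

universe u

open CategoryTheory CategoryTheory.Functor CategoryTheory.Limits AlgebraicGeometry Opposite

set_option linter.style.haveILetI false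
set_option linter.unusedSectionVars false
set_option backward.isDefEq.respectTransparency false
set_option backward.isDefEq.respectTransparency.types false

namespace Groth.Agent.IsoNat5

open Groth.Agent.FC16 Groth.Agent.StAlg Groth.Agent.StAlg16 AlgSt

variable {S : Scheme.{u}} {𝒳 𝒴 : AlgSt.Cat S}

/-- the fraction field of a discrete valuation ring is a localisation away from a uniformiser -/
theorem isOpenImmersion_fractionField (A K : Type u) [CommRing A] [IsDomain A] [IsDiscreteValuationRing A]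
    [Field K] [Algebra A K] [IsFractionRing A K] :
    IsOpenImmersion (Spec.map (CommRingCat.ofHom (algebraMap A K))) := by
  obtain ⟨ϖ, hϖ⟩ := IsDiscreteValuationRing.exists_irreducible A
  have hne : algebraMap A K ϖ ≠ 0 := by simpa using hϖ.ne_zero
  haveI : IsLocalization.Away ϖ K := IsLocalization.Away.mk _ (isUnit_iff_ne_zero.2 hne) (fun z => by
    obtain ⟨a, b, hb, rfl⟩ := IsFractionRing.div_surjective A z
    obtain ⟨n, v, rfl⟩ := IsDiscreteValuationRing.eq_unit_mul_pow_irreducible (nonZeroDivisors.ne_zero hb) hϖ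
    refine ⟨n, a * ↑v⁻¹, ?_⟩
    have h0 : algebraMap A K (↑v * ϖ ^ n) ≠ 0 := by
      simpa using nonZeroDivisors.ne_zero hb
    rw [div_mul_eq_mul_div, div_eq_iff h0, ← map_pow, ← map_mul, ← map_mul]
    congr 1
    have : (↑v⁻¹ : A) * ↑v = 1 := by simp
    linear_combination (-(a * ϖ ^ n)) * this) fun a b h => ⟨0, by simpa using IsFractionRing.injective A K h⟩
  exact IsOpenImmersion.of_isLocalization ϖ

/-- with proper inertia, automorphisms extend along valuation rings -/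
theorem extAut_of_proper (g𝒳 : FibCat.IsFibGrpd 𝒳.p)
    (hpr : AlgSt.RepByAlgSpWith AlgSp.IsProperMor (FibCat.inertiaToBase (FibCat.toSelf 𝒳)))
    (A : Type u) [CommRing A] [IsDomain A] [ValuationRing A] (K : Type u) [Field K] [Algebra A K]
    [IsFractionRing A K] (str : Spec (CommRingCat.of A) ⟶ S) :
    ExtAut g𝒳 (Over.homMk (Spec.map (CommRingCat.ofHom (algebraMap A K))) rfl :
      Over.mk (Spec.map (CommRingCat.ofHom (algebraMap A K)) ≫ str) ⟶ Over.mk str) := by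
  intro x a
  obtain ⟨F, e, he, hp⟩ := hpr _ x
  let sq : AlgSp.ValSq (AlgSt.spMapOfOver (BasedFunctor.comp e
      (FibCat.fpFst x (FibCat.inertiaToBase (FibCat.toSelf 𝒳))))) :=
    { A := A, K := K, str := str, top := (autObj a).sec he, bot := 𝟙 _
      comm := (SecObj.sec_comp he _).trans (Category.comp_id _).symm }
  have hF := AlgSp.IsAlgSpace.yon_obj (Over.mk str)
  obtain ⟨dx, hdx⟩ := AlgSpace.existVC_of_isUnivClosedMor F.property hF
    (AlgSpace.repWith_mono (fun _ _ g (_ : IsClosedImmersion g) => (inferInstance : QuasiCompact g)) hp.1) hp.2.2 sq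
  obtain ⟨l, hl₁, hl₂⟩ := AlgSpace.hasLift_of_domExt F.property hF hp.1 sq dx hdx
  obtain ⟨γ, hγ⟩ := exists_aut_of_sec he (𝟙 _) l (hl₂.trans ((AlgSp.yon S).map_id _).symm)
  refine ⟨γ, eq_of_sec_eq he _ _ ?_⟩
  rw [sec_pb g𝒳 he γ _ (Category.comp_id _), hγ]
  exact hl₁

/-- separated and of finite type -/
theorem with_sep_ft (h𝒴 : AlgSt.IsAlgStack Scheme.fppfPrecoverage 𝒴)
    (h𝒴d : AlgSt.RepByAlgSpWith (AlgSp.IsSeparatedMor ⊓ AlgSp.IsQuasiCompactMor)
      (FibCat.diag (FibCat.toSelf 𝒴)))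
    (h𝒴i : AlgSt.RepByAlgSpWith (AlgSp.LocP @LocallyOfFinitePresentation)
      (FibCat.inertiaToBase (FibCat.toSelf 𝒴))) :
    AlgSt.RepByAlgSpWith ((AlgSp.IsSeparatedMor ⊓ AlgSp.IsQuasiCompactMor) ⊓ AlgSp.LocP @LocallyOfFiniteType)
      (FibCat.inertiaToBase (FibCat.toSelf 𝒴)) :=
  with_inf (goodP_isSeparatedMor.inf goodP_isQuasiCompactMor).preIso (preIso_of_pullback pbP_locP)
    (FC16.inertia_isFibGrpd h𝒴.isStack.1 (presCart_of_isFibGrpd selfOver_isFibGrpd (FibCat.toSelf 𝒴)))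
    h𝒴.isStack.1 (with_inertiaToBase h𝒴.isStack.1 selfOver_isFibGrpd h𝒴d)
    (with_locP_mono (fun _ _ g (_ : LocallyOfFinitePresentation g) => (inferInstance : LocallyOfFiniteType g)) h𝒴i)

/-- a chart of the base is representable by a base change -/
theorem with_fpFst_of_repOf {𝒵 : AlgSt.Cat S} {P : MorphismProperty (AlgSp.Sp S)} (hPb : PbP P) {f : 𝒵 ⥤ᵇ 𝒴}
    {U : Over S} (y : FibCat.overCat U ⥤ᵇ 𝒴) (h : RepOf P (FibCat.fpFst y f)) :
    AlgSt.RepByAlgSpWith P (FibCat.fpFst y f) := by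
  obtain ⟨F, e, he, hP⟩ := h
  let Φ := BasedFunctor.comp e (FibCat.fpFst y f)
  refine (with_congr (f := FibCat.fpFst y f) (f' := Stk.ofPshMap (AlgSt.spMapOfOver Φ).hom) (a := e)
    (b := AlgSt.toOverCat U) he (toOverCat_isEquivOver U) ?_).2
    (with_ofPshMap (repBySpWith_of_space hPb F.property (AlgSp.IsAlgSpace.yon_obj U) hP))
  exact wrIso (eqToIso (congrArg Stk.ofPshMap (spMapOfOver_hom Φ)) ≪≫ (isoMapOf _).symm) (AlgSt.toOverCat U) ≪≫
    wlIso Φ (eqToIso (ofOver_toOver U))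

/-- the inertia is proper once automorphisms extend along discrete valuation rings -/
theorem proper_inertia_of_extAut (h𝒴 : AlgSt.IsAlgStack Scheme.fppfPrecoverage 𝒴)
    (h𝒴d : AlgSt.RepByAlgSpWith (AlgSp.IsSeparatedMor ⊓ AlgSp.IsQuasiCompactMor)
      (FibCat.diag (FibCat.toSelf 𝒴)))
    (h𝒴i : AlgSt.RepByAlgSpWith (AlgSp.LocP @LocallyOfFinitePresentation)
      (FibCat.inertiaToBase (FibCat.toSelf 𝒴)))
    (hN : AlgSt.SmoothLocally (fun X => IsLocallyNoetherian X) 𝒴)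
    (H : ∀ (A : Type u) [CommRing A] [IsDomain A] [IsDiscreteValuationRing A] (K : Type u) [Field K] [Algebra A K]
      [IsFractionRing A K] (str : Spec (CommRingCat.of A) ⟶ S),
      ExtAut h𝒴.isStack.1 (Over.homMk (Spec.map (CommRingCat.ofHom (algebraMap A K))) rfl :
        Over.mk (Spec.map (CommRingCat.ofHom (algebraMap A K)) ≫ str) ⟶ Over.mk str)) :
    AlgSt.RepByAlgSpWith AlgSp.IsProperMor (FibCat.inertiaToBase (FibCat.toSelf 𝒴)) := by
  obtain ⟨U, u, hu, hus⟩ := h𝒴.atlas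
  haveI : IsLocallyNoetherian U.left := hN U u hu
  have hg := h𝒴.isStack.1
  have hsf := with_sep_ft h𝒴 h𝒴d h𝒴i
  refine with_of_fpFst_cover pbP_isProperMor
    (isLocalOnBase_fppf_of_fpqc isLocalOnBase_fpqc_isProperMor)
    (FC16.inertia_isFibGrpd hg (presCart_of_isFibGrpd selfOver_isFibGrpd (FibCat.toSelf 𝒴))) hg
    (overCat_isFibGrpd U) (repByAlgSp1_of_with hsf) (with_locP_mono smooth_le_flat hu)
    (with_locP_mono smooth_le_lfp hu) hus (with_fpFst_of_repOf pbP_isProperMor u ?_)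
  obtain ⟨F, e, he, ⟨hs, hq⟩, hl⟩ := hsf U u
  refine ⟨F, e, he, ?_⟩
  have hU : AlgSp.IsAlgSpace ((AlgSp.yon S).obj U) := AlgSp.IsAlgSpace.yon_obj U
  have hUN : AlgSp.IsLocNoethSp ((AlgSp.yon S).obj U) :=
    ⟨U, 𝟙 _, AlgSp.repWith_id _ _, AlgSp.repWith_id _ _, inferInstance⟩
  refine AlgSpace.isProperMor_of_dvrLifts (h := 𝟙 _) F.property F.property hU hUN hs ⟨hl, hq⟩ ?_ ?_ fun sq hA => ?_
  · exact ⟨AlgSpace.locP_of_repWith F.property (AlgSpace.repWith_of_isIso @LocallyOfFiniteType (𝟙 F.obj)),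
      ((AlgSpace.repWith_quasiCompact_iff F.property F.property
        (AlgSpace.repWith_of_isIso @QuasiCompact (𝟙 F.obj)).1).1 (AlgSpace.repWith_of_isIso @QuasiCompact (𝟙 F.obj)))⟩
  · exact Function.Surjective.denseRange fun x => ⟨x, AlgSp.Points.map_id x⟩
  obtain ⟨b, hb⟩ := (AlgSp.yon S).map_surjective sq.bot
  let q := sq.j
  let y : FibCat.overCat sq.ptA ⥤ᵇ 𝒴 := BasedFunctor.comp (AlgSt.overMap b) u
  have htop : sq.top ≫ AlgSt.spMapOfOver (BasedFunctor.comp e
      (FibCat.fpFst u (FibCat.inertiaToBase (FibCat.toSelf 𝒴)))) = (AlgSp.yon S).map (q ≫ b) := by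
    rw [Functor.map_comp, hb]
    exact (congrArg (sq.top ≫ ·) (Category.id_comp _).symm).trans sq.comm
  obtain ⟨α, hα⟩ := exists_aut_of_sec he (q ≫ b) sq.top htop
  let a : Iso1 y q y q := ⟨α.iso, α.lift⟩
  obtain ⟨γ₀, hγ₀⟩ := H sq.A sq.K sq.str y a
  let γ' : Iso1 u (𝟙 _ ≫ b) u (𝟙 _ ≫ b) := ⟨γ₀.iso, γ₀.lift⟩
  let γ : Iso1 u b u b := Iso1.pb hg γ' (𝟙 _) (by simp) (by simp)
  have hγq : Iso1.pb hg γ q rfl rfl = α := by
    simp only [γ, Iso1.pb_pb]
    refine (Iso1.pb_congr hg γ' (Category.comp_id q) _ _).trans (Iso1.pb_unique hg α ?_)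
    have h2 := Iso1.pb_spec hg γ₀ q (Category.comp_id q) (Category.comp_id q)
    rw [hγ₀] at h2
    exact h2
  refine ⟨(autObj γ).sec he, ?_, (SecObj.sec_comp he _).trans hb⟩
  rw [Category.comp_id, ← sec_pb hg he γ q rfl, hγq, hα]

end Groth.Agent.IsoNat5
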