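import Groth.Agent.Lib.StAlg16.QSBase
import Groth.Agent.Lib.StAlg16.OpenSub

/-!
Quasi-compact morphisms of algebraic stacks with quasi-compact diagonal: compact preimages of compact opens.
-/

universe u

open CategoryTheory CategoryTheory.Functor AlgebraicGeometry Topology

set_option linter.style.haveILetI false
set_option linter.unusedSectionVars false
set_option backward.isDefEq.respectTransparency false
set_option backward.isDefEq.respectTransparency.types false

namespace Groth.Agent.IsoNat5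

open Groth.Agent.FC16 Groth.Agent.StAlg Groth.Agent.StAlg16 AlgSt

variable {S : Scheme.{u}} {𝒳 𝒴 : AlgSt.Cat S}

/-- the restriction of a chart to an open -/
noncomputable abbrev resChart {U : Over S} (y : FibCat.overCat U ⥤ᵇ 𝒳) (A : U.left.Opens) :
    FibCat.overCat (openPart A) ⥤ᵇ 𝒳 :=
  BasedFunctor.comp (AlgSt.overMap (openIncl A)) y

theorem range_map_resChart {U : Over S} (y : FibCat.overCat U ⥤ᵇ 𝒳) (A : U.left.Opens) :
    Set.range (Points.map (resChart y A)) = Points.ofChart y '' (A : Set ↥U.left) := by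
  rw [range_map_eq_range_ofChart]
  ext z
  constructor
  · rintro ⟨t, rfl⟩
    exact ⟨(openIncl A).left t, t.2, (ofChart_overMap _ _ _).symm⟩
  · rintro ⟨t, ht, rfl⟩
    exact ⟨⟨t, ht⟩, ofChart_overMap _ _ _⟩

/-- a finite affine covering of a compact set of points inside an open set -/
theorem exists_affine_cover (h𝒴 : IsAlgStack Scheme.fppfPrecoverage 𝒴) {U : Over S} (y : FibCat.overCat U ⥤ᵇ 𝒴)
    (hy : AlgSt.RepByAlgSpWith (AlgSp.LocP @Smooth) y) (hys : AlgSt.RepByAlgSpWith AlgSp.IsSurjectiveMor y)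
    {K T : Set (Points 𝒴)} (hK : IsCompact K) (hT : IsOpen T) (hKT : K ⊆ T) :
    ∃ t : Finset U.left.affineOpens, K ⊆ (⋃ A ∈ t, Points.ofChart y '' ((A : U.left.Opens) : Set ↥U.left)) ∧
      (⋃ A ∈ t, Points.ofChart y '' ((A : U.left.Opens) : Set ↥U.left)) ⊆ T ∧
      IsOpen (⋃ A ∈ t, Points.ofChart y '' ((A : U.left.Opens) : Set ↥U.left)) ∧
      IsCompact (⋃ A ∈ t, Points.ofChart y '' ((A : U.left.Opens) : Set ↥U.left)) := by
  classical
  have hom : IsOpenMap (Points.ofChart y) := isOpenMap_ofChart h𝒴.isStack.1 (with_locP_mono smooth_le_flat hy)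
    (with_locP_mono smooth_le_lfp hy)
  let ι := {A : U.left.affineOpens // ((A : U.left.Opens) : Set ↥U.left) ⊆ Points.ofChart y ⁻¹' T}
  obtain ⟨t, ht⟩ := hK.elim_finite_subcover
    (fun A : ι => Points.ofChart y '' ((A.1 : U.left.Opens) : Set ↥U.left)) (fun A => hom _ A.1.1.isOpen) (by
      intro z hz
      obtain ⟨a, rfl⟩ := surjective_ofChart h𝒴.isStack.1 hys z
      obtain ⟨W, hW, haW, hWT⟩ := exists_isAffineOpen_mem_and_subset
        (X := U.left) (x := a) (U := ⟨Points.ofChart y ⁻¹' T, hT.preimage (continuous_ofChart h𝒴 y)⟩) (hKT hz)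
      exact Set.mem_iUnion.2 ⟨⟨⟨W, hW⟩, hWT⟩, a, haW, rfl⟩)
  refine ⟨t.image Subtype.val, fun z hz => ?_, ?_, isOpen_biUnion fun A _ => hom _ A.1.isOpen,
    Finset.isCompact_biUnion _ fun A _ => A.2.isCompact.image (continuous_ofChart h𝒴 y)⟩
  · obtain ⟨A, hA, hz'⟩ := Set.mem_iUnion₂.1 (ht hz)
    exact Set.mem_iUnion₂.2 ⟨A.1, Finset.mem_image_of_mem _ hA, hz'⟩
  · refine Set.iUnion₂_subset fun A hA => ?_
    obtain ⟨B, -, rfl⟩ := Finset.mem_image.1 hA
    exact Set.image_subset_iff.2 B.2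

/-- preimages of compact opens under quasi-compact morphisms are compact -/
theorem isCompact_preimage_of_qcMor (h𝒳 : IsAlgStack Scheme.fppfPrecoverage 𝒳)
    (h𝒴 : IsAlgStack Scheme.fppfPrecoverage 𝒴) {f : 𝒳 ⥤ᵇ 𝒴}
    (hf : AlgSt.IsQuasiCompactMor Scheme.fppfPrecoverage f) {T : Set (Points 𝒴)} (hT : IsOpen T)
    (hTc : IsCompact T) : IsCompact (Points.map f ⁻¹' T) := by
  obtain ⟨U, y, hy, hys⟩ := h𝒴.atlas
  obtain ⟨t, h1, h2, -, -⟩ := exists_affine_cover h𝒴 y hy hys hTc hT le_rfl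
  rw [Set.Subset.antisymm h1 h2, Set.preimage_iUnion₂]
  refine Finset.isCompact_biUnion _ fun A _ => ?_
  haveI : IsAffine (openPart (A : U.left.Opens)).left := A.2
  have hP := isAlgStack_fp' (isAlgStack_overCat _) h𝒳 h𝒴 (resChart y (A : U.left.Opens)) f
  haveI := compactSpace_of_isQuasiCompact hP
    (hf _ (isAlgStack_overCat _) (isQuasiCompact_overCat _) (resChart y (A : U.left.Opens)))
  rw [show Points.map f ⁻¹' (Points.ofChart y '' ((A : U.left.Opens) : Set ↥U.left)) =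
      Set.range (Points.map (FibCat.fpSnd (resChart y (A : U.left.Opens)) f)) from ?_]
  · exact isCompact_range (continuous_map h𝒳 _)
  rw [← range_map_resChart]
  ext x
  constructor
  · rintro ⟨a, ha⟩
    obtain ⟨w, -, hw⟩ := exists_fp_point h𝒳.isStack.1 h𝒴.isStack.1 (overCat_isFibGrpd _) f _ a x ha
    exact ⟨w, hw⟩
  · rintro ⟨w, rfl⟩
    exact ⟨Points.map (FibCat.fpFst _ f) w, by
      rw [← StAlg16.map_comp_apply, ← StAlg16.map_comp_apply, map_eq_map_of_iso (FibCat.fpIso _ f)]⟩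

/-- a morphism with compact preimages of compact opens is quasi-compact -/
theorem isQuasiCompactMor_of_preimage [QuasiSeparatedSpace S] (h𝒳 : IsAlgStack Scheme.fppfPrecoverage 𝒳)
    (h𝒴 : IsAlgStack Scheme.fppfPrecoverage 𝒴)
    (h𝒴d : AlgSt.RepByAlgSpWith AlgSp.IsQuasiCompactMor (FibCat.diag (FibCat.toSelf 𝒴))) {f : 𝒳 ⥤ᵇ 𝒴}
    (hf : ∀ T : Set (Points 𝒴), IsOpen T → IsCompact T → IsCompact (Points.map f ⁻¹' T)) :
    AlgSt.IsQuasiCompactMor Scheme.fppfPrecoverage f := by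
  intro 𝒵 h𝒵 hq g
  obtain ⟨W, z, hW, -, hzs⟩ := hq
  haveI := hW
  let b := BasedFunctor.comp z g
  refine qc_fp_of_lift h𝒳 h𝒴 h𝒵 (isAlgStack_overCat W) (a := z) (isSurjective_of_with h𝒵.isStack.1 hzs)
    (b := b) (Iso.refl _) ?_
  obtain ⟨U, y, hy, hys⟩ := h𝒴.atlas
  obtain ⟨t, h1, -, hTo, hTc⟩ := exists_affine_cover h𝒴 y hy hys
    (isCompact_range (continuous_ofChart h𝒴 b)) isOpen_univ (Set.subset_univ _)
  have hPc := hf _ hTo hTc
  obtain ⟨V, x, hx, hxs⟩ := h𝒳.atlas
  obtain ⟨s, hs1, -, -, -⟩ := exists_affine_cover h𝒳 x hx hxs hPc isOpen_univ (Set.subset_univ _)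
  have hP := isAlgStack_fp' (isAlgStack_overCat W) h𝒳 h𝒴 b f
  suffices h : CompactSpace (Points (FibCat.fp b f)) from
    haveI := h; isQuasiCompact_of_compactSpace hP
  refine ⟨IsCompact.of_isClosed_subset (s := ⋃ B ∈ s, Set.range
    (Points.map (FibCat.fpFst (FibCat.fpSnd b f) (resChart x (B : V.left.Opens))))) ?_ isClosed_univ ?_⟩
  · refine Finset.isCompact_biUnion _ fun B _ => ?_
    haveI : IsAffine (openPart (B : V.left.Opens)).left := B.2
    have hB := isAlgStack_overCat (openPart (B : V.left.Opens))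
    have hq := isQuasiCompactMor_of_qc_of_qs hB h𝒴 (BasedFunctor.comp (resChart x (B : V.left.Opens)) f)
      (isQuasiCompact_overCat _) h𝒴d _ (isAlgStack_overCat W) (isQuasiCompact_overCat W) b
    have hP' := isAlgStack_fp' hP hB h𝒳 (FibCat.fpSnd b f) (resChart x (B : V.left.Opens))
    haveI := compactSpace_of_isQuasiCompact hP' (qc_of_equiv' hP' (isAlgStack_fp' (isAlgStack_overCat W) hB h𝒴 _ _)
      (pasteR_isEquivOver b f (resChart x (B : V.left.Opens))) hq)
    exact isCompact_range (continuous_map hP _)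
  · intro w _
    have hw : Points.map f (Points.map (FibCat.fpSnd b f) w) ∈
        ⋃ A ∈ t, Points.ofChart y '' ((A : U.left.Opens) : Set ↥U.left) := by
      refine h1 ?_
      rw [← range_map_eq_range_ofChart]
      exact ⟨Points.map (FibCat.fpFst b f) w, by
        rw [← StAlg16.map_comp_apply, ← StAlg16.map_comp_apply, map_eq_map_of_iso (FibCat.fpIso b f)]⟩
    obtain ⟨B, hB, hx'⟩ := Set.mem_iUnion₂.1 (hs1 (show Points.map (FibCat.fpSnd b f) w ∈ Points.map f ⁻¹' _ from hw))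
    rw [← range_map_resChart] at hx'
    obtain ⟨v, hv⟩ := hx'
    obtain ⟨q, hq, -⟩ := exists_fp_point (overCat_isFibGrpd _) h𝒳.isStack.1 hP.isStack.1
      (resChart x (B : V.left.Opens)) (FibCat.fpSnd b f) w v hv.symm
    exact Set.mem_iUnion₂.2 ⟨B, hB, q, hq⟩

end Groth.Agent.IsoNat5
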