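import Groth.Agent.Lib.IsoNat5.Clean

/-!
Commutativity of automorphisms is seen by the classes of objects on a triple of nodes glued along
their punctured branches.
-/

universe u

open CategoryTheory CategoryTheory.Functor CategoryTheory.Limits AlgebraicGeometry Opposite

set_option linter.style.haveILetI false
set_option linter.unusedSectionVars false
set_option backward.isDefEq.respectTransparency false
set_option backward.isDefEq.respectTransparency.types false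

namespace Groth.Agent.IsoNat5

open Groth.Agent.FC16 Groth.Agent.StAlg Groth.Agent.StAlg16 AlgSt

variable {S : Scheme.{u}} {𝒳 𝒴 : AlgSt.Cat S} {U V : Over S}

namespace Iso1

variable {A B W : Over S} {X : FibCat.overCat A ⥤ᵇ 𝒳} {Y : FibCat.overCat B ⥤ᵇ 𝒳} {g : W ⟶ A} {t : W ⟶ B}

theorem conj_eq_of_comm (hc : ∀ a b : Iso1 Y t Y t, a.trans b = b.trans a) (a : Iso1 X g X g) (k k₁ : Iso1 X g Y t) :
    k.symm.trans (a.trans k) = k₁.symm.trans (a.trans k₁) := by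
  have h := hc (k.symm.trans k₁) (k₁.symm.trans (a.trans k₁))
  refine Iso1.trans_right_cancel (k.symm.trans k₁) ?_
  refine Eq.trans ?_ h
  simp only [Iso1.trans_assoc]
  refine congrArg _ ?_
  rw [← Iso1.trans_assoc k k.symm, Iso1.trans_symm, Iso1.refl_trans, ← Iso1.trans_assoc k₁ k₁.symm,
    Iso1.trans_symm, Iso1.refl_trans]

end Iso1

section Edge

variable {P Q T : Over S} (q : P ⟶ Q) [IsOpenImmersion q.left]

theorem edge_cond : q ≫ j₁ q ≫ j₁ (j₂ q) = q ≫ j₁ q ≫ j₂ (j₂ q) := by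
  rw [← Category.assoc, ← Category.assoc, q_j, Category.assoc, Category.assoc, q_j (j₂ q)]

/-- the third edge -/
noncomputable def edge : dbl q ⟶ dbl (j₂ q) :=
  dblDesc q (j₁ q ≫ j₁ (j₂ q)) (j₁ q ≫ j₂ (j₂ q)) (edge_cond q)

theorem j₁_edge : j₁ q ≫ edge q = j₁ q ≫ j₁ (j₂ q) := j₁_desc q _ _ _

theorem j₂_edge : j₂ q ≫ edge q = j₁ q ≫ j₂ (j₂ q) := j₂_desc q _ _ _

/-- with commuting automorphisms the third edge is trivial when the two others are isomorphic -/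
theorem iso1_edge_of_comm (h𝒳 : Stk.IsStack (QuotSh.J Scheme.fppfPrecoverage S) 𝒳)
    {C : FibCat.overCat (dbl (j₂ q)) ⥤ᵇ 𝒳} {y : FibCat.overCat T ⥤ᵇ 𝒳} (pQ : Q ⟶ T)
    (hc : ∀ a b : Iso1 y (q ≫ pQ) y (q ≫ pQ), a.trans b = b.trans a)
    (E : Iso1 C (j₁ (j₂ q)) C (j₂ (j₂ q))) (k : Iso1 C (j₂ q ≫ j₁ (j₂ q)) y pQ)
    (k₁ : Iso1 C (j₁ q ≫ j₁ (j₂ q)) y pQ) :
    Nonempty (Iso1 C (edge q) y (dblDesc q pQ pQ rfl)) := by
  have gX := h𝒳.1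
  let t := dblDesc q pQ pQ rfl
  let a : Iso1 C (j₂ q ≫ j₁ (j₂ q)) C (j₂ q ≫ j₁ (j₂ q)) :=
    Iso1.pb gX E (j₂ q) rfl (q_j (j₂ q)).symm
  let u : Iso1 y pQ y pQ := k.symm.trans (a.trans k)
  let f₂ : Iso1 C (j₁ q ≫ j₂ (j₂ q)) y pQ := (Iso1.pb gX E (j₁ q) rfl rfl).symm.trans (k₁.trans u)
  refine exists_iso1_dbl q h𝒳 (edge q) t
    (Iso1.pb gX k₁ (𝟙 Q) (by rw [Category.id_comp, j₁_edge]) (by rw [Category.id_comp, j₁_desc]))
    (Iso1.pb gX f₂ (𝟙 Q) (by rw [Category.id_comp, j₂_edge]) (by rw [Category.id_comp, j₂_desc])) ?_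
  rw [Iso1.pb_pb, Iso1.pb_pb]
  let g' := q ≫ j₁ q ≫ edge q
  let t' := q ≫ j₁ q ≫ t
  have hg₁ : q ≫ j₁ q ≫ j₁ (j₂ q) = g' := by simp only [g', j₁_edge]
  have hg₂ : q ≫ j₁ q ≫ j₂ (j₂ q) = g' := by rw [← edge_cond, hg₁]
  have hg₃ : q ≫ j₂ q ≫ j₁ (j₂ q) = g' := by rw [← hg₁, ← Category.assoc, ← q_j, Category.assoc]
  have ht : q ≫ pQ = t' := by simp only [t', t, j₁_desc]
  let EP : Iso1 C g' C g' := Iso1.pb gX E (q ≫ j₁ q) (by rw [Category.assoc, hg₁]) (by rw [Category.assoc, hg₂])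
  let kP : Iso1 C g' y t' := Iso1.pb gX k q hg₃ ht
  let k₁P : Iso1 C g' y t' := Iso1.pb gX k₁ q hg₁ ht
  have haP : Iso1.pb gX a q hg₃ hg₃ = EP := by
    simp only [a, Iso1.pb_pb]
    exact Iso1.pb_congr gX E (q_j q).symm _ _
  have hu : Iso1.pb gX u q ht ht = kP.symm.trans (EP.trans kP) := by
    simp only [u]
    rw [Iso1.pb_trans gX k.symm (a.trans k) q (ht := hg₃), Iso1.pb_trans gX a k q (ht := hg₃),
      Iso1.pb_symm gX k q hg₃ ht, haP]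
  have hc' : ∀ b b' : Iso1 y t' y t', b.trans b' = b'.trans b := ht ▸ hc
  rw [Iso1.conj_eq_of_comm hc' EP kP k₁P] at hu
  have hf : Iso1.pb gX f₂ q hg₂ ht = k₁P := by
    simp only [f₂]
    rw [Iso1.pb_trans gX (Iso1.pb gX E (j₁ q) rfl rfl).symm (k₁.trans u) q (ht := hg₁),
      Iso1.pb_trans gX k₁ u q (ht := ht), Iso1.pb_symm gX (Iso1.pb gX E (j₁ q) rfl rfl) q hg₁ hg₂, Iso1.pb_pb, hu]
    show EP.symm.trans (k₁P.trans (k₁P.symm.trans (EP.trans k₁P))) = k₁P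
    rw [← Iso1.trans_assoc k₁P, Iso1.trans_symm, Iso1.refl_trans, ← Iso1.trans_assoc, Iso1.symm_trans,
      Iso1.refl_trans]
  exact ((Iso1.pb_congr gX k₁ (Category.comp_id q) _ _).trans (hf.symm.trans
    (Iso1.pb_congr gX f₂ (Category.comp_id q).symm _ _)))

end Edge

section Twist

variable {P Q T : Over S} (q : P ⟶ Q) [IsOpenImmersion q.left] {y : FibCat.overCat T ⥤ᵇ 𝒳}

/-- a twisted triple whose third edge is a conjugate -/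
theorem exists_triple (h𝒳 : Stk.IsStack (QuotSh.J Scheme.fppfPrecoverage S) 𝒳) (pQ : Q ⟶ T)
    (α : Iso1 y (q ≫ pQ) y (q ≫ pQ)) (v : Iso1 y pQ y pQ) :
    ∃ C : FibCat.overCat (dbl (j₂ q)) ⥤ᵇ 𝒳, Nonempty (Iso1 C (j₁ (j₂ q)) C (j₂ (j₂ q))) ∧
      Nonempty (Iso1 C (j₂ q ≫ j₁ (j₂ q)) y pQ) ∧ Nonempty (Iso1 C (j₁ q ≫ j₁ (j₂ q)) y pQ) ∧
      (Nonempty (Iso1 C (edge q) y (dblDesc q pQ pQ rfl)) → ∃ h : Iso1 y pQ y pQ,
        Iso1.pb h𝒳.1 h q rfl rfl = α.trans ((Iso1.pb h𝒳.1 v q rfl rfl).trans α.symm)) := by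
  have gX := h𝒳.1
  let t := dblDesc q pQ pQ rfl
  have ht₁ : j₁ q ≫ t = pQ := j₁_desc q _ _ _
  have ht₂ : j₂ q ≫ t = pQ := j₂_desc q _ _ _
  let α' : Iso1 y (q ≫ j₁ q ≫ t) y (q ≫ j₁ q ≫ t) :=
    Iso1.pb gX α (𝟙 P) (by rw [Category.id_comp, ht₁]) (by rw [Category.id_comp, ht₁])
  obtain ⟨η, e₁, e₂, he⟩ := exists_twist_dbl q h𝒳 t α'
  let q' := j₂ q
  let w := dblDesc q' (𝟙 (dbl q)) (𝟙 (dbl q)) rfl
  have hw : j₁ q' ≫ w = 𝟙 _ := j₁_desc q' _ _ _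
  have hw₂ : j₂ q' ≫ w = 𝟙 _ := j₂_desc q' _ _ _
  let e₂' : Iso1 η q' y pQ := Iso1.pb gX e₂ (𝟙 Q) (Category.id_comp _) (by rw [Category.id_comp, ht₂])
  let e₁' : Iso1 η (j₁ q) y pQ := Iso1.pb gX e₁ (𝟙 Q) (Category.id_comp _) (by rw [Category.id_comp, ht₁])
  let m : Iso1 η q' η q' := e₂'.trans (v.trans e₂'.symm)
  let m' : Iso1 η (q' ≫ j₁ q' ≫ w) η (q' ≫ j₁ q' ≫ w) :=
    Iso1.pb gX m (𝟙 Q) (by rw [Category.id_comp, hw, Category.comp_id]) (by rw [Category.id_comp, hw, Category.comp_id])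
  obtain ⟨C, E₁, E₂, hE⟩ := exists_twist_dbl q' h𝒳 w m'
  let F₁ : Iso1 C (j₁ q') η (𝟙 _) := Iso1.pb gX E₁ (𝟙 _) (Category.id_comp _) (by rw [Category.id_comp, hw])
  let F₂ : Iso1 C (j₂ q') η (𝟙 _) := Iso1.pb gX E₂ (𝟙 _) (Category.id_comp _) (by rw [Category.id_comp, hw₂])
  refine ⟨C, ⟨F₁.trans F₂.symm⟩, ⟨(Iso1.pb gX F₁ q' rfl (Category.comp_id q')).trans e₂'⟩,
    ⟨(Iso1.pb gX F₁ (j₁ q) rfl (Category.comp_id _)).trans e₁'⟩, ?_⟩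
  rintro ⟨G⟩
  let f₁ := (Iso1.pb gX F₁ (j₁ q) rfl (Category.comp_id _)).trans e₁'
  let f₂ := (Iso1.pb gX F₂ (j₁ q) rfl (Category.comp_id _)).trans e₁'
  let G₁ : Iso1 C (j₁ q ≫ j₁ q') y pQ := Iso1.pb gX G (j₁ q) (j₁_edge q) ht₁
  let G₂ : Iso1 C (j₁ q ≫ j₂ q') y pQ := Iso1.pb gX G (j₂ q) (j₂_edge q) ht₂
  refine ⟨(f₁.symm.trans G₁).trans (f₂.symm.trans G₂).symm, ?_⟩
  -- restrict to the overlap
  let c := q ≫ j₁ q ≫ j₁ q'
  let p := q ≫ pQ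
  have hc₂ : q ≫ j₁ q ≫ j₂ q' = c := (edge_cond q).symm
  have hc₃ : q ≫ q' ≫ j₁ q' = c := by simp only [c, q', ← Category.assoc, ← q_j]
  have hG : Iso1.pb gX G₂ q (g' := c) (t' := p) hc₂ rfl = Iso1.pb gX G₁ q (g' := c) (t' := p) rfl rfl := by
    simp only [G₁, G₂, Iso1.pb_pb]
    exact Iso1.pb_congr gX G (q_j q).symm _ _
  let e : Iso1 η (q ≫ j₁ q) y p := Iso1.pb gX e₁' q rfl rfl
  have he₂ : Iso1.pb gX e₂' q (g' := q ≫ j₁ q) (t' := p) (q_j q).symm rfl = e.trans α := by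
    have h := congrArg (fun r => Iso1.pb gX r (𝟙 P) (g' := q ≫ j₁ q) (t' := p) (Category.id_comp _)
      (show 𝟙 P ≫ q ≫ j₁ q ≫ t = p by rw [Category.id_comp, ht₁])) he
    rw [Iso1.pb_trans gX _ α' (𝟙 P) (ht := show 𝟙 P ≫ q ≫ j₁ q ≫ t = p by rw [Category.id_comp, ht₁])] at h
    simp only [α', Iso1.pb_pb] at h
    simp only [e₂', e, e₁', Iso1.pb_pb]
    rw [Iso1.pb_congr gX α (Category.comp_id (𝟙 P)), Iso1.pb_id] at h
    exact (Iso1.pb_congr gX e₂ ((Category.comp_id q).trans (Category.id_comp q).symm) _ _).trans (h.symm.trans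
      (congrArg (fun r : Iso1 η (q ≫ j₁ q) y p => r.trans α) (Iso1.pb_congr gX e₁ ((Category.id_comp q).trans (Category.comp_id q).symm) _ _)))
  let v' : Iso1 y p y p := Iso1.pb gX v q rfl rfl
  let Z₁ : Iso1 C c η (q ≫ j₁ q) := Iso1.pb gX F₁ (q ≫ j₁ q) (Category.assoc _ _ _) (Category.comp_id _)
  have hm : Iso1.pb gX m q (g' := q ≫ j₁ q) (t' := q ≫ j₁ q) (q_j q).symm (q_j q).symm =
      (e.trans α).trans (v'.trans (e.trans α).symm) := by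
    simp only [m]
    rw [Iso1.pb_trans gX e₂' (v.trans e₂'.symm) q (ht := show q ≫ pQ = p from rfl),
      Iso1.pb_trans gX v e₂'.symm q (ht := show q ≫ pQ = p from rfl), Iso1.pb_symm gX e₂' q (q_j q).symm rfl, he₂]
  have hZ₂ : Iso1.pb gX F₂ (q ≫ j₁ q) (g' := c) (t' := q ≫ j₁ q) (by rw [Category.assoc, hc₂]) (Category.comp_id _) =
      Z₁.trans ((e.trans α).trans (v'.trans (e.trans α).symm)) := by
    have h := congrArg (fun r => Iso1.pb gX r q (g' := c) (t' := q ≫ j₁ q) hc₃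
      (show q ≫ q' ≫ j₁ q' ≫ w = q ≫ j₁ q by rw [hw, Category.comp_id]; exact (q_j q).symm)) hE
    rw [Iso1.pb_trans gX _ m' q (ht := show q ≫ q' ≫ j₁ q' ≫ w = q ≫ j₁ q by
      rw [hw, Category.comp_id]; exact (q_j q).symm)] at h
    simp only [m', Iso1.pb_pb] at h
    simp only [F₂, Iso1.pb_pb]
    rw [Iso1.pb_congr gX m (Category.comp_id q), hm] at h
    refine (Iso1.pb_congr gX E₂ (show (q ≫ j₁ q) ≫ 𝟙 _ = q ≫ q' by rw [Category.comp_id]; exact q_j q) _ _).trans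
      (h.symm.trans (congrArg
        (fun r : Iso1 C c η (q ≫ j₁ q) => r.trans ((e.trans α).trans (v'.trans (e.trans α).symm))) ?_))
    simp only [Z₁, F₁, Iso1.pb_pb]
    exact Iso1.pb_congr gX E₁ (show q ≫ q' = (q ≫ j₁ q) ≫ 𝟙 _ by rw [Category.comp_id]; exact (q_j q).symm) _ _
  have hf₁ : Iso1.pb gX f₁ q (g' := c) (t' := p) rfl rfl = Z₁.trans e := by
    simp only [f₁]
    rw [Iso1.pb_trans gX _ e₁' q (ht := show q ≫ j₁ q = q ≫ j₁ q from rfl), Iso1.pb_pb]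
  have hf₂ : Iso1.pb gX f₂ q (g' := c) (t' := p) hc₂ rfl =
      (Z₁.trans ((e.trans α).trans (v'.trans (e.trans α).symm))).trans e := by
    simp only [f₂]
    rw [Iso1.pb_trans gX _ e₁' q (ht := show q ≫ j₁ q = q ≫ j₁ q from rfl), Iso1.pb_pb, hZ₂]
  rw [Iso1.pb_trans gX _ (Iso1.symm _) q (ht := show q ≫ pQ = p from rfl),
    Iso1.pb_symm gX (f₂.symm.trans G₂) q (g' := p) (t' := p) rfl rfl,
    Iso1.pb_trans gX f₁.symm G₁ q (ht := show q ≫ j₁ q ≫ j₁ q' = c from rfl),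
    Iso1.pb_trans gX f₂.symm G₂ q (ht := hc₂),
    Iso1.pb_symm gX f₁ q (g' := c) (t' := p) rfl rfl, Iso1.pb_symm gX f₂ q (g' := c) (t' := p) hc₂ rfl, hG, hf₁, hf₂]
  refine Iso1.ext (Iso.ext ?_)
  simp [Iso1.trans, Iso1.symm, v', p]

end Twist

section Core

/-- all objects on the triple have trivial third edge -/
def EdgeTriv {P Q T : Over S} (q : P ⟶ Q) [IsOpenImmersion q.left] (pQ : Q ⟶ T)
    (y : FibCat.overCat T ⥤ᵇ 𝒳) : Prop :=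
  ∀ C : FibCat.overCat (dbl (j₂ q)) ⥤ᵇ 𝒳, Nonempty (Iso1 C (j₁ (j₂ q)) C (j₂ (j₂ q))) →
    Nonempty (Iso1 C (j₂ q ≫ j₁ (j₂ q)) y pQ) → Nonempty (Iso1 C (j₁ q ≫ j₁ (j₂ q)) y pQ) →
    Nonempty (Iso1 C (edge q) y (dblDesc q pQ pQ rfl))

theorem edgeTriv_of_comm (h𝒳 : Stk.IsStack (QuotSh.J Scheme.fppfPrecoverage S) 𝒳) {P Q T : Over S} (q : P ⟶ Q)
    [IsOpenImmersion q.left] (pQ : Q ⟶ T) (y : FibCat.overCat T ⥤ᵇ 𝒳)
    (hc : ∀ a b : Iso1 y (q ≫ pQ) y (q ≫ pQ), a.trans b = b.trans a) : EdgeTriv q pQ y := by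
  rintro C ⟨E⟩ ⟨k⟩ ⟨k₁⟩
  exact iso1_edge_of_comm q h𝒳 pQ hc E k k₁

/-- the test for commutativity of automorphisms -/
theorem comm_core (h𝒳 : IsAlgStack Scheme.fppfPrecoverage 𝒳)
    (hd : AlgSt.RepByAlgSpWith AlgSp.IsSeparatedMor (FibCat.diag (FibCat.toSelf 𝒳)))
    {T Q La Lb Ga Gb : Over S} [IsAffine La.left] [IsAffine Lb.left] (pQ : Q ⟶ T) (Oa Ob : Q.left.Opens)
    (hO : Oa ⊓ Ob = ⊥) (la : La ⟶ Q) (lb : Lb ⟶ Q) (qa : Ga ⟶ La) (qb : Gb ⟶ Lb)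
    (hqa : Function.Injective qa.left.appTop) (hqb : Function.Injective qb.left.appTop)
    (hGa : Set.range (qa ≫ la).left ⊆ Oa) (hGb : Set.range (qb ≫ lb).left ⊆ Ob)
    (oa : T ⟶ La) (ob : T ⟶ Lb) (ho : oa ≫ la = ob ≫ lb) (hop : oa ≫ la ≫ pQ = 𝟙 T)
    {y : FibCat.overCat T ⥤ᵇ 𝒳} (γ v : Iso1 y (𝟙 T) y (𝟙 T))
    (H : haveI : IsOpenImmersion (openIncl (Oa ⊔ Ob)).left := inferInstanceAs (IsOpenImmersion (Oa ⊔ Ob).ι)
      EdgeTriv (openIncl (Oa ⊔ Ob)) pQ y) :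
    γ.trans v = v.trans γ := by
  have gX := h𝒳.isStack.1
  haveI hqi : IsOpenImmersion (openIncl (Oa ⊔ Ob)).left := inferInstanceAs (IsOpenImmersion (Oa ⊔ Ob).ι)
  let q : openPart (Oa ⊔ Ob) ⟶ Q := openIncl (Oa ⊔ Ob)
  obtain ⟨α, hαa, hαb⟩ := exists_pieces_auto h𝒳 pQ Oa Ob hO γ
    (show q ≫ pQ = openIncl (Oa ⊔ Ob) ≫ pQ ≫ 𝟙 T by rw [Category.comp_id])
  let vQ : Iso1 y pQ y pQ := Iso1.pb gX v pQ (Category.comp_id _) (Category.comp_id _)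
  obtain ⟨C, hE, hk, hk₁, hCh⟩ := exists_triple q h𝒳.isStack pQ α vQ
  obtain ⟨h, hh⟩ := hCh (H C hE hk hk₁)
  have hra : Set.range (qa ≫ la).left ⊆ Set.range q.left :=
    hGa.trans ((SetLike.coe_subset_coe.2 le_sup_left).trans (Scheme.Opens.range_ι (Oa ⊔ Ob)).ge)
  have hrb : Set.range (qb ≫ lb).left ⊆ Set.range q.left :=
    hGb.trans ((SetLike.coe_subset_coe.2 le_sup_right).trans (Scheme.Opens.range_ι (Oa ⊔ Ob)).ge)
  let ma : Ga ⟶ openPart (Oa ⊔ Ob) := Over.homMk (IsOpenImmersion.lift q.left (qa ≫ la).left hra) (by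
    show _ ≫ q.left ≫ Q.hom = Ga.hom
    rw [IsOpenImmersion.lift_fac_assoc]
    exact Over.w (qa ≫ la))
  let mb : Gb ⟶ openPart (Oa ⊔ Ob) := Over.homMk (IsOpenImmersion.lift q.left (qb ≫ lb).left hrb) (by
    show _ ≫ q.left ≫ Q.hom = Gb.hom
    rw [IsOpenImmersion.lift_fac_assoc]
    exact Over.w (qb ≫ lb))
  have hma : ma ≫ q = qa ≫ la := Over.OverMorphism.ext (IsOpenImmersion.lift_fac _ _ _)
  have hmb : mb ≫ q = qb ≫ lb := Over.OverMorphism.ext (IsOpenImmersion.lift_fac _ _ _)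
  have ea : (la ≫ pQ) ≫ 𝟙 T = la ≫ pQ := Category.comp_id _
  have eb : (lb ≫ pQ) ≫ 𝟙 T = lb ≫ pQ := Category.comp_id _
  have hA : Iso1.pb gX h la rfl rfl = Iso1.pb gX (γ.trans (v.trans γ.symm)) (la ≫ pQ) ea ea := by
    refine pb_line gX hd q rfl h _ hh la qa hqa ma hma _ ?_
    let G := qa ≫ la ≫ pQ
    have e : ma ≫ q ≫ pQ = G := by simp only [G, reassoc_of% hma]
    have hαG : Iso1.pb gX α ma e e = Iso1.pb gX γ G (Category.comp_id G) (Category.comp_id G) :=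
      (hαa ma (by show Set.range (ma ≫ q).left ⊆ _; rw [hma]; exact hGa) G e).trans (Iso1.pb_congr gX γ e _ _)
    rw [Iso1.pb_pb, Iso1.pb_trans gX α _ ma (g' := G) (t' := G) (ht := e),
      Iso1.pb_trans gX _ α.symm ma (g' := G) (t' := G) (ht := e), Iso1.pb_symm gX α ma e e, Iso1.pb_pb, hαG,
      Iso1.pb_trans gX γ _ (qa ≫ la ≫ pQ) (ht := Category.comp_id G),
      Iso1.pb_trans gX v γ.symm (qa ≫ la ≫ pQ) (ht := Category.comp_id G),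
      Iso1.pb_symm gX γ (qa ≫ la ≫ pQ) (Category.comp_id G) (Category.comp_id G)]
    simp only [vQ, Iso1.pb_pb]
    rw [Iso1.pb_congr gX v (show qa ≫ la ≫ pQ = (ma ≫ q) ≫ pQ by rw [hma, Category.assoc])]
  have hB : Iso1.pb gX h lb rfl rfl = Iso1.pb gX v (lb ≫ pQ) eb eb := by
    refine pb_line gX hd q rfl h _ hh lb qb hqb mb hmb _ ?_
    let G := qb ≫ lb ≫ pQ
    have e : mb ≫ q ≫ pQ = G := by simp only [G, reassoc_of% hmb]
    have hαG : Iso1.pb gX α mb e e = Iso1.refl y G :=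
      hαb mb (by show Set.range (mb ≫ q).left ⊆ _; rw [hmb]; exact hGb) G e
    rw [Iso1.pb_pb, Iso1.pb_trans gX α _ mb (g' := G) (t' := G) (ht := e),
      Iso1.pb_trans gX _ α.symm mb (g' := G) (t' := G) (ht := e), Iso1.pb_symm gX α mb e e, Iso1.pb_pb, hαG,
      Iso1.refl_trans, Iso1.refl_symm, Iso1.trans_refl]
    simp only [vQ, Iso1.pb_pb]
    exact Iso1.pb_congr gX v (show qb ≫ lb ≫ pQ = (mb ≫ q) ≫ pQ by rw [hmb, Category.assoc]) _ _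
  have h1 := congrArg (fun w => Iso1.pb gX w oa (g' := 𝟙 T) (t' := 𝟙 T) hop hop) hA
  have h2 := congrArg (fun w => Iso1.pb gX w ob (g' := 𝟙 T) (t' := 𝟙 T) (by rw [← reassoc_of% ho, hop])
    (by rw [← reassoc_of% ho, hop])) hB
  simp only [Iso1.pb_pb] at h1 h2
  rw [Iso1.pb_congr gX _ hop, Iso1.pb_id] at h1
  rw [Iso1.pb_congr gX v (show ob ≫ lb ≫ pQ = 𝟙 T by rw [← reassoc_of% ho, hop]), Iso1.pb_id,
    Iso1.pb_congr gX h ho.symm] at h2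
  have h3 : γ.trans (v.trans γ.symm) = v := h1.symm.trans h2
  refine Iso1.trans_right_cancel γ.symm ?_
  rw [Iso1.trans_assoc, h3, Iso1.trans_assoc, Iso1.trans_symm, Iso1.trans_refl]

end Core

end Groth.Agent.IsoNat5
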