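import Groth.Agent.Lib.IsoNat5.Abel
import Groth.Agent.Lib.IsoNat5.Charts

/-!
Commutativity of automorphism groups is detected by the classes.
-/

universe u

open CategoryTheory CategoryTheory.Functor CategoryTheory.Limits AlgebraicGeometry Opposite

set_option linter.style.haveILetI false
set_option linter.unusedSectionVars false
set_option backward.isDefEq.respectTransparency false
set_option backward.isDefEq.respectTransparency.types false

namespace Groth.Agent.IsoNat5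

open Groth.Agent.FC16 Groth.Agent.StAlg Groth.Agent.StAlg16 AlgSt

variable {S : Scheme.{u}} {𝒳 𝒴 : AlgSt.Cat S} {U V : Over S}

/-- isomorphisms between values of charts transfer to corresponding charts -/
theorem nonempty_iso1_corr (h𝒴 : FibCat.IsFibGrpd 𝒴.p) (φ : IsoNat.FIso 𝒳 𝒴)
    {x : FibCat.overCat U ⥤ᵇ 𝒳} {y : FibCat.overCat U ⥤ᵇ 𝒴} (hxy : φ.toEquiv U (IsoNat.objCls x) = IsoNat.objCls y)
    {a : FibCat.overCat V ⥤ᵇ 𝒳} {b : FibCat.overCat V ⥤ᵇ 𝒴} (hab : φ.toEquiv V (IsoNat.objCls a) = IsoNat.objCls b)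
    {T : Over S} {g : T ⟶ U} {t : T ⟶ V} :
    Nonempty (Iso1 x g a t) ↔ Nonempty (Iso1 y g b t) := by
  have hg := cls_obj_eq φ h𝒴 hxy g
  have ht := cls_obj_eq φ h𝒴 hab t
  refine ⟨fun ⟨i⟩ => Iso1.nonempty_of_cls_eq ?_, fun ⟨i⟩ => Iso1.nonempty_of_cls_eq ?_⟩
  · rw [← hg, ← ht, Iso1.cls_eq i]
  · refine (φ.toEquiv T).injective ?_
    rw [hg, ht, Iso1.cls_eq i]

/-- automorphisms of all pullbacks of a chart value commute -/
def PbComm (y : FibCat.overCat V ⥤ᵇ 𝒳) : Prop :=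
  ∀ (T : Over S) (f : T ⟶ V) (a b : Iso1 y f y f), a.trans b = b.trans a

theorem edgeTriv_transfer (h𝒳 : IsAlgStack Scheme.fppfPrecoverage 𝒳) (h𝒴 : IsAlgStack Scheme.fppfPrecoverage 𝒴)
    (φ : IsoNat.FIso 𝒳 𝒴) {P Q T : Over S} (q : P ⟶ Q) [IsOpenImmersion q.left] (pQ : Q ⟶ T)
    {x : FibCat.overCat T ⥤ᵇ 𝒳} {y : FibCat.overCat T ⥤ᵇ 𝒴} (hxy : φ.toEquiv T (IsoNat.objCls x) = IsoNat.objCls y)
    (hx : EdgeTriv q pQ x) : EdgeTriv q pQ y := by
  intro C hE hk hk₁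
  have gX := h𝒳.isStack.1
  have gY := h𝒴.isStack.1
  obtain ⟨C', hC⟩ := exists_chart (symm gX gY φ) gX C
  replace hC : φ.toEquiv _ (IsoNat.objCls C') = IsoNat.objCls C := (Equiv.symm_apply_eq _).1 hC |>.symm
  exact (nonempty_iso1_corr gY φ hC hxy).1 (hx C' ((nonempty_iso1_corr gY φ hC hC).2 hE)
    ((nonempty_iso1_corr gY φ hC hxy).2 hk) ((nonempty_iso1_corr gY φ hC hxy).2 hk₁))

section Affine

/-- commutativity over an affine scheme, test rings given -/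
theorem comm_rings (h𝒳 : IsAlgStack Scheme.fppfPrecoverage 𝒳)
    (hd : AlgSt.RepByAlgSpWith AlgSp.IsSeparatedMor (FibCat.diag (FibCat.toSelf 𝒳)))
    {A N L R : Type u} [CommRing A] [CommRing N] [CommRing L] [CommRing R]
    (str : Spec (CommRingCat.of A) ⟶ S) (fN : A →+* N) (fL : A →+* L) (x y : N) (hxy : x * y = 0)
    (ea eb : N →+* L) (hea : ea.comp fN = fL) (heb : eb.comp fN = fL) (al : L →+* R) (hal : Function.Injective al)
    (hxa : IsUnit (al (ea x))) (hyb : IsUnit (al (eb y))) (ev : L →+* A) (hev : ev.comp fL = RingHom.id A)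
    (h0 : ev.comp ea = ev.comp eb) {c : FibCat.overCat (overK str (RingHom.id A)) ⥤ᵇ 𝒳}
    (H : ∀ {P Q : Over S} (q : P ⟶ Q) [IsOpenImmersion q.left] (pQ : Q ⟶ overK str (RingHom.id A)), EdgeTriv q pQ c)
    (γ v : Iso1 c (𝟙 _) c (𝟙 _)) : γ.trans v = v.trans γ := by
  haveI : IsAffine (overK str fL).left := inferInstanceAs (IsAffine (Spec _))
  have hr : ∀ (e : N →+* L) (he : e.comp fN = fL) (z : N), IsUnit (al (e z)) →
      Set.range (specK str al (rfl : al.comp fL = al.comp fL) ≫ specK str e he).left ⊆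
        SetLike.coe (PrimeSpectrum.basicOpen z : TopologicalSpace.Opens (PrimeSpectrum N)) := by
    rintro e he z hz _ ⟨p, rfl⟩
    show z ∉ (PrimeSpectrum.comap e (PrimeSpectrum.comap al p)).asIdeal
    exact fun h => p.isPrime.ne_top (Ideal.eq_top_of_isUnit_mem _ h hz)
  refine comm_core h𝒳 hd (specK str fN (RingHom.comp_id fN)) (PrimeSpectrum.basicOpen x)
    (PrimeSpectrum.basicOpen y) ?_ (specK str ea hea) (specK str eb heb) (specK str al (rfl : al.comp fL = al.comp fL))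
    (specK str al rfl) (injective_appTop_specK str _ _ hal) (injective_appTop_specK str _ _ hal) (hr ea hea x hxa)
    (hr eb heb y hyb) (specK str ev hev) (specK str ev hev) (specK_comp_eq str h0) ?_ γ v
    (@H _ _ _ (inferInstanceAs (IsOpenImmersion (Scheme.Opens.ι _))) _)
  · exact (PrimeSpectrum.basicOpen_mul x y).symm.trans (by rw [hxy, PrimeSpectrum.basicOpen_zero])
  · rw [← Category.assoc, specK_comp, specK_comp]
    refine (specK_congr str ?_ _).trans (specK_id str rfl)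
    rw [RingHom.comp_assoc, hea, hev]

open Polynomial in
/-- commutativity over an affine scheme -/
theorem comm_affine (h𝒳 : IsAlgStack Scheme.fppfPrecoverage 𝒳)
    (hd : AlgSt.RepByAlgSpWith AlgSp.IsSeparatedMor (FibCat.diag (FibCat.toSelf 𝒳)))
    {T : Over S} [IsAffine T.left] {c : FibCat.overCat T ⥤ᵇ 𝒳}
    (H : ∀ {P Q T' : Over S} (f : T' ⟶ T) (q : P ⟶ Q) [IsOpenImmersion q.left] (pQ : Q ⟶ T'),
      EdgeTriv q pQ (BasedFunctor.comp (AlgSt.overMap f) c))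
    (γ v : Iso1 c (𝟙 T) c (𝟙 T)) : γ.trans v = v.trans γ := by
  let A : Type u := Γ(T.left, ⊤)
  let str : Spec (CommRingCat.of A) ⟶ S := T.left.isoSpec.inv ≫ T.hom
  let m : overK str (RingHom.id A) ⟶ T := Over.homMk (Spec.map (CommRingCat.ofHom (RingHom.id A)) ≫ T.left.isoSpec.inv)
    (Category.assoc _ _ _)
  haveI : IsIso (CommRingCat.ofHom (RingHom.id A)) := inferInstanceAs (IsIso (𝟙 (CommRingCat.of A)))
  haveI : IsIso m.left := inferInstanceAs (IsIso (Spec.map (CommRingCat.ofHom (RingHom.id A)) ≫ T.left.isoSpec.inv))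
  haveI : IsIso ((Over.forget S).map m) := ‹IsIso m.left›
  haveI : IsIso m := isIso_of_reflects_iso m (Over.forget S)
  have gX := h𝒳.isStack.1
  let N := node A
  let fN : A →+* N := (RingHom.prod C C).codRestrict N fun a => by
    show eval 0 (C a) = eval 0 (C a)
    rfl
  let x : N := ⟨(X, 0), by show eval 0 X = eval 0 0; simp⟩
  let y : N := ⟨(0, X), by show eval 0 0 = eval 0 X; simp⟩
  have hX : IsUnit (algebraMap A[X] (Localization.Away (X : A[X])) X) := IsLocalization.Away.algebraMap_isUnit X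
  let c' := BasedFunctor.comp (AlgSt.overMap m) c
  let M := overK str (RingHom.id A)
  let γM : Iso1 c (𝟙 M ≫ m) c (𝟙 M ≫ m) := Iso1.pb gX γ m (by simp [M]) (by simp [M])
  let vM : Iso1 c (𝟙 M ≫ m) c (𝟙 M ≫ m) := Iso1.pb gX v m (by simp [M]) (by simp [M])
  let g₀ : Iso1 c' (𝟙 _) c' (𝟙 _) := ⟨γM.iso, γM.lift⟩
  let v₀ : Iso1 c' (𝟙 _) c' (𝟙 _) := ⟨vM.iso, vM.lift⟩
  have h1 : g₀.trans v₀ = v₀.trans g₀ := comm_rings h𝒳 hd str fN (C : A →+* A[X]) x y (Subtype.ext (Prod.ext (mul_zero _) (zero_mul _)))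
    ((RingHom.fst _ _).comp N.subtype) ((RingHom.snd _ _).comp N.subtype) rfl rfl
    (algebraMap A[X] (Localization.Away (X : A[X])))
    (IsLocalization.injective _ (Submonoid.powers_le.2 Polynomial.monic_X.mem_nonZeroDivisors)) hX hX
    (evalRingHom 0) (RingHom.ext fun a => by simp) (RingHom.ext fun r => r.2) (fun q _ pQ => H m q pQ) g₀ v₀
  have h2 : γM.trans vM = vM.trans γM := Iso1.ext ((congrArg (fun r : Iso1 c' (𝟙 M) c' (𝟙 M) => r.iso) h1) :)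
  have e : inv m ≫ 𝟙 M ≫ m = 𝟙 T := by rw [Category.id_comp]; exact IsIso.inv_hom_id m
  have h3 := congrArg (fun r : Iso1 c (𝟙 M ≫ m) c (𝟙 M ≫ m) =>
    Iso1.pb gX r (inv m) (g' := 𝟙 T) (t' := 𝟙 T) e e) h2
  rw [Iso1.pb_trans gX γM vM (inv m) e e e, Iso1.pb_trans gX vM γM (inv m) e e e] at h3
  simp only [γM, vM, Iso1.pb_pb] at h3
  rwa [Iso1.pb_congr gX γ (IsIso.inv_hom_id m), Iso1.pb_congr gX v (IsIso.inv_hom_id m), Iso1.pb_id,
    Iso1.pb_id] at h3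

end Affine

/-- commutativity of pullback automorphisms is detected by the classes -/
theorem pbComm_transfer (h𝒳 : IsAlgStack Scheme.fppfPrecoverage 𝒳) (h𝒴 : IsAlgStack Scheme.fppfPrecoverage 𝒴)
    (hd : AlgSt.RepByAlgSpWith AlgSp.IsSeparatedMor (FibCat.diag (FibCat.toSelf 𝒴))) (φ : IsoNat.FIso 𝒳 𝒴)
    {x : FibCat.overCat V ⥤ᵇ 𝒳} {y : FibCat.overCat V ⥤ᵇ 𝒴} (hxy : φ.toEquiv V (IsoNat.objCls x) = IsoNat.objCls y)
    (hx : PbComm x) : PbComm y := by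
  intro T f a b
  have gY := h𝒴.isStack.1
  let 𝒰 := T.left.affineCover
  let π : ∀ i, Over.mk (𝒰.f i ≫ T.hom) ⟶ T := fun i => Over.homMk (𝒰.f i) rfl
  refine iso1_eq_of_cover h𝒴.isStack _ _ (AlgSpace.mem_J_of_openImmersions π
    (fun i => inferInstanceAs (IsOpenImmersion (𝒰.f i))) fun t => ?_) ?_
  · obtain ⟨v, hv⟩ := 𝒰.covers t
    exact ⟨_, v, hv⟩
  · rintro W g ⟨Ti, l, π', ⟨i⟩, rfl⟩
    haveI : IsAffine (Over.mk (𝒰.f i ≫ T.hom)).left := inferInstanceAs (IsAffine (𝒰.X i))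
    let yi := BasedFunctor.comp (AlgSt.overMap (π i ≫ f)) y
    have hxy' := corr_comp φ gY (π i ≫ f) hxy
    let ai : Iso1 y (𝟙 _ ≫ π i ≫ f) y (𝟙 _ ≫ π i ≫ f) := Iso1.pb gY a (π i) (by simp) (by simp)
    let bi : Iso1 y (𝟙 _ ≫ π i ≫ f) y (𝟙 _ ≫ π i ≫ f) := Iso1.pb gY b (π i) (by simp) (by simp)
    let a₀ : Iso1 yi (𝟙 _) yi (𝟙 _) := ⟨ai.iso, ai.lift⟩
    let b₀ : Iso1 yi (𝟙 _) yi (𝟙 _) := ⟨bi.iso, bi.lift⟩
    have h1 : a₀.trans b₀ = b₀.trans a₀ := comm_affine h𝒴 hd (fun {P Q T'} m q _ pQ =>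
      edgeTriv_transfer h𝒳 h𝒴 φ q pQ (corr_comp φ gY m hxy')
        (edgeTriv_of_comm h𝒳.isStack q pQ _ fun u v => by
          let u' : Iso1 x (((q ≫ pQ) ≫ m) ≫ π i ≫ f) x (((q ≫ pQ) ≫ m) ≫ π i ≫ f) := ⟨u.iso, u.lift⟩
          let v' : Iso1 x (((q ≫ pQ) ≫ m) ≫ π i ≫ f) x (((q ≫ pQ) ≫ m) ≫ π i ≫ f) := ⟨v.iso, v.lift⟩
          exact Iso1.ext ((congrArg Iso1.iso (hx _ _ u' v')) :))) a₀ b₀
    have h2 : ai.trans bi = bi.trans ai := Iso1.ext ((congrArg Iso1.iso h1) :)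
    let k := (l ≫ π i) ≫ f
    have e : l ≫ 𝟙 _ ≫ π i ≫ f = k := by simp [k]
    have h3 := congrArg (fun r : Iso1 y (𝟙 _ ≫ π i ≫ f) y (𝟙 _ ≫ π i ≫ f) =>
      Iso1.pb gY r l (g' := k) (t' := k) e e) h2
    rw [Iso1.pb_trans gY ai bi l e e e, Iso1.pb_trans gY bi ai l e e e] at h3
    simp only [ai, bi, Iso1.pb_pb] at h3
    rw [Iso1.pb_trans gY a b (l ≫ π i) (g' := k) (t' := k) (ht := rfl),
      Iso1.pb_trans gY b a (l ≫ π i) (g' := k) (t' := k) (ht := rfl)]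
    exact h3

variable {T : Over S}

theorem isAutAbelian_iff_pbComm (h𝒳 : FibCat.IsFibGrpd 𝒳.p) (η : 𝒳.p.Fiber T) {x : FibCat.overCat T ⥤ᵇ 𝒳}
    (e : x.obj (Over.mk (𝟙 T)) ≅ η.1) (he : 𝒳.p.IsHomLift (𝟙 T) e.hom) :
    IsoNat.IsAutAbelian η ↔ PbComm x := by
  haveI := he
  constructor
  · intro h T' f a b
    let o : 𝒳.p.Fiber T' := ⟨x.obj (Over.mk f), x.w_obj _⟩
    let mk : Iso1 x f x f → Aut o := fun r =>
      { hom := ⟨r.iso.hom, r.lift⟩
        inv := ⟨r.iso.inv, r.symm.lift⟩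
        hom_inv_id := Subtype.ext r.iso.hom_inv_id
        inv_hom_id := Subtype.ext r.iso.inv_hom_id }
    have h' := congrArg (fun r : Aut o => r.hom.1)
      (h T' o (x.map (sl f (Category.comp_id f)) ≫ e.hom) (mk b) (mk a))
    exact Iso1.ext (Iso.ext h')
  · intro h T' o m s t
    let f : T' ⟶ T := eqToHom o.2.symm ≫ 𝒳.p.map m ≫ eqToHom η.2
    haveI hm : 𝒳.p.IsHomLift f m := IsHomLift.of_fac' 𝒳.p f m o.2 η.2 (by simp [f])
    haveI := map_sl_lift x f (Category.comp_id f)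
    haveI : 𝒳.p.IsHomLift f (x.map (sl f (Category.comp_id f)) ≫ e.hom) := by
      have : 𝒳.p.IsHomLift (f ≫ 𝟙 T) (x.map (sl f (Category.comp_id f)) ≫ e.hom) := inferInstance
      simpa using this
    obtain ⟨i, hi, -⟩ := exists_iso_of_lifts h𝒳 f (x.map (sl f (Category.comp_id f)) ≫ e.hom) m
    haveI := hi
    haveI : 𝒳.p.IsHomLift (𝟙 T') i.inv := IsHomLift.lift_id_inv 𝒳.p T' i
    let toI : Aut o → Iso1 x f x f := fun r =>
      ⟨i ≪≫ Fiber.fiberInclusion.mapIso r ≪≫ i.symm, by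
        haveI := r.hom.2
        show 𝒳.p.IsHomLift (𝟙 T') (i.hom ≫ r.hom.1 ≫ i.inv)
        have : 𝒳.p.IsHomLift (𝟙 T' ≫ 𝟙 T' ≫ 𝟙 T') (i.hom ≫ r.hom.1 ≫ i.inv) := inferInstance
        simpa using this⟩
    have h' := congrArg (fun r : Iso1 x f x f => i.inv ≫ r.iso.hom ≫ i.hom) (h T' f (toI t) (toI s))
    refine Iso.ext (Subtype.ext ?_)
    change i.inv ≫ ((i.hom ≫ t.hom.1 ≫ i.inv) ≫ i.hom ≫ s.hom.1 ≫ i.inv) ≫ i.hom =
      i.inv ≫ ((i.hom ≫ s.hom.1 ≫ i.inv) ≫ i.hom ≫ t.hom.1 ≫ i.inv) ≫ i.hom at h'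
    simp only [Category.assoc, Iso.inv_hom_id_assoc, Iso.inv_hom_id, Category.comp_id] at h'
    exact h'

/-- commutativity of the automorphism sheaf is detected by the classes -/
theorem isAutAbelian_transfer (h𝒳 : IsAlgStack Scheme.fppfPrecoverage 𝒳) (h𝒴 : IsAlgStack Scheme.fppfPrecoverage 𝒴)
    (hd : AlgSt.RepByAlgSpWith AlgSp.IsSeparatedMor (FibCat.diag (FibCat.toSelf 𝒴))) (φ : IsoNat.FIso 𝒳 𝒴)
    (η : 𝒳.p.Fiber T) (η' : 𝒴.p.Fiber T) (hη : φ.toEquiv T (IsoNat.cls η) = IsoNat.cls η')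
    (h : IsoNat.IsAutAbelian η) : IsoNat.IsAutAbelian η' := by
  haveI := FC16.isFibered h𝒳.isStack.1
  haveI := FC16.isFibered h𝒴.isStack.1
  have hxy : φ.toEquiv T (IsoNat.objCls (ofObj η.2)) = IsoNat.objCls (ofObj η'.2) :=
    (congrArg (φ.toEquiv T) (cls_eq_of_lifts (⟨_, (ofObj η.2).w_obj _⟩ : 𝒳.p.Fiber T) η (ofObjIso η.2)
      (ofObjIso_lift η.2))).trans (hη.trans (cls_eq_of_lifts (⟨_, (ofObj η'.2).w_obj _⟩ : 𝒴.p.Fiber T) η'
        (ofObjIso η'.2) (ofObjIso_lift η'.2)).symm)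
  exact (isAutAbelian_iff_pbComm h𝒴.isStack.1 η' (ofObjIso η'.2) (ofObjIso_lift η'.2)).2
    (pbComm_transfer h𝒳 h𝒴 hd φ hxy
      ((isAutAbelian_iff_pbComm h𝒳.isStack.1 η (ofObjIso η.2) (ofObjIso_lift η.2)).1 h))

end Groth.Agent.IsoNat5
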