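import Groth.Agent.Lib.IsoNat5.NodeT
import Groth.Agent.Lib.IsoNat5.AbelMain

/-!
An abelian automorphism group is recovered from the classes.
-/

universe u

open CategoryTheory CategoryTheory.Functor CategoryTheory.Limits AlgebraicGeometry Opposite

set_option linter.style.haveILetI false
set_option linter.unusedSectionVars false
set_option backward.isDefEq.respectTransparency false
set_option backward.isDefEq.respectTransparency.types false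

namespace Groth.Agent.IsoNat5

open Groth.Agent.FC16 Groth.Agent.StAlg Groth.Agent.StAlg16 AlgSt

variable {S : Scheme.{u}} {𝒳 𝒴 : AlgSt.Cat S} {T : Over S}

namespace NodeSys

variable (N : NodeSys T) {x : FibCat.overCat T ⥤ᵇ 𝒳} {y : FibCat.overCat T ⥤ᵇ 𝒴}

theorem inK_corr (h𝒴 : FibCat.IsFibGrpd 𝒴.p) (φ : IsoNat.FIso 𝒳 𝒴) {V : Over S} {C : FibCat.overCat V ⥤ᵇ 𝒳}
    {C' : FibCat.overCat V ⥤ᵇ 𝒴} (hC : φ.toEquiv V (IsoNat.objCls C) = IsoNat.objCls C')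
    (hxy : φ.toEquiv T (IsoNat.objCls x) = IsoNat.objCls y) {d : N.D ⟶ V} : N.InK C d x ↔ N.InK C' d y := by
  unfold InK
  simp only [nonempty_iso1_corr h𝒴 φ hC hxy]

/-- automorphisms with corresponding twists -/
def Corr (h𝒳 : FibCat.IsFibGrpd 𝒳.p) (h𝒴 : FibCat.IsFibGrpd 𝒴.p) (φ : IsoNat.FIso 𝒳 𝒴)
    (γ : Iso1 x (𝟙 T) x (𝟙 T)) (γ' : Iso1 y (𝟙 T) y (𝟙 T)) : Prop :=
  ∃ (η : FibCat.overCat N.D ⥤ᵇ 𝒳) (η' : FibCat.overCat N.D ⥤ᵇ 𝒴),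
    N.Tw h𝒳 η (𝟙 _) γ ∧ N.Tw h𝒴 η' (𝟙 _) γ' ∧ φ.toEquiv N.D (IsoNat.objCls η) = IsoNat.objCls η'

variable {h𝒳 : Stk.IsStack (QuotSh.J Scheme.fppfPrecoverage S) 𝒳}
  {h𝒴 : Stk.IsStack (QuotSh.J Scheme.fppfPrecoverage S) 𝒴}

theorem exists_corr (φ : IsoNat.FIso 𝒳 𝒴) (hxy : φ.toEquiv T (IsoNat.objCls x) = IsoNat.objCls y)
    (hc : PbComm y) (γ : Iso1 x (𝟙 T) x (𝟙 T)) :
    ∃ γ' : Iso1 y (𝟙 T) y (𝟙 T), N.Corr h𝒳.1 h𝒴.1 φ γ γ' := by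
  obtain ⟨η, hη⟩ := N.exists_tw h𝒳 γ
  obtain ⟨η', hη'⟩ := exists_chart φ h𝒴.1 η
  obtain ⟨γ', hγ'⟩ := N.exists_tw_of_inK h𝒴 hc ((N.inK_corr h𝒴.1 φ hη' hxy).1 (N.inK_of_tw h𝒳 hη))
  exact ⟨γ', η, η', hη, hγ', hη'⟩

theorem exists_corr' (φ : IsoNat.FIso 𝒳 𝒴) (hxy : φ.toEquiv T (IsoNat.objCls x) = IsoNat.objCls y)
    (hc : PbComm x) (γ' : Iso1 y (𝟙 T) y (𝟙 T)) :
    ∃ γ : Iso1 x (𝟙 T) x (𝟙 T), N.Corr h𝒳.1 h𝒴.1 φ γ γ' := by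
  obtain ⟨η', hη'⟩ := N.exists_tw h𝒴 γ'
  obtain ⟨η, hη⟩ := exists_chart (symm h𝒳.1 h𝒴.1 φ) h𝒳.1 η'
  have hC : φ.toEquiv N.D (IsoNat.objCls η) = IsoNat.objCls η' := ((Equiv.symm_apply_eq _).1 hη).symm
  obtain ⟨γ, hγ⟩ := N.exists_tw_of_inK h𝒳 hc ((N.inK_corr h𝒴.1 φ hC hxy).2 (N.inK_of_tw h𝒴 hη'))
  exact ⟨γ, η, η', hγ, hη', hC⟩

/-- twists with corresponding objects have corresponding automorphisms -/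
theorem corr_of_tw {φ : IsoNat.FIso 𝒳 𝒴} {V : Over S}
    {C : FibCat.overCat V ⥤ᵇ 𝒳} {C' : FibCat.overCat V ⥤ᵇ 𝒴} (hC : φ.toEquiv V (IsoNat.objCls C) = IsoNat.objCls C')
    {d : N.D ⟶ V} {γ : Iso1 x (𝟙 T) x (𝟙 T)} {γ' : Iso1 y (𝟙 T) y (𝟙 T)} (h : N.Tw h𝒳.1 C d γ)
    (h' : N.Tw h𝒴.1 C' d γ') : N.Corr h𝒳.1 h𝒴.1 φ γ γ' := by
  let C₁ := BasedFunctor.comp (AlgSt.overMap d) C
  let C₁' := BasedFunctor.comp (AlgSt.overMap d) C'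
  let i : Iso1 C₁ (𝟙 N.D) C d :=
    ⟨(Iso1.ofEq C (Category.id_comp d)).iso, (Iso1.ofEq C (Category.id_comp d)).lift⟩
  let i' : Iso1 C₁' (𝟙 N.D) C' d :=
    ⟨(Iso1.ofEq C' (Category.id_comp d)).iso, (Iso1.ofEq C' (Category.id_comp d)).lift⟩
  exact ⟨C₁, C₁', N.tw_congr h𝒳.1 i h, N.tw_congr h𝒴.1 i' h', corr_comp φ h𝒴.1 d hC⟩

theorem corr_inj (φ : IsoNat.FIso 𝒳 𝒴) (hD : N.Dense 𝒴 y) (hD₀ : N.Dense 𝒳 x) (hcx : PbComm x) (hcy : PbComm y) {γ₁ γ₂ : Iso1 x (𝟙 T) x (𝟙 T)}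
    {γ₁' γ₂' : Iso1 y (𝟙 T) y (𝟙 T)} (h₁ : N.Corr h𝒳.1 h𝒴.1 φ γ₁ γ₁') (h₂ : N.Corr h𝒳.1 h𝒴.1 φ γ₂ γ₂') :
    γ₁ = γ₂ ↔ γ₁' = γ₂' := by
  obtain ⟨η₁, η₁', t₁, t₁', c₁⟩ := h₁
  obtain ⟨η₂, η₂', t₂, t₂', c₂⟩ := h₂
  constructor
  · rintro rfl
    obtain ⟨e₁, e₂, α, hα, he⟩ := t₁
    obtain ⟨f₁, f₂, β, hβ, hf⟩ := t₂
    obtain rfl : α = β := iso1_eq_of_two N.ma N.mb h𝒳 N.cover α β N.ma_p N.ma_p N.mb_p N.mb_p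
      (hα.1.trans hβ.1.symm) (hα.2.trans hβ.2.symm)
    obtain ⟨G⟩ : Nonempty (Iso1 η₂ (𝟙 N.D) η₁ (𝟙 N.D)) := by
      refine exists_iso1_dbl N.q h𝒳 (𝟙 N.D) (𝟙 N.D) (f₁.trans e₁.symm) (f₂.trans e₂.symm) ?_
      let g' := N.q ≫ j₁ N.q ≫ 𝟙 N.D
      have hg : N.q ≫ j₂ N.q ≫ 𝟙 N.D = g' := by rw [← Category.assoc, ← q_j, Category.assoc]
      rw [Iso1.pb_trans h𝒳.1 f₁ e₁.symm N.q (ht := show N.q ≫ N.pQ = N.q ≫ N.pQ from rfl),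
        Iso1.pb_trans h𝒳.1 f₂ e₂.symm N.q (ht := show N.q ≫ N.pQ = N.q ≫ N.pQ from rfl),
        Iso1.pb_symm h𝒳.1 e₁ N.q rfl rfl, Iso1.pb_symm h𝒳.1 e₂ N.q hg rfl, ← he, ← hf]
      refine Iso1.ext (Iso.ext ?_)
      simp [Iso1.trans, Iso1.symm]
    obtain ⟨G'⟩ := (nonempty_iso1_corr h𝒴.1 φ c₂ c₁).1 ⟨G⟩
    exact N.tw_inj h𝒴.1 hD hcy (N.tw_congr h𝒴.1 G' t₁') t₂'
  · rintro rfl
    obtain ⟨e₁, e₂, α, hα, he⟩ := t₁'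
    obtain ⟨f₁, f₂, β, hβ, hf⟩ := t₂'
    obtain rfl : α = β := iso1_eq_of_two N.ma N.mb h𝒴 N.cover α β N.ma_p N.ma_p N.mb_p N.mb_p
      (hα.1.trans hβ.1.symm) (hα.2.trans hβ.2.symm)
    obtain ⟨G'⟩ : Nonempty (Iso1 η₂' (𝟙 N.D) η₁' (𝟙 N.D)) := by
      refine exists_iso1_dbl N.q h𝒴 (𝟙 N.D) (𝟙 N.D) (f₁.trans e₁.symm) (f₂.trans e₂.symm) ?_
      let g' := N.q ≫ j₁ N.q ≫ 𝟙 N.D
      have hg : N.q ≫ j₂ N.q ≫ 𝟙 N.D = g' := by rw [← Category.assoc, ← q_j, Category.assoc]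
      rw [Iso1.pb_trans h𝒴.1 f₁ e₁.symm N.q (ht := show N.q ≫ N.pQ = N.q ≫ N.pQ from rfl),
        Iso1.pb_trans h𝒴.1 f₂ e₂.symm N.q (ht := show N.q ≫ N.pQ = N.q ≫ N.pQ from rfl),
        Iso1.pb_symm h𝒴.1 e₁ N.q rfl rfl, Iso1.pb_symm h𝒴.1 e₂ N.q hg rfl, ← he, ← hf]
      refine Iso1.ext (Iso.ext ?_)
      simp [Iso1.trans, Iso1.symm]
    obtain ⟨G⟩ := (nonempty_iso1_corr h𝒴.1 φ c₂ c₁).2 ⟨G'⟩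
    exact N.tw_inj h𝒳.1 hD₀ hcx (N.tw_congr h𝒳.1 G t₁) t₂

theorem corr_div (φ : IsoNat.FIso 𝒳 𝒴) (hxy : φ.toEquiv T (IsoNat.objCls x) = IsoNat.objCls y)
    (hD : N.Dense 𝒴 y) (hD₀ : N.Dense 𝒳 x) (hcx : PbComm x) (hcy : PbComm y) {γ δ : Iso1 x (𝟙 T) x (𝟙 T)}
    {γ' δ' : Iso1 y (𝟙 T) y (𝟙 T)} (h₁ : N.Corr h𝒳.1 h𝒴.1 φ γ γ') (h₂ : N.Corr h𝒳.1 h𝒴.1 φ δ δ') :
    N.Corr h𝒳.1 h𝒴.1 φ (γ.trans δ.symm) (γ'.trans δ'.symm) := by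
  obtain ⟨C, hC₁, hC₂⟩ := N.exists_tw_triple h𝒳 γ δ
  obtain ⟨C', hC⟩ := exists_chart φ h𝒴.1 C
  obtain ⟨k₁, hk₁⟩ := N.exists_tw_of_inK h𝒴 hcy ((N.inK_corr h𝒴.1 φ hC hxy).1 (N.inK_of_tw h𝒳 hC₁))
  obtain ⟨k₂, hk₂⟩ := N.exists_tw_of_inK h𝒴 hcy ((N.inK_corr h𝒴.1 φ hC hxy).1 (N.inK_of_tw h𝒳 hC₂))
  obtain rfl : γ' = k₁ := (N.corr_inj (h𝒳 := h𝒳) (h𝒴 := h𝒴) φ hD hD₀ hcx hcy h₁ (N.corr_of_tw (h𝒳 := h𝒳) (h𝒴 := h𝒴) hC hC₁ hk₁)).1 rfl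
  obtain rfl : δ' = k₂ := (N.corr_inj (h𝒳 := h𝒳) (h𝒴 := h𝒴) φ hD hD₀ hcx hcy h₂ (N.corr_of_tw (h𝒳 := h𝒳) (h𝒴 := h𝒴) hC hC₂ hk₂)).1 rfl
  exact N.corr_of_tw (h𝒳 := h𝒳) (h𝒴 := h𝒴) hC (N.tw_edge h𝒳.1 hcx hC₁ hC₂) (N.tw_edge h𝒴.1 hcy hk₁ hk₂)

/-- the bijection of automorphisms -/
theorem exists_equiv (φ : IsoNat.FIso 𝒳 𝒴) (hxy : φ.toEquiv T (IsoNat.objCls x) = IsoNat.objCls y)
    (hD : N.Dense 𝒴 y) (hD₀ : N.Dense 𝒳 x) (hcx : PbComm x) (hcy : PbComm y)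
    (h𝒳 : Stk.IsStack (QuotSh.J Scheme.fppfPrecoverage S) 𝒳) (h𝒴 : Stk.IsStack (QuotSh.J Scheme.fppfPrecoverage S) 𝒴) :
    ∃ f : Iso1 x (𝟙 T) x (𝟙 T) ≃ Iso1 y (𝟙 T) y (𝟙 T), ∀ a b, f (a.trans b) = (f a).trans (f b) := by
  choose f hf using N.exists_corr (h𝒳 := h𝒳) (h𝒴 := h𝒴) φ hxy hcy
  choose g hg using N.exists_corr' (h𝒳 := h𝒳) (h𝒴 := h𝒴) φ hxy hcx
  let F : Iso1 x (𝟙 T) x (𝟙 T) ≃ Iso1 y (𝟙 T) y (𝟙 T) :=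
    ⟨f, g, fun a => ((N.corr_inj (h𝒳 := h𝒳) (h𝒴 := h𝒴) φ hD hD₀ hcx hcy (hg (f a)) (hf a)).2 rfl),
      fun b => ((N.corr_inj (h𝒳 := h𝒳) (h𝒴 := h𝒴) φ hD hD₀ hcx hcy (hf (g b)) (hg b)).1 rfl)⟩
  have hdiv : ∀ a b, f (a.trans b.symm) = (f a).trans (f b).symm := fun a b =>
    (N.corr_inj (h𝒳 := h𝒳) (h𝒴 := h𝒴) φ hD hD₀ hcx hcy (hf (a.trans b.symm)) (N.corr_div (h𝒳 := h𝒳) (h𝒴 := h𝒴) φ hxy hD hD₀ hcx hcy (hf a) (hf b))).1 rfl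
  refine ⟨F, fun a b => ?_⟩
  show f (a.trans b) = (f a).trans (f b)
  have h1 : f (Iso1.refl x (𝟙 T)) = Iso1.refl y (𝟙 T) := by
    have := hdiv a a
    rwa [Iso1.trans_symm, Iso1.trans_symm] at this
  have h2 : f b.symm = (f b).symm := by
    have := hdiv (Iso1.refl x (𝟙 T)) b
    rwa [Iso1.refl_trans, h1, Iso1.refl_trans] at this
  have hb : b = b.symm.symm := Iso1.ext (Iso.ext rfl)
  conv_lhs => rw [hb]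
  rw [hdiv, h2]
  exact congrArg _ (Iso1.ext (Iso.ext rfl))

end NodeSys

/-- automorphisms of a chart value and of the object -/
theorem exists_autEquiv (η : 𝒳.p.Fiber T) {x : FibCat.overCat T ⥤ᵇ 𝒳} (e : x.obj (Over.mk (𝟙 T)) ≅ η.1)
    (he : 𝒳.p.IsHomLift (𝟙 T) e.hom) :
    ∃ f : Aut η ≃ Iso1 x (𝟙 T) x (𝟙 T), ∀ a b, f (a * b) = (f b).trans (f a) := by
  haveI := he
  haveI : 𝒳.p.IsHomLift (𝟙 T) e.inv := IsHomLift.lift_id_inv 𝒳.p T e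
  let to1 : Aut η → Iso1 x (𝟙 T) x (𝟙 T) := fun r =>
    ⟨e ≪≫ Fiber.fiberInclusion.mapIso r ≪≫ e.symm, by
      haveI := r.hom.2
      show 𝒳.p.IsHomLift (𝟙 T) (e.hom ≫ r.hom.1 ≫ e.inv)
      have : 𝒳.p.IsHomLift (𝟙 T ≫ 𝟙 T ≫ 𝟙 T) (e.hom ≫ r.hom.1 ≫ e.inv) := inferInstance
      simpa using this⟩
  let ofI : Iso1 x (𝟙 T) x (𝟙 T) → Aut η := fun r =>
    { hom := ⟨e.inv ≫ r.iso.hom ≫ e.hom, by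
        haveI := r.lift
        have : 𝒳.p.IsHomLift (𝟙 T ≫ 𝟙 T ≫ 𝟙 T) (e.inv ≫ r.iso.hom ≫ e.hom) := inferInstance
        simpa using this⟩
      inv := ⟨e.inv ≫ r.iso.inv ≫ e.hom, by
        haveI : 𝒳.p.IsHomLift (𝟙 T) r.iso.inv := r.symm.lift
        have : 𝒳.p.IsHomLift (𝟙 T ≫ 𝟙 T ≫ 𝟙 T) (e.inv ≫ r.iso.inv ≫ e.hom) := inferInstance
        simpa using this⟩
      hom_inv_id := Subtype.ext (by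
        show (e.inv ≫ r.iso.hom ≫ e.hom) ≫ e.inv ≫ r.iso.inv ≫ e.hom = 𝟙 _
        simp)
      inv_hom_id := Subtype.ext (by
        show (e.inv ≫ r.iso.inv ≫ e.hom) ≫ e.inv ≫ r.iso.hom ≫ e.hom = 𝟙 _
        simp) }
  refine ⟨⟨to1, ofI, fun a => ?_, fun r => ?_⟩, fun a b => ?_⟩
  · refine Iso.ext (Subtype.ext ?_)
    show e.inv ≫ (e.hom ≫ a.hom.1 ≫ e.inv) ≫ e.hom = a.hom.1
    simp
  · refine Iso1.ext (Iso.ext ?_)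
    show e.hom ≫ (e.inv ≫ r.iso.hom ≫ e.hom) ≫ e.inv = r.iso.hom
    simp
  · refine Iso1.ext (Iso.ext ?_)
    show e.hom ≫ (b.hom.1 ≫ a.hom.1) ≫ e.inv = (e.hom ≫ b.hom.1 ≫ e.inv) ≫ e.hom ≫ a.hom.1 ≫ e.inv
    simp

/-- an abelian automorphism group is recovered from the classes -/
theorem nonempty_autMulEquiv (h𝒳 : IsAlgStack Scheme.fppfPrecoverage 𝒳) (h𝒴 : IsAlgStack Scheme.fppfPrecoverage 𝒴)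
    (hdx : AlgSt.RepByAlgSpWith AlgSp.IsSeparatedMor (FibCat.diag (FibCat.toSelf 𝒳)))
    (hdy : AlgSt.RepByAlgSpWith AlgSp.IsSeparatedMor (FibCat.diag (FibCat.toSelf 𝒴))) (φ : IsoNat.FIso 𝒳 𝒴)
    (η : 𝒳.p.Fiber T) (η' : 𝒴.p.Fiber T) (hη : φ.toEquiv T (IsoNat.cls η) = IsoNat.cls η')
    (h : IsoNat.IsAutAbelian η) : Nonempty (Aut η ≃* Aut η') := by
  haveI := FC16.isFibered h𝒳.isStack.1
  haveI := FC16.isFibered h𝒴.isStack.1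
  have hxy : φ.toEquiv T (IsoNat.objCls (ofObj η.2)) = IsoNat.objCls (ofObj η'.2) :=
    (congrArg (φ.toEquiv T) (cls_eq_of_lifts (⟨_, (ofObj η.2).w_obj _⟩ : 𝒳.p.Fiber T) η (ofObjIso η.2)
      (ofObjIso_lift η.2))).trans (hη.trans (cls_eq_of_lifts (⟨_, (ofObj η'.2).w_obj _⟩ : 𝒴.p.Fiber T) η'
        (ofObjIso η'.2) (ofObjIso_lift η'.2)).symm)
  have hcx := (isAutAbelian_iff_pbComm h𝒳.isStack.1 η (ofObjIso η.2) (ofObjIso_lift η.2)).1 h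
  have hcy := pbComm_transfer h𝒳 h𝒴 hdy φ hxy hcx
  obtain ⟨F, hF⟩ := (nodeSys T).exists_equiv φ hxy (nodeSys_dense h𝒴.isStack hdy _) (nodeSys_dense h𝒳.isStack hdx _)
    hcx hcy h𝒳.isStack h𝒴.isStack
  obtain ⟨a, ha⟩ := exists_autEquiv η (ofObjIso η.2) (ofObjIso_lift η.2)
  obtain ⟨b, hb⟩ := exists_autEquiv η' (ofObjIso η'.2) (ofObjIso_lift η'.2)
  refine ⟨{ toEquiv := (a.trans F).trans b.symm, map_mul' := fun r s => ?_ }⟩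
  apply b.injective
  simp only [Equiv.toFun_as_coe, Equiv.trans_apply, Equiv.apply_symm_apply, hb, ha, hF]

end Groth.Agent.IsoNat5
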