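import Groth.Agent.Lib.IsoNat5.StackEquiv
import Groth.Agent.Lib.IsoNat5.AbelMain
import Groth.Agent.Lib.Quot16.Chart

/-!
The trivial torsor as a chart of a classifying stack.
-/

universe u

open CategoryTheory CategoryTheory.Limits MonoidalCategory CartesianMonoidalCategory MonObj GrpObj
  AlgebraicGeometry

set_option linter.style.haveILetI false
set_option linter.unusedSectionVars false
set_option backward.isDefEq.respectTransparency false
set_option backward.isDefEq.respectTransparency.types false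

namespace Groth.Agent.IsoNat5

open AlgSt Groth.Agent.Quot16
open FC16 hiding overMap

variable {S : Scheme.{u}} (G : Over S) [GrpObj G]

/-- the trivial torsor chart -/
noncomputable abbrev bgChart : FibCat.overCat (𝟙_ (Over S)) ⥤ᵇ AlgSt.BG Scheme.fppfPrecoverage G :=
  Quot16.chartMap Scheme.fppfPrecoverage (trivAction G)

variable {G}

theorem bg_leftMul_sec {W : Over S} (k k' : W ⟶ G) :
    lift k (𝟙 W) ≫ (G ◁ lift k' (𝟙 W)) ≫ (leftMul G W).act = lift (k * k') (𝟙 W) := by
  apply CartesianMonoidalCategory.hom_ext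
  · simp only [leftMul, Category.assoc, lift_fst, comp_mul, whiskerLeft_fst, whiskerLeft_snd_assoc, lift_snd_assoc,
      Category.id_comp]
  · simp only [leftMul, Category.assoc, lift_snd, whiskerLeft_snd_assoc, lift_snd_assoc, Category.id_comp]

/-- the automorphisms of trivial torsors commute -/
theorem pbComm_bgChart [IsCommMonObj G] : PbComm (bgChart G) := by
  intro T f a b
  let o : QuotObj Scheme.fppfPrecoverage G (trivAction G) := triv Scheme.fppfPrecoverage (trivAction G) f
  let A : o ⟶ o := a.iso.hom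
  let B : o ⟶ o := b.iso.hom
  have hA : A.base = 𝟙 T := by
    have := a.lift
    exact base_eq_of_lift_self (A := o) (B := o) (h := this) (𝟙 T) A
  have hB : B.base = 𝟙 T := by
    have := b.lift
    exact base_eq_of_lift_self (A := o) (B := o) (h := this) (𝟙 T) B
  have hs : ∀ C : o ⟶ o, C.base = 𝟙 T → Quot16.sec (x := f) C = lift (Quot16.sec (x := f) C ≫ fst G T) (𝟙 T) := by
    intro C hC
    apply CartesianMonoidalCategory.hom_ext
    · exact (lift_fst _ _).symm
    · exact ((Quot16.sec_π (x := f) C).trans hC).trans (lift_snd _ _).symm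
  have key : ∀ C D : o ⟶ o, C.base = 𝟙 T → D.base = 𝟙 T → Quot16.sec (x := f) (C ≫ D) =
      lift ((Quot16.sec (x := f) C ≫ fst G T) * (Quot16.sec (x := f) D ≫ fst G T)) (𝟙 T) := by
    intro C D hC hD
    rw [Quot16.sec_comp, Quot16.top_eq (x := f) D]
    conv_lhs => rw [hs C hC, hs D hD]
    exact bg_leftMul_sec _ _
  refine Iso1.ext (Iso.ext ?_)
  show A ≫ B = B ≫ A
  apply Quot16.hom_ext_sec (x := f)
  rw [key A B hA hB, key B A hB hA, mul_comm]

theorem exists_hom_triv (A : QuotObj Scheme.fppfPrecoverage G (trivAction G)) {T : Over S} (hA : A.base = T) :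
    ∃ R ∈ QuotSh.J Scheme.fppfPrecoverage S T, ∀ {T' : Over S} (g : T' ⟶ T), R g →
      ∃ h : (bgChart G).obj (Over.mk (toUnit T')) ⟶ A,
        (AlgSt.BG Scheme.fppfPrecoverage G).p.IsHomLift g h := by
  subst hA
  let R : Sieve A.base :=
    { arrows := fun T' g => ∃ σ : T' ⟶ A.P, σ ≫ A.π = g
      downward_closed := fun {Y Z f} ⟨σ, hσ⟩ g => ⟨g ≫ σ, by rw [Category.assoc, hσ]⟩ }
  refine ⟨R, ?_, fun {T'} g ⟨σ, hσ⟩ => ?_⟩
  · obtain ⟨R₀, hR₀, hs⟩ := A.loc
    rw [GrothendieckTopology.mem_over_iff]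
    refine GrothendieckTopology.superset_covering _ ?_ (Precoverage.generate_mem_toGrothendieck hR₀)
    rintro Z _ ⟨Y, l, f, hf, rfl⟩
    obtain ⟨σ, hσ⟩ := exists_pt A (hs f hf)
    rw [Sieve.overEquiv_iff]
    exact ⟨Over.homMk (l ≫ σ.left) (by rw [Category.assoc]; exact congrArg (l ≫ ·) (Over.w σ)), Over.OverMorphism.ext (by
      rw [Over.comp_left] at hσ
      show (l ≫ σ.left) ≫ A.π.left = l ≫ f
      rw [Category.assoc, hσ])⟩
  · subst hσ
    exact ⟨homOfPt A σ (toUnit_unique _ _), IsHomLift.map _ (homOfPt A σ (toUnit_unique _ _))⟩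

/-- the trivial torsor is locally surjective -/
theorem locSurj_bgChart : LocSurj (bgChart G) := by
  intro T z
  obtain ⟨R, hR, h⟩ := exists_hom_triv (z.obj (Over.mk (𝟙 T))) (z.w_obj _)
  refine ⟨R, hR, fun {T'} g hg => ?_⟩
  obtain ⟨m, hm⟩ := h g hg
  haveI := hm
  haveI := map_sl_lift z g (Category.comp_id g)
  obtain ⟨e, he, -⟩ := exists_iso_of_lifts (Quot16.isFibGrpd (K := Scheme.fppfPrecoverage) (aX := trivAction G)) g
    (z.map (sl g (Category.comp_id g))) m
  exact ⟨toUnit T', ⟨⟨e, he⟩⟩⟩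

end Groth.Agent.IsoNat5
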