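import Groth.Agent.Lib.IsoNat5.StackEquiv2

/-!
Rigid charts with the same classes give equivalent stacks.
-/

universe u

open CategoryTheory CategoryTheory.Functor CategoryTheory.Limits AlgebraicGeometry Opposite

set_option linter.style.haveILetI false
set_option linter.unusedSectionVars false
set_option backward.isDefEq.respectTransparency false
set_option backward.isDefEq.respectTransparency.types false

namespace Groth.Agent.IsoNat5

open Groth.Agent.FC16 Groth.Agent.StAlg Groth.Agent.StAlg16 AlgSt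

variable {S : Scheme.{u}} {𝒳 𝒴 : AlgSt.Cat S} {U : Over S}

/-- corresponding charts have the same isomorphism classes of pullbacks -/
theorem nonempty_iso1_of_corr (φ : IsoNat.FIso 𝒳 𝒴) (h𝒴 : FibCat.IsFibGrpd 𝒴.p) {x : FibCat.overCat U ⥤ᵇ 𝒳}
    {y : FibCat.overCat U ⥤ᵇ 𝒴} (h : φ.toEquiv U (IsoNat.objCls x) = IsoNat.objCls y) (T : Over S) (s t : T ⟶ U) :
    Nonempty (Iso1 x s x t) ↔ Nonempty (Iso1 y s y t) := by
  refine ⟨fun ⟨a⟩ => Iso1.nonempty_of_cls_eq ?_, fun ⟨b⟩ => Iso1.nonempty_of_cls_eq ((φ.toEquiv T).injective ?_)⟩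
  · exact (cls_obj_eq φ h𝒴 h s).symm.trans ((congrArg (φ.toEquiv T) a.cls_eq).trans (cls_obj_eq φ h𝒴 h t))
  · exact (cls_obj_eq φ h𝒴 h s).trans (b.cls_eq.trans (cls_obj_eq φ h𝒴 h t).symm)

/-- rigid smooth covers with corresponding classes give an equivalence -/
theorem exists_equiv_of_rigid (h𝒳 : AlgSt.IsAlgStack Scheme.fppfPrecoverage 𝒳)
    (h𝒴 : AlgSt.IsAlgStack Scheme.fppfPrecoverage 𝒴) (φ : IsoNat.FIso 𝒳 𝒴)
    {x : FibCat.overCat U ⥤ᵇ 𝒳} {y : FibCat.overCat U ⥤ᵇ 𝒴} (h : φ.toEquiv U (IsoNat.objCls x) = IsoNat.objCls y)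
    (hx : AlgSt.RepByAlgSpWith (AlgSp.LocP @Smooth) x) (hxs : AlgSt.RepByAlgSpWith AlgSp.IsSurjectiveMor x)
    (hy : AlgSt.RepByAlgSpWith (AlgSp.LocP @Smooth) y) (hxr : Rigid x) (hyr : Rigid y) :
    ∃ e : 𝒳 ⥤ᵇ 𝒴, FibCat.IsEquivOver e := by
  have hcls := nonempty_iso1_of_corr φ h𝒴.isStack.1 h
  obtain ⟨H⟩ := exists_homMap h𝒳.isStack h𝒴.isStack hx hyr fun T s t => (hcls T s t).1
  obtain ⟨H'⟩ := exists_homMap h𝒴.isStack h𝒳.isStack hy hxr fun T s t => (hcls T s t).2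
  have hsx := locSurj_of_smooth h𝒳 hx hxs
  exact exists_equiv_of_homMap h𝒳.isStack h𝒴.isStack hsx
    (locSurj_transfer φ h𝒳.isStack.1 h𝒴.isStack.1 h hsx) H H'
    (fun a => homMap_self_eq h𝒳.isStack hx hxr (H.comp H') a)
    (fun a => homMap_self_eq h𝒴.isStack hy hyr (H'.comp H) a)

end Groth.Agent.IsoNat5
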