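import Groth.Agent.Lib.IsoNat5.InfAut
import Groth.Agent.Lib.IsoNat5.Charts
import Groth.Agent.Lib.StAlg16.Cover
import Groth.Agent.Lib.StAlg16.Setoid
import Groth.Agent.Lib.StAlg16.OpenSub
import Mathlib.Algebra.Polynomial.Monic
import Mathlib.RingTheory.Spectrum.Prime.Topology

/-!
Trivial automorphisms and separatedness of the presheaf of isomorphism classes.
-/

universe u

open CategoryTheory CategoryTheory.Functor CategoryTheory.Limits AlgebraicGeometry Opposite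

set_option linter.style.haveILetI false
set_option linter.unusedSectionVars false
set_option backward.isDefEq.respectTransparency false
set_option backward.isDefEq.respectTransparency.types false

namespace Groth.Agent.IsoNat5

open Groth.Agent.FC16 Groth.Agent.StAlg Groth.Agent.StAlg16 AlgSt

variable {S : Scheme.{u}} {𝒳 𝒴 : AlgSt.Cat S} {U V : Over S}

/-- the classes are separated for fppf coverings -/
def ClsSep (𝒳 : AlgSt.Cat S) : Prop :=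
  ∀ (T T' : Over S) (π : T' ⟶ T) [Flat π.left] [Surjective π.left] [LocallyOfFinitePresentation π.left]
    (x₁ x₂ : 𝒳.p.Fiber T) (x₁' x₂' : 𝒳.p.Fiber T') (a₁ : x₁'.1 ⟶ x₁.1) (a₂ : x₂'.1 ⟶ x₂.1),
    𝒳.p.IsHomLift π a₁ → 𝒳.p.IsHomLift π a₂ → Nonempty (x₁' ≅ x₂') → Nonempty (x₁ ≅ x₂)

theorem clsSep_transfer (h𝒳 : FibCat.IsFibGrpd 𝒳.p) (h𝒴 : FibCat.IsFibGrpd 𝒴.p) (φ : IsoNat.FIso 𝒳 𝒴)
    (h : ClsSep 𝒳) : ClsSep 𝒴 := by
  intro T T' π _ _ _ y₁ y₂ y₁' y₂' b₁ b₂ hb₁ hb₂ hiso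
  obtain ⟨x₁, hx₁⟩ := cls_surjective ((φ.toEquiv T).symm (IsoNat.cls y₁))
  obtain ⟨x₂, hx₂⟩ := cls_surjective ((φ.toEquiv T).symm (IsoNat.cls y₂))
  obtain ⟨x₁', a₁, ha₁⟩ := FC16.exists_lift h𝒳 x₁.2 π
  obtain ⟨x₂', a₂, ha₂⟩ := FC16.exists_lift h𝒳 x₂.2 π
  haveI := ha₁
  haveI := ha₂
  have e₁ := natural' h𝒴 φ π (x' := ⟨x₁', IsHomLift.domain_eq 𝒳.p π a₁⟩) (x := x₁) (y' := y₁') (y := y₁) a₁ b₁ ha₁ hb₁
    (by rw [hx₁, Equiv.apply_symm_apply])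
  have e₂ := natural' h𝒴 φ π (x' := ⟨x₂', IsHomLift.domain_eq 𝒳.p π a₂⟩) (x := x₂) (y' := y₂') (y := y₂) a₂ b₂ ha₂ hb₂
    (by rw [hx₂, Equiv.apply_symm_apply])
  have h' : IsoNat.cls y₁' = IsoNat.cls y₂' := Quotient.sound hiso
  have hx : IsoNat.cls x₁ = IsoNat.cls x₂ :=
    Quotient.sound (h T T' π x₁ x₂ _ _ a₁ a₂ ha₁ ha₂
      (Quotient.exact ((φ.toEquiv T').injective (e₁.trans (h'.trans e₂.symm)))))
  have : IsoNat.cls y₁ = IsoNat.cls y₂ :=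
    (φ.toEquiv T).symm.injective (hx₁.symm.trans (hx.trans hx₂))
  exact Quotient.exact this

theorem iso1_eq_of_clean (hc : ∀ η : 𝒳.obj, IsoNat.IsClean η) {T : Over S} {X : FibCat.overCat U ⥤ᵇ 𝒳}
    {Y : FibCat.overCat V ⥤ᵇ 𝒳} {g : T ⟶ U} {t : T ⟶ V} (e e' : Iso1 X g Y t) : e = e' := by
  have h := e.lift
  have h' : 𝒳.p.IsHomLift (𝟙 T) e'.iso.inv := e'.symm.lift
  have hl : 𝒳.p.IsHomLift (𝟙 T) (e.iso.hom ≫ e'.iso.inv) := inferInstance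
  have hw : 𝒳.p.obj (X.obj (Over.mk g)) = T := X.w_obj (Over.mk g)
  have hp : 𝒳.p.map (e.iso.hom ≫ e'.iso.inv) = 𝟙 (𝒳.p.obj (X.obj (Over.mk g))) := by
    rw [IsHomLift.fac' 𝒳.p (𝟙 T) (e.iso.hom ≫ e'.iso.inv)]
    simp
  have := hc _ _ (𝟙 _) (e.iso.hom ≫ e'.iso.inv) hp
  rw [Iso.comp_inv_eq, Category.id_comp] at this
  exact Iso1.ext (Iso.ext this)

theorem clsSep_of_clean (h𝒳 : IsAlgStack Scheme.fppfPrecoverage 𝒳) (hc : ∀ η : 𝒳.obj, IsoNat.IsClean η) :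
    ClsSep 𝒳 := by
  intro T T' π _ _ _ x₁ x₂ x₁' x₂' a₁ a₂ ha₁ ha₂ hiso
  have gX := h𝒳.isStack.1
  haveI := FC16.isFibered gX
  let X := ofObj x₁.2
  let Y := ofObj x₂.2
  have key : ∀ (x : 𝒳.p.Fiber T) (x' : 𝒳.p.Fiber T') (a : x'.1 ⟶ x.1), 𝒳.p.IsHomLift π a →
      IsoNat.cls (⟨(ofObj x.2).obj (Over.mk π), (ofObj x.2).w_obj _⟩ : 𝒳.p.Fiber T') = IsoNat.cls x' := by
    intro x x' a ha
    haveI := map_sl_lift (ofObj x.2) π (Category.comp_id π)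
    haveI := ofObjIso_lift x.2
    exact cls_eq_of_cls_eq gX π (x' := ⟨(ofObj x.2).obj (Over.mk π), (ofObj x.2).w_obj _⟩) (y' := x') (x := x) (y := x)
      ((ofObj x.2).map (sl π (Category.comp_id π)) ≫ (ofObjIso x.2).hom) a inferInstance ha rfl
  obtain ⟨e⟩ : Nonempty (Iso1 X π Y π) := Iso1.nonempty_of_cls_eq
    ((key x₁ x₁' a₁ ha₁).trans ((show IsoNat.cls x₁' = IsoNat.cls x₂' from Quotient.sound hiso).trans
      (key x₂ x₂' a₂ ha₂).symm))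
  let P : Over T → Prop := fun z => ∃ u : z.left ⟶ T', u ≫ π = z.hom
  have hd : Down P := fun a b φ ⟨u, hu⟩ => ⟨φ.left ≫ u, by rw [Category.assoc, hu, Over.w φ]⟩
  choose u hu using fun (z : Over T) (h : P z) => h
  let p : ∀ (z : Over T) (h : P z), Iso1 X z.hom Y z.hom := fun z h => Iso1.pb gX e (u z h) (hu z h) (hu z h)
  let E : LIso P X Y :=
    { app := fun z h => (p z h).iso
      lift := fun z h => (p z h).lift
      nat := fun {z z'} φ h h' => by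
        have key : Iso1.pb gX (p z' h') φ.left (g' := z.hom) (t' := z.hom) (Over.w φ) (Over.w φ) = p z h :=
          iso1_eq_of_clean hc _ _
        have h2 := Iso1.pb_spec gX (p z' h') φ.left (g' := z.hom) (t' := z.hom) (Over.w φ) (Over.w φ)
        rw [key] at h2
        exact h2.symm }
  obtain ⟨γ⟩ := exists_iso_of_liso h𝒳.isStack (ha := hd) (hb := hd)
    (AlgSpace.mem_J_of_singleton π _ (Or.inl ⟨𝟙 _, Category.id_comp π⟩)) E E fun z h₁ h₂ => rfl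
  haveI := ofObjIso_lift x₁.2
  haveI := ofObjIso_lift x₂.2
  haveI := isHomLift_appIso_hom γ (Over.mk (𝟙 T)) (U := T) rfl
  exact Quotient.exact (cls_eq_of_lifts x₁ x₂
    ((ofObjIso x₁.2).symm ≪≫ appIso γ (Over.mk (𝟙 T)) ≪≫ ofObjIso x₂.2)
    (show 𝒳.p.IsHomLift (𝟙 T) ((ofObjIso x₁.2).inv ≫ (appIso γ (Over.mk (𝟙 T))).hom ≫ (ofObjIso x₂.2).hom) from
      inferInstance))

/-- isomorphisms equal on a covering are equal -/
theorem iso1_eq_of_cover (h𝒳 : Stk.IsStack (QuotSh.J Scheme.fppfPrecoverage S) 𝒳) {T : Over S}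
    {X : FibCat.overCat U ⥤ᵇ 𝒳} {Y : FibCat.overCat V ⥤ᵇ 𝒳} {g : T ⟶ U} {t : T ⟶ V} (a b : Iso1 X g Y t)
    {R : Sieve T} (hR : R ∈ QuotSh.J Scheme.fppfPrecoverage S T)
    (h : ∀ {W : Over S} (f : W ⟶ T), R f → Iso1.pb h𝒳.1 a f rfl rfl = Iso1.pb h𝒳.1 b f rfl rfl) : a = b := by
  haveI := a.lift
  haveI := b.lift
  refine Iso1.ext (Iso.ext (hom_ext_of_cover (isPrestack_of_isStack _ h𝒳) hR a.iso.hom b.iso.hom ?_))
  intro w π W f hf hπ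
  haveI := hπ
  haveI := map_sl_lift X f (rfl : f ≫ g = f ≫ g)
  obtain ⟨i, -, hi⟩ := exists_iso_of_lifts h𝒳.1 f π (X.map (sl f (rfl : f ≫ g = f ≫ g)))
  rw [← hi, Category.assoc, Category.assoc, ← Iso1.pb_spec h𝒳.1 a f rfl rfl, ← Iso1.pb_spec h𝒳.1 b f rfl rfl, h f hf]

/-- isomorphisms over an empty scheme are equal -/
theorem iso1_eq_of_isEmpty (h𝒳 : Stk.IsStack (QuotSh.J Scheme.fppfPrecoverage S) 𝒳) {T : Over S}
    {X : FibCat.overCat U ⥤ᵇ 𝒳} {Y : FibCat.overCat V ⥤ᵇ 𝒳} {g : T ⟶ U} {t : T ⟶ V} [IsEmpty T.left]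
    (a b : Iso1 X g Y t) : a = b := by
  refine iso1_eq_of_cover h𝒳 a b (AlgSpace.mem_J_of_openImmersions (κ := PEmpty.{u + 1})
    (T' := fun k => k.elim) (fun k => k.elim) (fun k => k.elim) fun x => isEmptyElim x) ?_
  rintro W f ⟨_, _, _, ⟨k⟩, -⟩
  exact k.elim

/-- a global isomorphism of a twisted object gives an automorphism restricting to the twist -/
theorem exists_auto_of_global {P Q W₀ : Over S} (q : P ⟶ Q) [IsOpenImmersion q.left] (gY : FibCat.IsFibGrpd 𝒴.p)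
    {y : FibCat.overCat W₀ ⥤ᵇ 𝒴} {η : FibCat.overCat (dbl q) ⥤ᵇ 𝒴} {t : dbl q ⟶ W₀} {g₀ : Q ⟶ W₀}
    (hj₁ : j₁ q ≫ t = g₀) (hj₂ : j₂ q ≫ t = g₀) {e₁ : Iso1 η (j₁ q) y (j₁ q ≫ t)} {e₂ : Iso1 η (j₂ q) y (j₂ q ≫ t)}
    {α : Iso1 y (q ≫ j₁ q ≫ t) y (q ≫ j₁ q ≫ t)}
    (hq₂ : q ≫ j₂ q ≫ t = q ≫ j₁ q ≫ t)
    (hη : (Iso1.pb gY e₁ q rfl rfl).trans α = Iso1.pb gY e₂ q (q_j q).symm hq₂)
    (γ : Iso1 η (𝟙 (dbl q)) y t) :
    ∃ h : Iso1 y g₀ y g₀, Iso1.pb gY h q (g' := q ≫ j₁ q ≫ t) (t' := q ≫ j₁ q ≫ t) (by rw [hj₁]) (by rw [hj₁]) = α := by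
  let h₁ := (e₁.symm.trans (Iso1.pb gY γ (j₁ q) (g' := j₁ q) (t' := j₁ q ≫ t) (Category.comp_id _) rfl))
  let h₂ := (e₂.symm.trans (Iso1.pb gY γ (j₂ q) (g' := j₂ q) (t' := j₂ q ≫ t) (Category.comp_id _) rfl))
  let c₁ := Iso1.ofEq y hj₁.symm
  let c₂ := Iso1.ofEq y hj₂.symm
  let h : Iso1 y g₀ y g₀ :=
    ((c₁.trans h₁).trans c₁.symm).trans ((c₂.trans h₂).trans c₂.symm).symm
  have hqh : Iso1.pb gY h q (g' := q ≫ j₁ q ≫ t) (t' := q ≫ j₁ q ≫ t) (by rw [hj₁]) (by rw [hj₁]) = α := by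
    let E₁ := Iso1.pb gY e₁ q (g' := q ≫ j₁ q) (t' := q ≫ j₁ q ≫ t) rfl rfl
    let E₂ := Iso1.pb gY e₂ q (g' := q ≫ j₁ q) (t' := q ≫ j₁ q ≫ t) (q_j q).symm hq₂
    let G := Iso1.pb gY γ (q ≫ j₁ q) (g' := q ≫ j₁ q) (t' := q ≫ j₁ q ≫ t) (Category.comp_id _) (Category.assoc _ _ _)
    have k₁ : Iso1.pb gY h₁ q (g' := q ≫ j₁ q ≫ t) (t' := q ≫ j₁ q ≫ t) rfl rfl = E₁.symm.trans G := by
      simp only [h₁]
      rw [Iso1.pb_trans gY e₁.symm _ q (g' := q ≫ j₁ q ≫ t) (t' := q ≫ j₁ q) (hs := rfl) (ht := rfl) (hg := rfl),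
        Iso1.pb_symm gY e₁ q rfl rfl, Iso1.pb_pb]
    have k₂ : Iso1.pb gY h₂ q (g' := q ≫ j₁ q ≫ t) (t' := q ≫ j₁ q ≫ t) hq₂ hq₂ = E₂.symm.trans G := by
      simp only [h₂]
      rw [Iso1.pb_trans gY e₂.symm _ q (g' := q ≫ j₁ q ≫ t) (t' := q ≫ j₁ q) (hs := hq₂) (ht := (q_j q).symm)
          (hg := hq₂), Iso1.pb_symm gY e₂ q (q_j q).symm hq₂, Iso1.pb_pb]
      exact congrArg _ (Iso1.pb_congr gY γ (q_j q).symm _ _)
    have hd₁ : Iso1.pb gY ((c₁.trans h₁).trans c₁.symm) q (g' := q ≫ j₁ q ≫ t) (t' := q ≫ j₁ q ≫ t)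
        (by rw [hj₁]) (by rw [hj₁]) = E₁.symm.trans G := by
      rw [Iso1.pb_trans gY (c₁.trans h₁) c₁.symm q (ht := rfl), Iso1.pb_trans gY c₁ h₁ q (ht := rfl),
        Iso1.pb_symm gY c₁ q (by rw [hj₁]) rfl, Iso1.pb_ofEq, k₁]
      simp [Iso1.ofEq_rfl]
    have hd₂ : Iso1.pb gY ((c₂.trans h₂).trans c₂.symm) q (g' := q ≫ j₁ q ≫ t) (t' := q ≫ j₁ q ≫ t)
        (by rw [hj₁]) (by rw [hj₁]) = E₂.symm.trans G := by
      rw [Iso1.pb_trans gY (c₂.trans h₂) c₂.symm q (ht := hq₂), Iso1.pb_trans gY c₂ h₂ q (ht := hq₂),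
        Iso1.pb_symm gY c₂ q (by rw [hj₁]) hq₂, Iso1.pb_ofEq, k₂]
      simp [Iso1.ofEq_rfl]
    simp only [h]
    rw [Iso1.pb_trans gY _ (Iso1.symm _) q (ht := show q ≫ g₀ = q ≫ j₁ q ≫ t by rw [hj₁]), Iso1.pb_symm gY ((c₂.trans h₂).trans c₂.symm) q (by rw [hj₁])
      (by rw [hj₁]), hd₁, hd₂]
    show (E₁.symm.trans G).trans (E₂.symm.trans G).symm = α
    have hE : E₁.trans α = E₂ := hη
    rw [← hE]
    refine Iso1.trans_right_cancel ((E₁.trans α).symm.trans G) ?_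
    rw [Iso1.trans_assoc, Iso1.symm_trans, Iso1.trans_refl]
    refine Iso1.trans_left_cancel E₁ ?_
    rw [← Iso1.trans_assoc, Iso1.trans_symm, Iso1.refl_trans, ← Iso1.trans_assoc, ← Iso1.trans_assoc,
      Iso1.trans_symm, Iso1.refl_trans]
  exact ⟨h, hqh⟩

/-- the twist on the disjoint pieces -/
theorem exists_pieces_auto (h𝒳 : IsAlgStack Scheme.fppfPrecoverage 𝒳) {T Q : Over S} (pQ : Q ⟶ T)
    (Oa Ob : Q.left.Opens) (hO : Oa ⊓ Ob = ⊥) {c : FibCat.overCat U ⥤ᵇ 𝒳} {g : T ⟶ U} (γ : Iso1 c g c g)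
    {g' : openPart (Oa ⊔ Ob) ⟶ U} (hqt : g' = openIncl (Oa ⊔ Ob) ≫ pQ ≫ g) :
    ∃ a : Iso1 c g' c g', (∀ {G : Over S} (m : G ⟶ openPart (Oa ⊔ Ob))
        (_ : Set.range (m ≫ openIncl (Oa ⊔ Ob)).left ⊆ Oa) (l : G ⟶ U) (hl : m ≫ g' = l),
        Iso1.pb h𝒳.isStack.1 a m hl hl =
          Iso1.pb h𝒳.isStack.1 γ (m ≫ openIncl (Oa ⊔ Ob) ≫ pQ) (by rw [← hl, hqt]; simp only [Category.assoc])
            (by rw [← hl, hqt]; simp only [Category.assoc])) ∧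
      ∀ {G : Over S} (m : G ⟶ openPart (Oa ⊔ Ob)) (_ : Set.range (m ≫ openIncl (Oa ⊔ Ob)).left ⊆ Ob)
        (l : G ⟶ U) (hl : m ≫ g' = l), Iso1.pb h𝒳.isStack.1 a m hl hl = Iso1.refl c l := by
  subst hqt
  have gX := h𝒳.isStack.1
  let q : openPart (Oa ⊔ Ob) ⟶ Q := openIncl (Oa ⊔ Ob)
  -- the two pieces of the overlap
  let Pa : Over (openPart (Oa ⊔ Ob)) → Prop := fun z => Set.range (z.hom ≫ q).left ⊆ Oa
  let Pb : Over (openPart (Oa ⊔ Ob)) → Prop := fun z => Set.range (z.hom ≫ q).left ⊆ Ob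
  have hsub : ∀ {z z' : Over (openPart (Oa ⊔ Ob))} (φ : z ⟶ z'),
      Set.range (z.hom ≫ q).left ⊆ Set.range (z'.hom ≫ q).left := fun {z z'} φ => by
    rintro _ ⟨s, rfl⟩
    exact ⟨φ.left.left s, congrArg (fun w => (w ≫ q).left s) (Over.w φ)⟩
  have hPa : Down Pa := fun z z' φ h => (hsub φ).trans h
  have hPb : Down Pb := fun z z' φ h => (hsub φ).trans h
  have hJ : twoSieve Pa Pb hPa hPb ∈ QuotSh.J Scheme.fppfPrecoverage S (openPart (Oa ⊔ Ob)) := by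
    let O : ULift.{u} Bool → Q.left.Opens := fun b => if b.down then Oa else Ob
    have hle : ∀ b, O b ≤ Oa ⊔ Ob := fun ⟨b⟩ => by cases b <;> simp [O]
    let π : ∀ b, openPart (O b) ⟶ openPart (Oa ⊔ Ob) := fun b =>
      Over.homMk (Q.left.homOfLE (hle b)) (by
        show _ ≫ (Oa ⊔ Ob).ι ≫ Q.hom = (O b).ι ≫ Q.hom
        rw [Scheme.homOfLE_ι_assoc])
    have hπr : ∀ b, Set.range (π b ≫ q).left ⊆ O b := fun b => by
      rintro _ ⟨s, rfl⟩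
      show (Q.left.homOfLE (hle b) ≫ (Oa ⊔ Ob).ι) s ∈ O b
      rw [Scheme.homOfLE_ι]
      exact s.2
    refine GrothendieckTopology.superset_covering _ ?_ (AlgSpace.mem_J_of_openImmersions (κ := ULift.{u} Bool)
      (T' := fun b => openPart (O b)) π (fun b => inferInstanceAs (IsOpenImmersion (Q.left.homOfLE (hle b)))) fun s => ?_)
    · rintro W _ ⟨_, f, _, ⟨b⟩, rfl⟩
      have hr : Set.range ((f ≫ π b) ≫ q).left ⊆ O b := by
        rintro _ ⟨s, rfl⟩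
        exact hπr b ⟨f.left s, rfl⟩
      rcases b with ⟨_ | _⟩
      · exact Or.inr hr
      · exact Or.inl hr
    · obtain ⟨s, hs⟩ := s
      rcases hs with hs | hs
      · exact ⟨⟨true⟩, ⟨s, hs⟩, Subtype.ext (congrArg (fun k : (O ⟨true⟩).toScheme ⟶ Q.left => k ⟨s, hs⟩)
          (Scheme.homOfLE_ι Q.left (hle ⟨true⟩)))⟩
      · exact ⟨⟨false⟩, ⟨s, hs⟩, Subtype.ext (congrArg (fun k : (O ⟨false⟩).toScheme ⟶ Q.left => k ⟨s, hs⟩)
          (Scheme.homOfLE_ι Q.left (hle ⟨false⟩)))⟩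
  let A := BasedFunctor.comp (AlgSt.overMap (q ≫ pQ ≫ g)) c
  let pa : ∀ z : Over (openPart (Oa ⊔ Ob)), Iso1 c (z.hom ≫ q ≫ pQ ≫ g) c (z.hom ≫ q ≫ pQ ≫ g) := fun z =>
    Iso1.pb gX γ (z.hom ≫ q ≫ pQ) (by simp only [Category.assoc]) (by simp only [Category.assoc])
  let Ea : LIso Pa A A :=
    { app := fun z _ => (pa z).iso
      lift := fun z _ => (pa z).lift
      nat := fun {z z'} φ h h' => by
        have key : Iso1.pb gX (pa z') φ.left (g' := z.hom ≫ q ≫ pQ ≫ g) (t' := z.hom ≫ q ≫ pQ ≫ g)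
            (by rw [← Category.assoc, Over.w φ]) (by rw [← Category.assoc, Over.w φ]) = pa z := by
          rw [Iso1.pb_pb]
          exact Iso1.pb_congr gX γ (by rw [← Category.assoc, Over.w φ]) _ _
        have h2 := Iso1.pb_spec gX (pa z') φ.left (g' := z.hom ≫ q ≫ pQ ≫ g) (t' := z.hom ≫ q ≫ pQ ≫ g)
            (by rw [← Category.assoc, Over.w φ]) (by rw [← Category.assoc, Over.w φ])
        rw [key] at h2
        exact h2.symm }
  let Eb : LIso Pb A A := LIso.ofIso Pb (Iso.refl A)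
  have hab : ∀ z (h₁ : Pa z) (h₂ : Pb z), Ea.app z h₁ = Eb.app z h₂ := fun z h₁ h₂ => by
    haveI : IsEmpty z.left.left := ⟨fun s => by
      have : (z.hom ≫ q).left s ∈ Oa ⊓ Ob := ⟨h₁ ⟨s, rfl⟩, h₂ ⟨s, rfl⟩⟩
      rw [hO] at this
      exact this⟩
    exact congrArg Iso1.iso (iso1_eq_of_isEmpty h𝒳.isStack (pa z) ⟨Eb.app z h₂, Eb.lift z h₂⟩)
  obtain ⟨β, hβ⟩ : ∃ β : A ≅ A, (∀ z (h : Pa z), appIso β z = Ea.app z h) ∧ ∀ z (h : Pb z), appIso β z = Eb.app z h :=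
    exists_iso_of_liso' h𝒳.isStack hJ Ea Eb hab
  let a : Iso1 c (q ≫ pQ ≫ g) c (q ≫ pQ ≫ g) :=
    ((Iso1.ofEq c (Category.id_comp _).symm).trans
      (⟨appIso β (Over.mk (𝟙 _)), isHomLift_appIso_hom β _ rfl⟩ :
        Iso1 c (𝟙 _ ≫ q ≫ pQ ≫ g) c (𝟙 _ ≫ q ≫ pQ ≫ g))).trans (Iso1.ofEq c (Category.id_comp _))
  have hres : ∀ {G : Over S} (m : G ⟶ openPart (Oa ⊔ Ob)),
      Iso1.pb gX a m (g' := m ≫ q ≫ pQ ≫ g) (t' := m ≫ q ≫ pQ ≫ g) rfl rfl =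
        ⟨appIso β (Over.mk m), isHomLift_appIso_hom β _ rfl⟩ := fun {G} m => by
    simp only [a]
    rw [Iso1.pb_trans gX _ (Iso1.ofEq c _) m (ht := show m ≫ 𝟙 _ ≫ q ≫ pQ ≫ g = m ≫ q ≫ pQ ≫ g by rw [Category.id_comp]),
      Iso1.pb_trans gX (Iso1.ofEq c _) _ m (ht := show m ≫ 𝟙 _ ≫ q ≫ pQ ≫ g = m ≫ q ≫ pQ ≫ g by rw [Category.id_comp]),
      Iso1.pb_ofEq, Iso1.ofEq_rfl, Iso1.refl_trans, Iso1.trans_refl]
    refine Iso1.pb_unique gX _ ?_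
    exact (β.hom.toNatTrans.naturality (sl m (Category.comp_id m))).symm
  refine ⟨a, fun {G} m hm l hl => ?_, fun {G} m hm l hl => ?_⟩
  · subst hl
    exact (hres m).trans (Iso1.ext (hβ.1 (Over.mk m) hm))
  · subst hl
    exact (hres m).trans (Iso1.ext (hβ.2 (Over.mk m) hm))

/-- doubles map to each other by local isomorphisms -/
theorem smooth_surjective_of_copies {P P' Q : Over S} (q : P ⟶ Q) (q' : P' ⟶ Q) [IsOpenImmersion q.left]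
    [IsOpenImmersion q'.left] (π : dbl q' ⟶ dbl q) (hπ₁ : j₁ q' ≫ π = j₁ q) (hπ₂ : j₂ q' ≫ π = j₂ q) :
    Smooth π.left ∧ Surjective π.left := by
  haveI hπo : Smooth π.left := by
    refine IsZariskiLocalAtSource.of_iSup_eq_top (fun b : Bool => if b then (j₁ q').left.opensRange
      else (j₂ q').left.opensRange) (eq_top_iff.2 fun s _ => ?_) fun b => ?_
    · rcases dbl_cases (q') s with ⟨r, hr⟩ | ⟨r, hr⟩
      · exact TopologicalSpace.Opens.mem_iSup.2 ⟨true, r, hr⟩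
      · exact TopologicalSpace.Opens.mem_iSup.2 ⟨false, r, hr⟩
    · cases b
      · show Smooth ((j₂ q').left.opensRange.ι ≫ π.left)
        rw [← MorphismProperty.cancel_left_of_respectsIso @Smooth (j₂ q').left.isoOpensRange.hom]
        rw [Scheme.Hom.isoOpensRange_hom_ι_assoc, show (j₂ q').left ≫ π.left = (j₂ q).left from
          congrArg (fun w => w.left) hπ₂]
        infer_instance
      · show Smooth ((j₁ q').left.opensRange.ι ≫ π.left)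
        rw [← MorphismProperty.cancel_left_of_respectsIso @Smooth (j₁ q').left.isoOpensRange.hom]
        rw [Scheme.Hom.isoOpensRange_hom_ι_assoc, show (j₁ q').left ≫ π.left = (j₁ q).left from
          congrArg (fun w => w.left) hπ₁]
        infer_instance
  haveI : Surjective π.left := ⟨fun s => by
    rcases dbl_cases q s with ⟨r, hr⟩ | ⟨r, hr⟩
    · exact ⟨(j₁ q').left r, (congrArg (fun w => w.left r) hπ₁).trans hr⟩
    · exact ⟨(j₂ q').left r, (congrArg (fun w => w.left r) hπ₂).trans hr⟩⟩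
  exact ⟨hπo, inferInstance⟩

/-- automorphisms on a line are determined on the punctured line -/
theorem pb_line (gX : FibCat.IsFibGrpd 𝒳.p)
    (hd : AlgSt.RepByAlgSpWith AlgSp.IsSeparatedMor (FibCat.diag (FibCat.toSelf 𝒳)))
    {P Q L G' : Over S} [IsAffine L.left] {c : FibCat.overCat U ⥤ᵇ 𝒳} {g₀ : Q ⟶ U} {g' : P ⟶ U} (q : P ⟶ Q)
    (hq : q ≫ g₀ = g') (h : Iso1 c g₀ c g₀) (a : Iso1 c g' c g') (hh : Iso1.pb gX h q hq hq = a)
    (l : L ⟶ Q) (r : G' ⟶ L) (hr : Function.Injective r.left.appTop) (m : G' ⟶ P) (hm : m ≫ q = r ≫ l)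
    (b : Iso1 c (l ≫ g₀) c (l ≫ g₀))
    (hb : Iso1.pb gX b r rfl rfl = Iso1.pb gX a m (by rw [← hq, reassoc_of% hm]) (by rw [← hq, reassoc_of% hm])) :
    Iso1.pb gX h l rfl rfl = b := by
  subst hh
  refine eq_of_dense gX hd r hr _ _ ?_
  rw [hb, Iso1.pb_pb, Iso1.pb_pb]
  exact Iso1.pb_congr gX h hm.symm _ _

/-- a twist trivial on a piece becomes constant on the double along that piece -/
theorem exists_iso1_on_piece (h𝒳 : IsAlgStack Scheme.fppfPrecoverage 𝒳) {P P' Q : Over S} (q : P ⟶ Q) (q' : P' ⟶ Q)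
    [IsOpenImmersion q.left] [IsOpenImmersion q'.left] (ib : P' ⟶ P) (hib : ib ≫ q = q')
    (π : dbl q' ⟶ dbl q) (hπ₁ : j₁ q' ≫ π = j₁ q) (hπ₂ : j₂ q' ≫ π = j₂ q)
    {c : FibCat.overCat U ⥤ᵇ 𝒳} {η : FibCat.overCat (dbl q) ⥤ᵇ 𝒳} {t : dbl q ⟶ U}
    {e₁ : Iso1 η (j₁ q) c (j₁ q ≫ t)} {e₂ : Iso1 η (j₂ q) c (j₂ q ≫ t)}
    {α : Iso1 c (q ≫ j₁ q ≫ t) c (q ≫ j₁ q ≫ t)} (hq₂ : q ≫ j₂ q ≫ t = q ≫ j₁ q ≫ t)
    (hη : (Iso1.pb h𝒳.isStack.1 e₁ q rfl rfl).trans α = Iso1.pb h𝒳.isStack.1 e₂ q (q_j q).symm hq₂)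
    (hb : ∀ (l : P' ⟶ U) (hl : ib ≫ q ≫ j₁ q ≫ t = l), Iso1.pb h𝒳.isStack.1 α ib hl hl = Iso1.refl c l) :
    Nonempty (Iso1 η π c (π ≫ t)) := by
  have gX := h𝒳.isStack.1
  have hl₂ : (ib ≫ q) ≫ j₂ q = q' ≫ j₁ q' ≫ π := by
    rw [hπ₁, Category.assoc, ← q_j, ← Category.assoc, hib]
  exact exists_iso1_dbl q' h𝒳.isStack π (π ≫ t)
    (((Iso1.ofEq η hπ₁).trans e₁).trans (Iso1.ofEq c (by rw [reassoc_of% hπ₁])))
    (((Iso1.ofEq η hπ₂).trans e₂).trans (Iso1.ofEq c (by rw [reassoc_of% hπ₂]))) (by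
      have h2 := congrArg (fun w => Iso1.pb gX w ib (g' := q' ≫ j₁ q' ≫ π)
        (t' := q' ≫ j₁ q' ≫ π ≫ t) (by rw [hπ₁, reassoc_of% hib])
        (by rw [reassoc_of% hπ₁, reassoc_of% hib])) hη
      have hb' : Iso1.pb gX α ib (g' := q' ≫ j₁ q' ≫ π ≫ t) (t' := q' ≫ j₁ q' ≫ π ≫ t)
          (by rw [reassoc_of% hπ₁, reassoc_of% hib]) (by rw [reassoc_of% hπ₁, reassoc_of% hib]) = Iso1.refl c _ :=
        hb _ _
      rw [Iso1.pb_trans gX _ α ib (ht := show ib ≫ q ≫ j₁ q ≫ t = q' ≫ j₁ q' ≫ π ≫ t by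
        rw [reassoc_of% hπ₁, reassoc_of% hib]), hb', Iso1.trans_refl] at h2
      simp only [Iso1.pb_pb] at h2
      rw [Iso1.pb_trans gX _ (Iso1.ofEq c _) q'
          (ht := show q' ≫ j₁ q ≫ t = q' ≫ j₁ q' ≫ π ≫ t by rw [reassoc_of% hπ₁]),
        Iso1.pb_trans gX (Iso1.ofEq η _) e₁ q'
          (ht := show q' ≫ j₁ q = q' ≫ j₁ q' ≫ π by rw [hπ₁]),
        Iso1.pb_trans gX _ (Iso1.ofEq c _) q'
          (ht := show q' ≫ j₂ q ≫ t = q' ≫ j₁ q' ≫ π ≫ t by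
            rw [reassoc_of% hπ₁, ← hib, Category.assoc, Category.assoc, reassoc_of% (q_j q)]),
        Iso1.pb_trans gX (Iso1.ofEq η _) e₂ q'
          (ht := show q' ≫ j₂ q = q' ≫ j₁ q' ≫ π by rw [← hl₂, hib])]
      simp only [Iso1.pb_ofEq, Iso1.ofEq_rfl, Iso1.refl_trans, Iso1.trans_refl]
      exact (Iso1.pb_congr gX e₁ hib.symm _ _).trans (h2.trans (Iso1.pb_congr gX e₂ hib _ _)))

/-- the test for triviality of automorphisms -/
theorem clean_core (h𝒳 : IsAlgStack Scheme.fppfPrecoverage 𝒳)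
    (hd : AlgSt.RepByAlgSpWith AlgSp.IsSeparatedMor (FibCat.diag (FibCat.toSelf 𝒳))) (hs : ClsSep 𝒳)
    {T Q La Lb Ga Gb : Over S} [IsAffine La.left] [IsAffine Lb.left] (pQ : Q ⟶ T) (Oa Ob : Q.left.Opens)
    (hO : Oa ⊓ Ob = ⊥) (la : La ⟶ Q) (lb : Lb ⟶ Q) (qa : Ga ⟶ La) (qb : Gb ⟶ Lb)
    (hqa : Function.Injective qa.left.appTop) (hqb : Function.Injective qb.left.appTop)
    (hGa : Set.range (qa ≫ la).left ⊆ Oa) (hGb : Set.range (qb ≫ lb).left ⊆ Ob)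
    (oa : T ⟶ La) (ob : T ⟶ Lb) (ho : oa ≫ la = ob ≫ lb) (hop : oa ≫ la ≫ pQ = 𝟙 T)
    {c : FibCat.overCat U ⥤ᵇ 𝒳} {g : T ⟶ U} (γ : Iso1 c g c g) : γ = Iso1.refl c g := by
  have gX := h𝒳.isStack.1
  let q : openPart (Oa ⊔ Ob) ⟶ Q := openIncl (Oa ⊔ Ob)
  haveI : IsOpenImmersion q.left := inferInstanceAs (IsOpenImmersion (Oa ⊔ Ob).ι)
  haveI : Mono q := Over.mono_of_mono_left _
  let t : dbl q ⟶ U := dblDesc q (pQ ≫ g) (pQ ≫ g) rfl
  have hj₁ : j₁ q ≫ t = pQ ≫ g := j₁_desc q _ _ _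
  have hj₂ : j₂ q ≫ t = pQ ≫ g := j₂_desc q _ _ _
  have hqt : q ≫ j₁ q ≫ t = q ≫ pQ ≫ g := by rw [hj₁]
  obtain ⟨a, haa, hab⟩ := exists_pieces_auto h𝒳 pQ Oa Ob hO γ hqt
  obtain ⟨η, e₁, e₂, hη⟩ := exists_twist_dbl q h𝒳.isStack t a
  -- the covering
  let ib : openPart Ob ⟶ openPart (Oa ⊔ Ob) := Over.homMk (Q.left.homOfLE le_sup_right) (by
    show _ ≫ (Oa ⊔ Ob).ι ≫ Q.hom = Ob.ι ≫ Q.hom
    rw [Scheme.homOfLE_ι_assoc])
  have hib : ib ≫ q = openIncl Ob := Over.OverMorphism.ext (Scheme.homOfLE_ι Q.left le_sup_right)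
  haveI : IsOpenImmersion (openIncl Ob).left := inferInstanceAs (IsOpenImmersion Ob.ι)
  let π : dbl (openIncl Ob) ⟶ dbl q := dblDesc (openIncl Ob) (j₁ q) (j₂ q) (by
    rw [← hib, Category.assoc, Category.assoc, q_j])
  have hπ₁ : j₁ (openIncl Ob) ≫ π = j₁ q := j₁_desc _ _ _ _
  have hπ₂ : j₂ (openIncl Ob) ≫ π = j₂ q := j₂_desc _ _ _ _
  obtain ⟨hπo, hπs⟩ := smooth_surjective_of_copies q (openIncl Ob) π hπ₁ hπ₂
  haveI := hπo
  haveI := hπs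
  obtain ⟨E⟩ := exists_iso1_on_piece h𝒳 q (openIncl Ob) ib hib π hπ₁ hπ₂ (by rw [← Category.assoc, ← q_j, Category.assoc]) hη
    (fun l hl => hab ib (by
      rintro _ ⟨s, rfl⟩
      show (ib ≫ q).left s ∈ Ob
      rw [hib]
      exact s.2) l hl)
  obtain ⟨θ⟩ := hs (dbl q) (dbl (openIncl Ob)) π ⟨η.obj (Over.mk (𝟙 _)), η.w_obj _⟩ ⟨c.obj (Over.mk t), c.w_obj _⟩
    ⟨η.obj (Over.mk π), η.w_obj _⟩ ⟨c.obj (Over.mk (π ≫ t)), c.w_obj _⟩
    (η.map (sl π (Category.comp_id π))) (c.map (sl π rfl)) (map_sl_lift η _ _) (map_sl_lift c _ _)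
    (Quotient.exact (Iso1.cls_eq E))
  obtain ⟨G⟩ : Nonempty (Iso1 η (𝟙 (dbl q)) c t) := Iso1.nonempty_of_cls_eq (Quotient.sound ⟨θ⟩)
  obtain ⟨h, hh⟩ := exists_auto_of_global q gX hj₁ hj₂
    (by rw [← Category.assoc, ← q_j, Category.assoc]) hη G
  have hra : Set.range (qa ≫ la).left ⊆ Set.range q.left :=
    hGa.trans ((SetLike.coe_subset_coe.2 le_sup_left).trans (Scheme.Opens.range_ι (Oa ⊔ Ob)).ge)
  have hrb : Set.range (qb ≫ lb).left ⊆ Set.range q.left :=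
    hGb.trans ((SetLike.coe_subset_coe.2 le_sup_right).trans (Scheme.Opens.range_ι (Oa ⊔ Ob)).ge)
  let ma : Ga ⟶ openPart (Oa ⊔ Ob) := Over.homMk (IsOpenImmersion.lift q.left (qa ≫ la).left hra) (by
    show _ ≫ q.left ≫ Q.hom = Ga.hom
    rw [IsOpenImmersion.lift_fac_assoc]
    exact Over.w (qa ≫ la))
  let mb : Gb ⟶ openPart (Oa ⊔ Ob) := Over.homMk (IsOpenImmersion.lift q.left (qb ≫ lb).left hrb) (by
    show _ ≫ q.left ≫ Q.hom = Gb.hom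
    rw [IsOpenImmersion.lift_fac_assoc]
    exact Over.w (qb ≫ lb))
  have hma : ma ≫ q = qa ≫ la := Over.OverMorphism.ext (IsOpenImmersion.lift_fac _ _ _)
  have hmb : mb ≫ q = qb ≫ lb := Over.OverMorphism.ext (IsOpenImmersion.lift_fac _ _ _)
  have hA : Iso1.pb gX h la rfl rfl = Iso1.pb gX γ (la ≫ pQ) (Category.assoc _ _ _) (Category.assoc _ _ _) := by
    refine pb_line gX hd q hqt.symm h a hh la qa hqa ma hma _ ?_
    rw [Iso1.pb_pb]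
    exact (Iso1.pb_congr gX γ (show qa ≫ la ≫ pQ = ma ≫ q ≫ pQ by rw [reassoc_of% hma]) _ _).trans
      (haa ma (by show Set.range (ma ≫ q).left ⊆ _; rw [hma]; exact hGa) _ _).symm
  have hB : Iso1.pb gX h lb rfl rfl = Iso1.refl c _ := by
    refine pb_line gX hd q hqt.symm h a hh lb qb hqb mb hmb _ ?_
    rw [Iso1.pb_refl]
    exact (hab mb (by show Set.range (mb ≫ q).left ⊆ _; rw [hmb]; exact hGb) _ _).symm
  have h1 := congrArg (fun w => Iso1.pb gX w oa (g' := g) (t' := g) (by rw [reassoc_of% hop]) (by rw [reassoc_of% hop])) hA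
  have h2 := pb_refl_of gX hB ob (g' := g) (by rw [← reassoc_of% ho, reassoc_of% hop])
  simp only [Iso1.pb_pb] at h1 h2
  exact ((Iso1.pb_id gX γ).symm.trans ((Iso1.pb_congr gX γ hop.symm _ _).trans
    (h1.symm.trans (Iso1.pb_congr gX h ho _ _)))).trans h2

section Affine

/-- automorphisms over an affine scheme are trivial, test rings given -/
theorem clean_rings (h𝒳 : IsAlgStack Scheme.fppfPrecoverage 𝒳)
    (hd : AlgSt.RepByAlgSpWith AlgSp.IsSeparatedMor (FibCat.diag (FibCat.toSelf 𝒳))) (hs : ClsSep 𝒳)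
    {A N L R : Type u} [CommRing A] [CommRing N] [CommRing L] [CommRing R]
    (str : Spec (CommRingCat.of A) ⟶ S) (fN : A →+* N) (fL : A →+* L) (x y : N) (hxy : x * y = 0)
    (ea eb : N →+* L) (hea : ea.comp fN = fL) (heb : eb.comp fN = fL) (al : L →+* R) (hal : Function.Injective al)
    (hxa : IsUnit (al (ea x))) (hyb : IsUnit (al (eb y))) (ev : L →+* A) (hev : ev.comp fL = RingHom.id A)
    (h0 : ev.comp ea = ev.comp eb) {c : FibCat.overCat U ⥤ᵇ 𝒳} {g : overK str (RingHom.id A) ⟶ U}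
    (γ : Iso1 c g c g) : γ = Iso1.refl c g := by
  haveI : IsAffine (overK str fL).left := inferInstanceAs (IsAffine (Spec _))
  have hr : ∀ (e : N →+* L) (he : e.comp fN = fL) (z : N), IsUnit (al (e z)) →
      Set.range (specK str al (rfl : al.comp fL = al.comp fL) ≫ specK str e he).left ⊆
        SetLike.coe (PrimeSpectrum.basicOpen z : TopologicalSpace.Opens (PrimeSpectrum N)) := by
    rintro e he z hz _ ⟨p, rfl⟩
    show z ∉ (PrimeSpectrum.comap e (PrimeSpectrum.comap al p)).asIdeal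
    exact fun h => p.isPrime.ne_top (Ideal.eq_top_of_isUnit_mem _ h hz)
  refine clean_core h𝒳 hd hs (specK str fN (RingHom.comp_id fN)) (PrimeSpectrum.basicOpen x)
    (PrimeSpectrum.basicOpen y) ?_ (specK str ea hea) (specK str eb heb) (specK str al (rfl : al.comp fL = al.comp fL))
    (specK str al rfl) (injective_appTop_specK str _ _ hal) (injective_appTop_specK str _ _ hal) (hr ea hea x hxa)
    (hr eb heb y hyb) (specK str ev hev) (specK str ev hev) (specK_comp_eq str h0) ?_ γ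
  · exact (PrimeSpectrum.basicOpen_mul x y).symm.trans (by rw [hxy, PrimeSpectrum.basicOpen_zero])
  · rw [← Category.assoc, specK_comp, specK_comp]
    refine (specK_congr str ?_ _).trans (specK_id str rfl)
    rw [RingHom.comp_assoc, hea, hev]

open Polynomial in
/-- the node over a ring -/
noncomputable abbrev node (A : Type u) [CommRing A] : Subring (A[X] × A[X]) :=
  RingHom.eqLocus ((evalRingHom (0 : A)).comp (RingHom.fst _ _)) ((evalRingHom (0 : A)).comp (RingHom.snd _ _))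

open Polynomial in
/-- with separated classes, automorphisms over an affine scheme are trivial -/
theorem iso1_refl_of_clsSep_affine (h𝒳 : IsAlgStack Scheme.fppfPrecoverage 𝒳)
    (hd : AlgSt.RepByAlgSpWith AlgSp.IsSeparatedMor (FibCat.diag (FibCat.toSelf 𝒳))) (hs : ClsSep 𝒳)
    {T : Over S} [IsAffine T.left] {c : FibCat.overCat U ⥤ᵇ 𝒳} {g : T ⟶ U} (γ : Iso1 c g c g) :
    γ = Iso1.refl c g := by
  let A : Type u := Γ(T.left, ⊤)
  let str : Spec (CommRingCat.of A) ⟶ S := T.left.isoSpec.inv ≫ T.hom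
  let m : overK str (RingHom.id A) ⟶ T := Over.homMk (Spec.map (CommRingCat.ofHom (RingHom.id A)) ≫ T.left.isoSpec.inv)
    (Category.assoc _ _ _)
  haveI : IsIso (CommRingCat.ofHom (RingHom.id A)) := inferInstanceAs (IsIso (𝟙 (CommRingCat.of A)))
  haveI : IsIso m.left := inferInstanceAs (IsIso (Spec.map (CommRingCat.ofHom (RingHom.id A)) ≫ T.left.isoSpec.inv))
  haveI : IsIso ((Over.forget S).map m) := ‹IsIso m.left›
  haveI : IsIso m := isIso_of_reflects_iso m (Over.forget S)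
  have gX := h𝒳.isStack.1
  let N := node A
  let fN : A →+* N := (RingHom.prod C C).codRestrict N fun a => by
    show eval 0 (C a) = eval 0 (C a)
    rfl
  let x : N := ⟨(X, 0), by show eval 0 X = eval 0 0; simp⟩
  let y : N := ⟨(0, X), by show eval 0 0 = eval 0 X; simp⟩
  have hX : IsUnit (algebraMap A[X] (Localization.Away (X : A[X])) X) := IsLocalization.Away.algebraMap_isUnit X
  have h1 := clean_rings h𝒳 hd hs str fN (C : A →+* A[X]) x y (Subtype.ext (Prod.ext (mul_zero _) (zero_mul _)))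
    ((RingHom.fst _ _).comp N.subtype) ((RingHom.snd _ _).comp N.subtype) rfl rfl
    (algebraMap A[X] (Localization.Away (X : A[X])))
    (IsLocalization.injective _ (Submonoid.powers_le.2 Polynomial.monic_X.mem_nonZeroDivisors)) hX hX
    (evalRingHom 0) (RingHom.ext fun a => by simp) (RingHom.ext fun r => r.2)
    (Iso1.pb gX γ m (g' := m ≫ g) (t' := m ≫ g) rfl rfl)
  have h2 := pb_refl_of gX h1 (inv m) (g' := g) (IsIso.inv_hom_id_assoc m g)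
  rw [Iso1.pb_pb] at h2
  exact (Iso1.pb_id gX γ).symm.trans ((Iso1.pb_congr gX γ (IsIso.inv_hom_id m).symm _ _).trans h2)

/-- with separated classes, automorphisms are trivial -/
theorem iso1_refl_of_clsSep (h𝒳 : IsAlgStack Scheme.fppfPrecoverage 𝒳)
    (hd : AlgSt.RepByAlgSpWith AlgSp.IsSeparatedMor (FibCat.diag (FibCat.toSelf 𝒳))) (hs : ClsSep 𝒳)
    {T : Over S} {c : FibCat.overCat U ⥤ᵇ 𝒳} {g : T ⟶ U} (γ : Iso1 c g c g) : γ = Iso1.refl c g := by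
  have gX := h𝒳.isStack.1
  let 𝒰 := T.left.affineCover
  let π : ∀ i, Over.mk (𝒰.f i ≫ T.hom) ⟶ T := fun i => Over.homMk (𝒰.f i) rfl
  refine iso1_eq_of_cover h𝒳.isStack γ (Iso1.refl c g) (AlgSpace.mem_J_of_openImmersions π
    (fun i => inferInstanceAs (IsOpenImmersion (𝒰.f i))) fun t => ?_) ?_
  · obtain ⟨v, hv⟩ := 𝒰.covers t
    exact ⟨_, v, hv⟩
  · rintro W f ⟨_, l, _, ⟨i⟩, rfl⟩
    haveI : IsAffine (Over.mk (𝒰.f i ≫ T.hom)).left := inferInstanceAs (IsAffine (𝒰.X i))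
    have h1 := iso1_refl_of_clsSep_affine h𝒳 hd hs (Iso1.pb gX γ (π i) (g' := π i ≫ g) (t' := π i ≫ g) rfl rfl)
    have h2 := pb_refl_of gX h1 l (g' := (l ≫ π i) ≫ g) (Category.assoc _ _ _).symm
    rw [Iso1.pb_pb] at h2
    rw [h2, Iso1.pb_refl]

/-- with separated classes, all objects are clean -/
theorem clean_of_clsSep (h𝒳 : IsAlgStack Scheme.fppfPrecoverage 𝒳)
    (hd : AlgSt.RepByAlgSpWith AlgSp.IsSeparatedMor (FibCat.diag (FibCat.toSelf 𝒳))) (hs : ClsSep 𝒳)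
    (η : 𝒳.obj) : IsoNat.IsClean η := by
  intro x _ s hp
  haveI := FC16.isFibered h𝒳.isStack.1
  let T := 𝒳.p.obj x
  let c := ofObj (x := x) (U := T) rfl
  let e := ofObjIso (x := x) (U := T) (rfl : 𝒳.p.obj x = T)
  haveI : 𝒳.p.IsHomLift (𝟙 T) e.hom := ofObjIso_lift _
  haveI : 𝒳.p.IsHomLift (𝟙 T) e.inv := IsHomLift.lift_id_inv 𝒳.p T e
  haveI : 𝒳.p.IsHomLift (𝟙 T) s := by
    rw [show 𝟙 T = 𝒳.p.map s from hp.symm]
    exact IsHomLift.map 𝒳.p s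
  haveI : IsIso s := isIso_of_isHomLift h𝒳.isStack.1 (𝟙 T) s
  let γ : Iso1 c (𝟙 T) c (𝟙 T) := ⟨e ≪≫ asIso s ≪≫ e.symm,
    show 𝒳.p.IsHomLift (𝟙 T) (e.hom ≫ s ≫ e.inv) by
      have : 𝒳.p.IsHomLift (𝟙 T ≫ 𝟙 T ≫ 𝟙 T) (e.hom ≫ s ≫ e.inv) := inferInstance
      simpa using this⟩
  have h := congrArg (fun r : Iso1 c (𝟙 T) c (𝟙 T) => r.iso.hom) (iso1_refl_of_clsSep h𝒳 hd hs γ)
  change e.hom ≫ s ≫ e.inv = 𝟙 _ at h
  rw [← cancel_epi e.hom, ← cancel_mono e.inv, Category.assoc, h, Category.comp_id, e.hom_inv_id]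

theorem isFibSetoid_of_clean (h𝒳 : FibCat.IsFibGrpd 𝒳.p) (hc : ∀ η : 𝒳.obj, IsoNat.IsClean η) :
    FibCat.IsFibSetoid 𝒳.p := by
  refine ⟨h𝒳, fun T a b => ⟨fun f f' => ?_⟩⟩
  haveI := f.2
  haveI := f'.2
  haveI : IsIso f'.1 := isIso_of_isHomLift h𝒳 (𝟙 T) f'.1
  haveI : 𝒳.p.IsHomLift (𝟙 T) (inv f'.1) := IsHomLift.lift_id_inv_isIso 𝒳.p T f'.1
  have hl : 𝒳.p.IsHomLift (𝟙 T) (f.1 ≫ inv f'.1) := inferInstance
  have hp : 𝒳.p.map (f.1 ≫ inv f'.1) = 𝟙 (𝒳.p.obj a.1) := by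
    rw [IsHomLift.fac' 𝒳.p (𝟙 T) (f.1 ≫ inv f'.1)]
    simp
  have := hc _ _ (𝟙 _) (f.1 ≫ inv f'.1) hp
  rw [IsIso.comp_inv_eq, Category.id_comp] at this
  exact Subtype.ext this

theorem clean_of_isFibSetoid (h : FibCat.IsFibSetoid 𝒳.p) (η : 𝒳.obj) : IsoNat.IsClean η := by
  intro x _ s hp
  haveI := h.2 (𝒳.p.obj x)
  let a : 𝒳.p.Fiber (𝒳.p.obj x) := ⟨x, rfl⟩
  have hs : 𝒳.p.IsHomLift (𝟙 (𝒳.p.obj x)) s := by
    rw [← hp]
    exact IsHomLift.map 𝒳.p s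
  have e : (⟨s, hs⟩ : a ⟶ a) = 𝟙 a := Subsingleton.elim _ _
  exact congrArg Subtype.val e

/-- being an algebraic space is detected by the classes -/
theorem rep_transfer (h𝒳 : IsAlgStack Scheme.fppfPrecoverage 𝒳) (h𝒴 : IsAlgStack Scheme.fppfPrecoverage 𝒴)
    (hd : AlgSt.RepByAlgSpWith AlgSp.IsSeparatedMor (FibCat.diag (FibCat.toSelf 𝒴))) (φ : IsoNat.FIso 𝒳 𝒴)
    (h : AlgSt.RepByAlgSp 𝒳) : AlgSt.RepByAlgSp 𝒴 :=
  rep_of_isFibSetoid h𝒴 (isFibSetoid_of_clean h𝒴.isStack.1 (clean_of_clsSep h𝒴 hd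
    (clsSep_transfer h𝒳.isStack.1 h𝒴.isStack.1 φ
      (clsSep_of_clean h𝒳 fun η => clean_of_isFibSetoid (StAlg.isFibSetoid_of_rep h) η))))

end Affine

end Groth.Agent.IsoNat5
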