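import Groth.Agent.Lib.IsoNat5.CleanOpen
import Groth.Agent.Lib.IsoNat5.Clean
import Groth.Agent.Lib.IsoNat5.Unramified
import Groth.Agent.Lib.StAlg16.OpenSub
import Groth.Agent.Lib.StAlg16.Inertia
import Groth.Agent.Lib.FC16.Inertia
import Groth.Agent.Lib.AlgSpace.QC

/-!
The clean locus of a stack with proper inertia.
-/

universe u

open CategoryTheory CategoryTheory.Functor CategoryTheory.Limits AlgebraicGeometry Opposite

set_option linter.style.haveILetI false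
set_option linter.unusedSectionVars false
set_option backward.isDefEq.respectTransparency false
set_option backward.isDefEq.respectTransparency.types false

namespace Groth.Agent.IsoNat5

open Groth.Agent.FC16 Groth.Agent.StAlg Groth.Agent.StAlg16 AlgSt

variable {S : Scheme.{u}} {𝒳 : AlgSt.Cat S} {V : Over S}

theorem isClean_of_hom {x η : 𝒳.obj} (f : x ⟶ η) (h : IsoNat.IsClean η) : IsoNat.IsClean x :=
  fun y g s hs => h y (g ≫ f) s hs

/-- cleanness of a chart value in terms of automorphisms of pullbacks -/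
theorem isClean_obj_iff (g𝒳 : FibCat.IsFibGrpd 𝒳.p) (z : FibCat.overCat V ⥤ᵇ 𝒳) {T : Over S} (t : T ⟶ V) :
    IsoNat.IsClean (z.obj (Over.mk t)) ↔
      ∀ (T' : Over S) (f : T' ⟶ T) (γ : Iso1 z (f ≫ t) z (f ≫ t)), γ = Iso1.refl z (f ≫ t) := by
  constructor
  · intro h T' f γ
    haveI := γ.lift
    have hw : 𝒳.p.obj (z.obj (Over.mk (f ≫ t))) = T' := z.w_obj (Over.mk (f ≫ t))
    have hp : 𝒳.p.map γ.iso.hom = 𝟙 (𝒳.p.obj (z.obj (Over.mk (f ≫ t)))) := by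
      rw [IsHomLift.fac' 𝒳.p (𝟙 T') γ.iso.hom]
      simp
    exact Iso1.ext (Iso.ext (h _ (z.map (sl f rfl)) γ.iso.hom hp))
  · intro h x φ s hs
    let T' := 𝒳.p.obj x
    let f : T' ⟶ T := 𝒳.p.map φ ≫ eqToHom (z.w_obj (Over.mk t))
    haveI hφ : 𝒳.p.IsHomLift f φ := IsHomLift.of_fac' 𝒳.p f φ rfl (z.w_obj (Over.mk t)) (by simp [f, T'])
    haveI := map_sl_lift z f (rfl : f ≫ t = f ≫ t)
    obtain ⟨e, he, -⟩ := exists_iso_of_lifts g𝒳 f φ (z.map (sl f (rfl : f ≫ t = f ≫ t)))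
    haveI := he
    haveI : 𝒳.p.IsHomLift (𝟙 T') e.inv := IsHomLift.lift_id_inv 𝒳.p T' e
    haveI : 𝒳.p.IsHomLift (𝟙 T') s := by
      rw [show 𝟙 T' = 𝒳.p.map s from hs.symm]
      exact IsHomLift.map 𝒳.p s
    haveI : IsIso s := isIso_of_isHomLift g𝒳 (𝟙 T') s
    let γ : Iso1 z (f ≫ t) z (f ≫ t) := ⟨e.symm ≪≫ asIso s ≪≫ e,
      show 𝒳.p.IsHomLift (𝟙 T') (e.inv ≫ s ≫ e.hom) by
        have : 𝒳.p.IsHomLift (𝟙 T' ≫ 𝟙 T' ≫ 𝟙 T') (e.inv ≫ s ≫ e.hom) := inferInstance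
        simpa using this⟩
    have h' := congrArg (fun r : Iso1 z (f ≫ t) z (f ≫ t) => r.iso.hom) (h T' f γ)
    change e.inv ≫ s ≫ e.hom = 𝟙 _ at h'
    have h2 := congrArg (fun w => e.hom ≫ w ≫ e.inv) h'
    simpa using h2

/-- every section comes from an object -/
theorem exists_secObj {𝒵 : AlgSt.Cat S} {w : 𝒵 ⥤ᵇ 𝒳} {F : AlgSp.Sp S} {z : FibCat.overCat V ⥤ᵇ 𝒳}
    {e : AlgSt.ofSp F ⥤ᵇ FibCat.fp z w} (he : FibCat.IsEquivOver e) {T : Over S} (l : (AlgSp.yon S).obj T ⟶ F) (v : T ⟶ V)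
    (hl : l ≫ AlgSt.spMapOfOver (BasedFunctor.comp e (FibCat.fpFst z w)) = (AlgSp.yon S).map v) :
    ∃ ξ : SecObj z w v, ξ.sec he = l := by
  let a₀ : (AlgSt.ofSp F).obj := ⟨T, AlgSpace.sect l⟩
  have hv : AlgSt.secHom (BasedFunctor.comp e (FibCat.fpFst z w)) a₀ = v := by
    rw [← AlgSpace.sect.apply_eq_iff_eq] at hl
    rw [show AlgSpace.sect (l ≫ AlgSt.spMapOfOver (BasedFunctor.comp e (FibCat.fpFst z w))) =
        (AlgSt.spMapOfOver (BasedFunctor.comp e (FibCat.fpFst z w))).hom.app (op T) (AlgSpace.sect l) from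
      GrothendieckTopology.uliftYonedaEquiv_comp _ _ _, AlgSt.spMapOfOver_app,
      show AlgSpace.sect ((AlgSp.yon S).map v) = ULift.up v from
        GrothendieckTopology.uliftYonedaEquiv_uliftYoneda_map _ _] at hl
    exact ULift.up_inj.1 hl
  let o₀ : Over.mk (AlgSt.secHom (BasedFunctor.comp e (FibCat.fpFst z w)) a₀) ≅ (e.obj a₀).obj.fst :=
    Over.isoMk (eqToIso (show a₀.base = (e.obj a₀).obj.fst.left from
      ((BasedFunctor.comp e (FibCat.fpFst z w)).w_obj a₀).symm)) rfl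
  let o1 : Over.mk v ≅ (e.obj a₀).obj.fst := eqToIso (congrArg Over.mk hv.symm) ≪≫ o₀
  haveI ho1 : (FibCat.overCat V).p.IsHomLift (𝟙 T) o1.hom := by
    refine IsHomLift.of_fac' _ _ _ rfl ((BasedFunctor.comp e (FibCat.fpFst z w)).w_obj a₀) ?_
    show (eqToHom (congrArg Over.mk hv.symm) ≫ o₀.hom).left = _
    rw [Over.comp_left, Over.eqToHom_left]
    simp [o₀, a₀]
  haveI := iso_lift (e.obj a₀) (U := T) ((BasedFunctor.comp e (FibCat.fpFst z w)).w_obj a₀)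
  haveI := BasedFunctor.preserves_isHomLift z (𝟙 T) o1.hom
  let ξ : SecObj z w v :=
    { obj := ⟨(e.obj a₀).obj.snd, ((BasedFunctor.comp e (FibCat.fpSnd z w)).w_obj a₀ :)⟩
      iso := z.toFunctor.mapIso o1 ≪≫ (e.obj a₀).obj.iso
      lift := by
        show 𝒳.p.IsHomLift (𝟙 T) (z.map o1.hom ≫ (e.obj a₀).obj.iso.hom)
        infer_instance }
  refine ⟨ξ, ?_⟩
  let κ : e.obj ⟨T, AlgSpace.sect l⟩ ⟶ ξ.toFp := ObjectProperty.homMk
    { fst := o1.inv
      snd := 𝟙 _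
      w := by
        show z.map o1.inv ≫ (z.map o1.hom ≫ (e.obj a₀).obj.iso.hom) =
          (e.obj a₀).obj.iso.hom ≫ w.map (𝟙 _)
        rw [CategoryTheory.Functor.map_id, Category.comp_id, ← Category.assoc, ← Functor.map_comp, o1.inv_hom_id,
          CategoryTheory.Functor.map_id, Category.id_comp] }
  haveI : (FibCat.overCat V).p.IsHomLift (𝟙 T) o1.inv := IsHomLift.lift_id_inv _ T o1
  have hκ : (FibCat.fp z w).p.IsHomLift (𝟙 T) κ :=
    @isHomLift_of_fst _ _ _ _ _ _ _ _ _ _ _ _ _ (show (FibCat.overCat V).p.IsHomLift (𝟙 T) o1.inv by infer_instance)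
  rw [SecObj.sec_eq_of_hom he _ _ κ hκ]
  exact AlgSpace.sect.symm_apply_apply l

section Aut

variable {F : AlgSp.Sp S} {z : FibCat.overCat V ⥤ᵇ 𝒳}
  {e : AlgSt.ofSp F ⥤ᵇ FibCat.fp z (FibCat.inertiaToBase (FibCat.toSelf 𝒳))}

/-- an automorphism of a chart value as an object of the inertia -/
noncomputable def autObj {T : Over S} {v : T ⟶ V} (γ : Iso1 z v z v) :
    SecObj z (FibCat.inertiaToBase (FibCat.toSelf 𝒳)) v where
  obj := ⟨⟨z.obj (Over.mk v), γ.iso, by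
    haveI := γ.lift
    have hw : 𝒳.p.obj (z.obj (Over.mk v)) = T := z.w_obj (Over.mk v)
    show 𝒳.p.map γ.iso.hom = 𝟙 (𝒳.p.obj (z.obj (Over.mk v)))
    rw [IsHomLift.fac' 𝒳.p (𝟙 T) γ.iso.hom]
    simp⟩, z.w_obj (Over.mk v)⟩
  iso := Iso.refl _
  lift := IsHomLift.id (z.w_obj (Over.mk v))

theorem inertia_lift {a b : (FibCat.inertia (FibCat.toSelf 𝒳)).obj} {R R' : Over S} (f : R ⟶ R') (φ : a ⟶ b)
    (h : 𝒳.p.IsHomLift f φ.hom) : (FibCat.inertia (FibCat.toSelf 𝒳)).p.IsHomLift f φ :=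
  (BasedFunctor.isHomLift_iff (FibCat.inertiaToBase (FibCat.toSelf 𝒳)) f φ).1 h

/-- neutral sections are pulled back from the neutral section -/
theorem sec_refl (he : FibCat.IsEquivOver e) {T : Over S} (v : T ⟶ V) :
    (autObj (Iso1.refl z v)).sec he = (AlgSp.yon S).map v ≫ (autObj (Iso1.refl z (𝟙 V))).sec he := by
  refine (SecObj.sec_map he _ _ v (Category.comp_id v) ⟨z.map (sl v (Category.comp_id v)), ?_⟩
    (inertia_lift _ _ (map_sl_lift z _ _)) ?_).symm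
  · show 𝟙 _ ≫ z.map (sl v _) = z.map (sl v _) ≫ 𝟙 _
    rw [Category.id_comp, Category.comp_id]
  · show z.map (sl v _) ≫ 𝟙 _ = 𝟙 _ ≫ z.map (sl v _)
    rw [Category.id_comp, Category.comp_id]

/-- an automorphism with neutral section is trivial -/
theorem eq_refl_of_sec_eq (he : FibCat.IsEquivOver e) {T : Over S} {v : T ⟶ V} (γ : Iso1 z v z v)
    (h : (autObj γ).sec he = (autObj (Iso1.refl z v)).sec he) : γ = Iso1.refl z v := by
  obtain ⟨b, -, hb⟩ := SecObj.exists_iso_of_sec_eq he _ _ h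
  have hb1 : b.hom = 𝟙 (z.obj (Over.mk v)) := by
    have h1 : 𝟙 (z.obj (Over.mk v)) = 𝟙 (z.obj (Over.mk v)) ≫ b.hom := hb
    exact (h1.trans (Category.id_comp b.hom)).symm
  have hc : γ.iso.hom ≫ b.hom = b.hom ≫ 𝟙 (z.obj (Over.mk v)) := b.comm
  rw [hb1] at hc
  exact Iso1.ext (Iso.ext (((Category.comp_id _).symm.trans hc).trans (Category.id_comp _)))

/-- over a clean chart value, all sections are neutral -/
theorem sec_eq_of_clean (g𝒳 : FibCat.IsFibGrpd 𝒳.p) (he : FibCat.IsEquivOver e) {T : Over S} {v : T ⟶ V}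
    (hc : IsoNat.IsClean (z.obj (Over.mk v))) (ξ : SecObj z (FibCat.inertiaToBase (FibCat.toSelf 𝒳)) v) :
    ξ.sec he = (autObj (Iso1.refl z v)).sec he := by
  haveI := ξ.lift
  haveI : IsIso ξ.iso.hom := inferInstance
  have hc' : IsoNat.IsClean ξ.obj.1.pt := isClean_of_hom ξ.iso.inv hc
  have ha : ξ.obj.1.aut.hom = 𝟙 ξ.obj.1.pt := hc' _ (𝟙 _) _ ξ.obj.1.map_aut
  refine (Category.id_comp _).symm.trans ((congrArg (· ≫ ξ.sec he) ((AlgSp.yon S).map_id T).symm).trans ?_)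
  refine SecObj.sec_map he _ _ (𝟙 T) (Category.id_comp v) ⟨ξ.iso.hom, ?_⟩ (inertia_lift _ _ ξ.lift) ?_
  · show 𝟙 _ ≫ ξ.iso.hom = ξ.iso.hom ≫ ξ.obj.1.aut.hom
    rw [ha]
    exact (Category.id_comp _).trans (Category.comp_id _).symm
  · have h1 : sl (𝟙 T) (Category.id_comp v) = 𝟙 (Over.mk v) := Over.OverMorphism.ext rfl
    rw [h1]
    show z.map (𝟙 (Over.mk v)) ≫ ξ.iso.hom = 𝟙 _ ≫ ξ.iso.hom
    rw [CategoryTheory.Functor.map_id]

end Aut

theorem pbP_isProperMor : PbP (S := S) AlgSp.IsProperMor := fun _ _ _ _ hX₁ hY₁ _ hY₂ _ _ _ _ sq h =>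
  AlgSpace.isProperMor_of_isPullback hX₁ hY₁ hY₂ sq h

/-- the clean part of an affine chart -/
theorem exists_clean_open (h𝒳 : FibCat.IsFibGrpd 𝒳.p)
    (hi : AlgSt.RepByAlgSpWith (AlgSp.LocP @LocallyOfFinitePresentation)
      (FibCat.inertiaToBase (FibCat.toSelf 𝒳)))
    (hpr : AlgSt.RepByAlgSpWith AlgSp.IsProperMor (FibCat.inertiaToBase (FibCat.toSelf 𝒳)))
    [IsAffine V.left] (z : FibCat.overCat V ⥤ᵇ 𝒳) :
    ∃ O : V.left.Opens, IsCompact (O : Set V.left) ∧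
      (∀ (T : Over S) (t : T ⟶ V), Set.range t.left ⊆ O → IsoNat.IsClean (z.obj (Over.mk t))) ∧
      ∀ (K : Type u) [Field K] (str : Spec (CommRingCat.of K) ⟶ S) (s : Over.mk str ⟶ V),
        IsoNat.IsClean (z.obj (Over.mk s)) → s.left (IsLocalRing.closedPoint K) ∈ O := by
  have hI := FC16.inertia_isFibGrpd h𝒳 (presCart_of_isFibGrpd selfOver_isFibGrpd (FibCat.toSelf 𝒳))
  obtain ⟨F, e, he, hp, hl⟩ := with_inf (preIso_of_pullback pbP_isProperMor) (preIso_of_pullback pbP_locP)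
    hI h𝒳 hpr hi V z
  let ne := (autObj (Iso1.refl z (𝟙 V))).sec he
  have hne : ne ≫ AlgSt.spMapOfOver (BasedFunctor.comp e
      (FibCat.fpFst z (FibCat.inertiaToBase (FibCat.toSelf 𝒳)))) = 𝟙 _ :=
    (SecObj.sec_comp he _).trans ((AlgSp.yon S).map_id V)
  obtain ⟨O, hOc, hO1, hO2⟩ := exists_trivial_open F.property _ hp hl ne hne
  refine ⟨O, hOc, fun T t ht => (isClean_obj_iff h𝒳 z t).2 fun T' f γ => ?_, fun K _ str s hs => ?_⟩
  · refine eq_refl_of_sec_eq he γ ?_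
    have hr : Set.range (f ≫ t).left ⊆ O := by
      rintro _ ⟨r, rfl⟩
      exact ht ⟨f.left r, rfl⟩
    exact (hO1 T' (f ≫ t) hr _ (SecObj.sec_comp he _)).trans (sec_refl he _).symm
  · refine hO2 K s.left fun T t f hf l hl => ?_
    let fo : T ⟶ Over.mk str := Over.homMk f (by
      show f ≫ str = T.hom
      rw [← Over.w t, ← hf, Category.assoc]
      exact congrArg (f ≫ ·) (Over.w s).symm)
    have hts : fo ≫ s = t := Over.OverMorphism.ext hf
    have hc : IsoNat.IsClean (z.obj (Over.mk t)) := isClean_of_hom (z.map (sl fo hts)) hs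
    obtain ⟨ξ, rfl⟩ := exists_secObj he l t hl
    exact (sec_eq_of_clean h𝒳 he hc ξ).trans (sec_refl he t)

variable (𝒳) in
/-- the points with a clean representative -/
def cleanPts : Set (Points 𝒳) := {p | ∃ q : FPt 𝒳, Points.mk q = p ∧ IsoNat.IsClean q.obj}

theorem mem_clean_open_iff (h𝒳 : FibCat.IsFibGrpd 𝒳.p) (z : FibCat.overCat V ⥤ᵇ 𝒳) {O : V.left.Opens}
    (h1 : ∀ (T : Over S) (t : T ⟶ V), Set.range t.left ⊆ O → IsoNat.IsClean (z.obj (Over.mk t)))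
    (h2 : ∀ (K : Type u) [Field K] (str : Spec (CommRingCat.of K) ⟶ S) (s : Over.mk str ⟶ V),
      IsoNat.IsClean (z.obj (Over.mk s)) → s.left (IsLocalRing.closedPoint K) ∈ O) (v : V.left) :
    Points.ofChart z v ∈ cleanPts 𝒳 ↔ v ∈ O := by
  constructor
  · rintro ⟨q, hq, hc⟩
    let m₀ : Over.mk (V.left.fromSpecResidueField v ≫ V.hom) ⟶ V := Over.homMk (V.left.fromSpecResidueField v) rfl
    obtain ⟨r, a, b, -⟩ := rel_of_mk_eq h𝒳 (hq : Points.mk q = Points.mk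
      { K := V.left.residueField v, str := V.left.fromSpecResidueField v ≫ V.hom, obj := z.obj (Over.mk m₀),
        lies := z.w_obj _ })
    let s := baseHom b ≫ m₀
    have hcr : IsoNat.IsClean r.obj := isClean_of_hom a hc
    haveI := baseHom_lift b
    haveI := map_sl_lift z (baseHom b) (rfl : baseHom b ≫ m₀ = baseHom b ≫ m₀)
    obtain ⟨i, -, -⟩ := exists_iso_of_lifts h𝒳 (baseHom b) b (z.map (sl (baseHom b) (rfl : baseHom b ≫ m₀ = s)))
    have h := h2 r.K r.str s (isClean_of_hom i.inv hcr)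
    have e : s.left (IsLocalRing.closedPoint r.K) = v := Scheme.fromSpecResidueField_apply v _
    rwa [e] at h
  · intro hv
    refine ⟨_, rfl, h1 _ _ ?_⟩
    rintro _ ⟨r, rfl⟩
    exact Set.mem_of_eq_of_mem (Scheme.fromSpecResidueField_apply v r) hv

section Main

variable (hi : AlgSt.RepByAlgSpWith (AlgSp.LocP @LocallyOfFinitePresentation)
      (FibCat.inertiaToBase (FibCat.toSelf 𝒳)))
    (hpr : AlgSt.RepByAlgSpWith AlgSp.IsProperMor (FibCat.inertiaToBase (FibCat.toSelf 𝒳)))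
include hi hpr

/-- on an affine open of a chart, the clean points form a compact open -/
theorem exists_compact_clean (h𝒳 : FibCat.IsFibGrpd 𝒳.p) (z : FibCat.overCat V ⥤ᵇ 𝒳) (A : V.left.affineOpens) :
    IsOpen (Points.ofChart z ⁻¹' cleanPts 𝒳 ∩ (A.1 : Set V.left)) ∧
      IsCompact (Points.ofChart z ⁻¹' cleanPts 𝒳 ∩ (A.1 : Set V.left)) := by
  haveI : IsAffine (openPart A.1).left := A.2
  let zA : FibCat.overCat (openPart A.1) ⥤ᵇ 𝒳 := BasedFunctor.comp (AlgSt.overMap (openIncl A.1)) z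
  obtain ⟨O, hOc, h1, h2⟩ := exists_clean_open h𝒳 hi hpr zA
  have e : Points.ofChart z ⁻¹' cleanPts 𝒳 ∩ (A.1 : Set V.left) = A.1.ι '' (O : Set (openPart A.1).left) := by
    ext v
    constructor
    · rintro ⟨hv, hvA⟩
      refine ⟨⟨v, hvA⟩, (mem_clean_open_iff h𝒳 zA h1 h2 _).1 ?_, rfl⟩
      rw [ofChart_overMap]
      exact hv
    · rintro ⟨a, ha, rfl⟩
      refine ⟨?_, a.2⟩
      have h := (mem_clean_open_iff h𝒳 zA h1 h2 a).2 ha
      rwa [ofChart_overMap] at h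
  rw [e]
  exact ⟨A.1.ι.isOpenEmbedding.isOpenMap _ O.2, hOc.image A.1.ι.continuous⟩

theorem isOpen_preimage_cleanPts (h𝒳 : FibCat.IsFibGrpd 𝒳.p) (z : FibCat.overCat V ⥤ᵇ 𝒳) :
    IsOpen (Points.ofChart z ⁻¹' cleanPts 𝒳) := by
  refine isOpen_iff_forall_mem_open.2 fun v hv => ?_
  obtain ⟨_, ⟨A, hA, rfl⟩, hvA, -⟩ := V.left.isBasis_affineOpens.exists_subset_of_mem_open (Set.mem_univ v) isOpen_univ
  exact ⟨_, Set.inter_subset_left, (exists_compact_clean hi hpr h𝒳 z ⟨A, hA⟩).1, hv, hvA⟩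

theorem isOpen_cleanPts (h𝒳 : FibCat.IsFibGrpd 𝒳.p) : IsOpen (cleanPts 𝒳) :=
  Points.isOpen_iff.2 fun _ x _ => isOpen_preimage_cleanPts hi hpr h𝒳 x

/-- a value of a chart all whose points are clean is clean -/
theorem isClean_of_points (h𝒳 : Stk.IsStack (QuotSh.J Scheme.fppfPrecoverage S) 𝒳) (z : FibCat.overCat V ⥤ᵇ 𝒳)
    {T : Over S} (t : T ⟶ V) (h : ∀ r, Points.ofChart z (t.left r) ∈ cleanPts 𝒳) :
    IsoNat.IsClean (z.obj (Over.mk t)) := by
  refine (isClean_obj_iff h𝒳.1 z t).2 fun T' f γ => ?_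
  let A : V.left.affineOpens → T'.left.Opens := fun B => (f ≫ t).left ⁻¹ᵁ B.1
  refine iso1_eq_of_cover h𝒳 γ (Iso1.refl z _) (AlgSpace.mem_J_of_openImmersions
    (T' := fun B => openPart (A B)) (fun B => openIncl (A B)) (fun B => inferInstanceAs (IsOpenImmersion (A B).ι))
    fun r => ?_) ?_
  · obtain ⟨_, ⟨B, hB, rfl⟩, hv, -⟩ := V.left.isBasis_affineOpens.exists_subset_of_mem_open
      (Set.mem_univ ((f ≫ t).left r)) isOpen_univ
    exact ⟨⟨B, hB⟩, ⟨r, hv⟩, rfl⟩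
  · rintro W g ⟨_, l, _, ⟨B⟩, rfl⟩
    haveI : IsAffine (openPart B.1).left := B.2
    let zB : FibCat.overCat (openPart B.1) ⥤ᵇ 𝒳 := BasedFunctor.comp (AlgSt.overMap (openIncl B.1)) z
    obtain ⟨O, -, h1, h2⟩ := exists_clean_open h𝒳.1 hi hpr zB
    let d := (l ≫ openIncl (A B)) ≫ f ≫ t
    have hd : Set.range d.left ⊆ Set.range B.1.ι := by
      rintro _ ⟨r, rfl⟩
      rw [Scheme.Opens.range_ι]
      exact (l.left r).2
    let m : W ⟶ openPart B.1 := Over.homMk (IsOpenImmersion.lift B.1.ι d.left hd) (by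
      show _ ≫ B.1.ι ≫ V.hom = W.hom
      rw [IsOpenImmersion.lift_fac_assoc]
      exact Over.w d)
    have hm : m ≫ openIncl B.1 = d := Over.OverMorphism.ext (IsOpenImmersion.lift_fac _ _ _)
    have hc : IsoNat.IsClean (z.obj (Over.mk (m ≫ openIncl B.1))) := h1 W m (by
      rintro _ ⟨r, rfl⟩
      refine (mem_clean_open_iff h𝒳.1 zB h1 h2 _).1 ?_
      rw [ofChart_overMap]
      show Points.ofChart z ((m ≫ openIncl B.1).left r) ∈ _
      rw [hm]
      exact h _)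
    rw [hm] at hc
    let a := Iso1.pb h𝒳.1 γ (l ≫ openIncl (A B)) (g' := 𝟙 W ≫ d) (t' := 𝟙 W ≫ d) (Category.id_comp d).symm
      (Category.id_comp d).symm
    have ha : a = Iso1.refl z _ := (isClean_obj_iff h𝒳.1 z d).1 hc W (𝟙 W) a
    have h2 := congrArg (fun w => Iso1.pb h𝒳.1 w (𝟙 W) (g' := d) (t' := d)
      ((Category.id_comp _).trans (Category.id_comp _)) ((Category.id_comp _).trans (Category.id_comp _))) ha
    simp only [a, Iso1.pb_pb, Iso1.pb_refl] at h2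
    rw [Iso1.pb_refl]
    exact (Iso1.pb_congr h𝒳.1 γ (Category.id_comp _).symm _ _).trans h2

theorem isClean_iff_qsub (h𝒳 : Stk.IsStack (QuotSh.J Scheme.fppfPrecoverage S) 𝒳) (η : 𝒳.obj) :
    IsoNat.IsClean η ↔ Qsub (cleanPts 𝒳) η := by
  refine ⟨fun h p φ => ⟨p, rfl, isClean_of_hom φ h⟩, fun h => ?_⟩
  haveI := FC16.isFibered h𝒳.1
  let z := ofObj (x := η) (U := 𝒳.p.obj η) rfl
  let e := ofObjIso (x := η) (U := 𝒳.p.obj η) (rfl : 𝒳.p.obj η = _)
  have hz : Qsub (cleanPts 𝒳) (z.obj (Over.mk (𝟙 _))) := qsub_of_hom e.hom h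
  exact isClean_of_hom e.inv (isClean_of_points hi hpr h𝒳 z (𝟙 _)
    ((qsub_obj_iff h𝒳.1 _ z (Over.mk (𝟙 _))).1 hz))

theorem quasiCompact_openIncl_clean (h𝒳 : FibCat.IsFibGrpd 𝒳.p) (z : FibCat.overCat V ⥤ᵇ 𝒳) (O : V.left.Opens)
    (hO : (O : Set V.left) = Points.ofChart z ⁻¹' cleanPts 𝒳) : QuasiCompact O.ι := by
  refine quasiCompact_iff_forall_isAffineOpen.2 fun A hA => ?_
  rw [O.ι.isOpenEmbedding.isEmbedding.isCompact_iff,
    show O.ι '' (O.ι ⁻¹ᵁ A : Set O.toScheme) = (A : Set V.left) ∩ Set.range O.ι from Set.image_preimage_eq_inter_range,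
    Scheme.Opens.range_ι, hO, Set.inter_comm]
  exact (exists_compact_clean hi hpr h𝒳 z ⟨A, hA⟩).2

/-- the clean locus is an open substack with quasi-compact inclusion -/
theorem isOpenSubstack_clean (h𝒳 : IsAlgStack Scheme.fppfPrecoverage 𝒳) :
    AlgSt.IsOpenSubstack 𝒳 (fun η => IsoNat.IsClean η) Scheme.fppfPrecoverage ∧
      AlgSt.RepByAlgSpWith AlgSp.IsQuasiCompactMor (AlgSt.subIncl 𝒳 (fun η => IsoNat.IsClean η)) := by
  have hQ : (fun η => IsoNat.IsClean η) = Qsub (cleanPts 𝒳) :=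
    funext fun η => propext (isClean_iff_qsub hi hpr h𝒳.isStack η)
  rw [hQ]
  have hT := isOpen_cleanPts hi hpr h𝒳.isStack.1
  refine ⟨isOpenSubstack_qsub hT h𝒳, fun U y => ?_⟩
  obtain ⟨O, E, hO, hE, he⟩ := exists_fp_subIncl hT h𝒳 y
  refine ⟨⟨(AlgSp.yon S).obj (openPart O), AlgSp.IsAlgSpace.yon_obj _⟩,
    BasedFunctor.comp (AlgSt.toOverCat (openPart O)) E, isEquivOver_comp (toOverCat_isEquivOver _) hE, ?_⟩
  have e : AlgSt.spMapOfOver (BasedFunctor.comp (BasedFunctor.comp (AlgSt.toOverCat (openPart O)) E)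
      (FibCat.fpFst y (subIncl 𝒳 (Qsub (cleanPts 𝒳))))) = (AlgSp.yon S).map (openIncl O) := by
    apply ObjectProperty.hom_ext
    rw [spMapOfOver_hom, show BasedFunctor.comp (BasedFunctor.comp (AlgSt.toOverCat (openPart O)) E)
      (FibCat.fpFst y (subIncl 𝒳 (Qsub (cleanPts 𝒳)))) = BasedFunctor.comp (AlgSt.toOverCat (openPart O))
        (AlgSt.overMap (openIncl O)) from congrArg (BasedFunctor.comp (AlgSt.toOverCat (openPart O))) he]
    ext T' x
    rfl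
  rw [e]
  have hq := (AlgSp.repWith_yon_map_iff @QuasiCompact (openIncl O)).2
    (quasiCompact_openIncl_clean hi hpr h𝒳.isStack.1 y O hO)
  exact (AlgSpace.repWith_quasiCompact_iff (AlgSp.IsAlgSpace.yon_obj _) (AlgSp.IsAlgSpace.yon_obj _) hq.1).1 hq

end Main

end Groth.Agent.IsoNat5
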