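import Groth.Agent.Lib.AlgSpace.Proper
import Groth.Agent.Lib.AlgSpace.QCQS
import Groth.Agent.Lib.AlgSpace.MorDiag
import Groth.Agent.Lib.FibreLocus.Unr
import Groth.Agent.Lib.LimH13.Constr
import Groth.Agent.Lib.SchBasic.Basic
import Groth.Agent.Lib.AlgSpDecent.Basic
import Mathlib.AlgebraicGeometry.Morphisms.Etale
import Mathlib.AlgebraicGeometry.Morphisms.FlatMono

/-!
The locus over which a section of a proper space exhausts it is open and quasi-compact.
-/

universe u

open CategoryTheory CategoryTheory.Limits AlgebraicGeometry Opposite Topology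

set_option linter.style.haveILetI false
set_option linter.unusedSectionVars false
set_option backward.isDefEq.respectTransparency false
set_option backward.isDefEq.respectTransparency.types false

namespace Groth.Agent.IsoNat5

open Groth.Agent.AlgSpace Groth.Agent.AlgSpDecent AlgSp Groth.Agent.FibreLocus

variable {S : Scheme.{u}} {F : AlgSp.Sp S}

theorem eq_of_etale_surjective {T T' : Over S} (π : T' ⟶ T) [Etale π.left] [Surjective π.left]
    (l₁ l₂ : (yon S).obj T ⟶ F) (h : (yon S).map π ≫ l₁ = (yon S).map π ≫ l₂) : l₁ = l₂ := by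
  apply AlgSpace.sect.injective
  refine ((isSheaf_iff_isSheaf_of_type _ _).1 F.property _ (mem_J_of_singleton π
    (Sieve.generate (Presieve.singleton π)) ⟨_, 𝟙 _, π, ⟨⟩, Category.id_comp _⟩)).isSeparatedFor.ext ?_
  rintro W _ ⟨_, g, _, ⟨⟩, rfl⟩
  have h' := congrArg (fun l => F.obj.map g.op (AlgSpace.sect l)) h
  simpa [← GrothendieckTopology.uliftYonedaEquiv_naturality] using h'

/-- open locus over which a section of a proper space is everything -/
theorem exists_trivial_open {V : Over S} [IsAffine V.left] (hF : IsAlgSpace F)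
    (a : F ⟶ (yon S).obj V) (ha : IsProperMor a) (hlfp : LocP @LocallyOfFinitePresentation a)
    (e : (yon S).obj V ⟶ F) (he : e ≫ a = 𝟙 _) :
    ∃ O : V.left.Opens, IsCompact (O : Set V.left) ∧
      (∀ (T : Over S) (t : T ⟶ V), Set.range t.left ⊆ O → ∀ l : (yon S).obj T ⟶ F,
        l ≫ a = (yon S).map t → l = (yon S).map t ≫ e) ∧
      ∀ (K : Type u) [Field K] (s : Spec (CommRingCat.of K) ⟶ V.left),
        (∀ (T : Over S) (t : T ⟶ V) (f : T.left ⟶ Spec (CommRingCat.of K)), f ≫ s = t.left →
          ∀ l : (yon S).obj T ⟶ F, l ≫ a = (yon S).map t → l = (yon S).map t ≫ e) →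
        s (IsLocalRing.closedPoint K) ∈ O := by
  haveI : CompactSpace V.left := inferInstance
  have hVc : CompactSpace (Points ((yon S).obj V)) := (Points.schemeHomeo V).compactSpace
  obtain ⟨Z, π, hZa, hπe, hπs⟩ := exists_affine_chart (isQuasiCompactSp_of_mor hF (IsAlgSpace.yon_obj V) ha.2.1.2
    ((isQuasiCompactSp_iff (IsAlgSpace.yon_obj V)).2 hVc))
  obtain ⟨k, hk⟩ := (yon S).map_surjective (π ≫ a)
  haveI : LocallyOfFinitePresentation k.left :=
    hlfp π (𝟙 _) k hπe (repWith_id _ V) (by rw [Category.comp_id, hk])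
  -- the pullback of the section
  have hec : RepWith @IsClosedImmersion e :=
    repWith_of_isPullback (isPullback_section a e he) ha.1
  have sq := hec.1.isPullback π
  obtain ⟨j, hj⟩ := (yon S).map_surjective (hec.1.fst π)
  let i : hec.1.pullback π ⟶ Z := hec.1.snd π
  haveI : IsClosedImmersion i.left := hec.2 π _ _ sq
  rw [← hj] at sq
  haveI : Etale j.left := hπe.2 e _ _ sq.flip
  have hji : j = i ≫ k := (yon S).map_injective (by
    have h := congrArg (· ≫ a) sq.w
    simp only [Category.assoc, he, Category.comp_id] at h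
    rw [h, Functor.map_comp, hk])
  haveI : LocallyOfFinitePresentation (i.left ≫ k.left) := by
    rw [show i.left ≫ k.left = j.left from congrArg (fun w => w.left) hji.symm]
    infer_instance
  haveI : LocallyOfFinitePresentation i.left :=
    SchBasic.locallyOfFinitePresentation_of_comp i.left k.left
  -- the unramified locus
  let N : Z.left.Opens := ⟨{z | UnrPt k.left z}, isOpen_iff_forall_mem_open.2 fun z ⟨U, hz, hU⟩ =>
    ⟨U, fun y hy => ⟨U, hy, hU⟩, U.2, hz⟩⟩
  haveI : FormallyUnramified (N.ι ≫ k.left) := (forall_unrPt_iff _).1 fun w =>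
    (isPtLocal_unrPt.open_source N.ι k.left inferInstance w).2 w.2
  let M : (hec.1.pullback π).left.Opens := i.left ⁻¹ᵁ N
  haveI : Etale ((i.left ∣_ N) ≫ N.ι ≫ k.left) := by
    rw [morphismRestrict_ι_assoc, show i.left ≫ k.left = j.left from congrArg (fun w => w.left) hji.symm]
    exact MorphismProperty.comp_mem @Etale _ _ inferInstance inferInstance
  haveI : Etale (i.left ∣_ N) := Etale.of_comp _ (N.ι ≫ k.left)
  haveI : IsOpenImmersion (i.left ∣_ N) := IsOpenImmersion.of_flat_of_mono _
  let m : Over.mk (M.ι ≫ (hec.1.pullback π).hom) ⟶ hec.1.pullback π := Over.homMk M.ι rfl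
  have hq : (m ≫ i).left = (i.left ∣_ N) ≫ N.ι := (morphismRestrict_ι i.left N).symm
  haveI : IsOpenImmersion (m ≫ i).left := by
    rw [hq]
    infer_instance
  have hW : RepWith @Etale ((yon S).map (m ≫ i) ≫ π) :=
    repWith_comp ((repWith_yon_map_iff _ _).2 (inferInstance : Etale (m ≫ i).left)) hπe
  have hWe : (yon S).map (m ≫ i) ≫ π = (yon S).map (m ≫ j) ≫ e := by
    rw [Functor.map_comp, Functor.map_comp, Category.assoc, Category.assoc, sq.w]
  -- the bad points
  let B : Set (Points F) := (Set.range (Points.ofPt ((yon S).map (m ≫ i) ≫ π)))ᶜ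
  have hB : IsClosed B := (isOpenMap_ofPt _ hW).isOpen_range.isClosed_compl
  let O : V.left.Opens := ⟨(fun v => Points.schemeHomeo V v) ⁻¹' (Points.map a '' B)ᶜ,
    ((isClosedMap_of_isUnivClosedMor (IsAlgSpace.yon_obj V) ha.2.2 _ hB).isOpen_compl).preimage
      (Points.schemeHomeo V).continuous⟩
  have hmem : ∀ v, v ∈ O ↔ ∀ x, Points.map a x = Points.ofScheme V v →
      x ∈ Set.range (Points.ofPt ((yon S).map (m ≫ i) ≫ π)) := fun v =>
    ⟨fun h x hx => by_contra fun hn => h ⟨x, hn, hx⟩, fun h ⟨x, hn, hx⟩ => hn (h x hx)⟩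
  have trivial_over : ∀ (T : Over S) (t : T ⟶ V), Set.range t.left ⊆ O → ∀ l : (yon S).obj T ⟶ F,
      l ≫ a = (yon S).map t → l = (yon S).map t ≫ e := by
    intro T t ht l hl
    have sqT := hW.1.isPullback l
    let ρ := hW.1.snd l
    haveI : Etale ρ.left := hW.2 l _ _ sqT
    haveI : Surjective ρ.left := ⟨fun τ => by
      have hx : Points.map a (Points.ofPt l τ) = Points.ofScheme V (t.left τ) := by
        rw [Points.map_ofPt, hl, ofPt_map_eq]
      obtain ⟨w, hw⟩ := (hmem _).1 (ht ⟨τ, rfl⟩) _ hx
      obtain ⟨v, -, hv⟩ := exists_pt_of_isPullback sqT (x := Points.ofScheme _ w) (t := τ)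
        (by rw [← Points.ofPt_eq_map_ofScheme]; exact hw)
      exact ⟨v, hv⟩⟩
    refine eq_of_etale_surjective ρ _ _ ?_
    have hw : hW.1.fst l ≫ (yon S).map (m ≫ j) ≫ e = (yon S).map ρ ≫ l :=
      (congrArg (hW.1.fst l ≫ ·) hWe.symm).trans sqT.w
    have h2 := congrArg (· ≫ a) hw
    simp only [Category.assoc, he, hl, Category.comp_id] at h2
    rw [← hw, reassoc_of% h2]
  have good : ∀ (K : Type u) [Field K] (s : Spec (CommRingCat.of K) ⟶ V.left),
      (∀ (T : Over S) (t : T ⟶ V) (f : T.left ⟶ Spec (CommRingCat.of K)), f ≫ s = t.left →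
        ∀ l : (yon S).obj T ⟶ F, l ≫ a = (yon S).map t → l = (yon S).map t ≫ e) →
      ∀ z : Z.left, k.left z = s (IsLocalRing.closedPoint K) → z ∈ Set.range (m ≫ i).left := by
    intro K _ s hs z hz
    obtain ⟨p, hp, -⟩ := Scheme.Pullback.exists_preimage_pullback (f := k.left) (g := s) z
      (IsLocalRing.closedPoint K) hz
    let qP : Over.mk (pullback.fst k.left s ≫ Z.hom) ⟶ Z := Over.homMk (pullback.fst k.left s) rfl
    have hl : (yon S).map qP ≫ π = (yon S).map (qP ≫ k) ≫ e := hs _ (qP ≫ k) (pullback.snd k.left s)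
      pullback.condition.symm _ (by rw [Category.assoc, ← hk, Functor.map_comp])
    obtain ⟨r, hr⟩ := (yon S).map_surjective (sq.lift ((yon S).map (qP ≫ k)) ((yon S).map qP) hl.symm)
    have hri : r ≫ i = qP := (yon S).map_injective (by rw [Functor.map_comp, hr, sq.lift_snd])
    have hri' : r.left ≫ i.left = pullback.fst k.left s := congrArg (fun w => w.left) hri
    have hrj : r.left ≫ j.left = pullback.fst k.left s ≫ k.left := by
      rw [show j.left = i.left ≫ k.left from congrArg (fun w => w.left) hji, reassoc_of% hri']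
    have hzN : z ∈ N := by
      haveI : FormallyUnramified (pullback.snd k.left s) := by
        let r' : pullback k.left s ⟶ pullback j.left s := pullback.lift r.left (pullback.snd _ _)
          (hrj.trans pullback.condition)
        let b : pullback j.left s ⟶ pullback k.left s := pullback.lift (pullback.fst _ _ ≫ i.left) (pullback.snd _ _)
          (by rw [Category.assoc, show i.left ≫ k.left = j.left from congrArg (fun w => w.left) hji.symm,
            pullback.condition])
        have h1 : r' ≫ b = 𝟙 _ := pullback.hom_ext (by simp [r', b, hri']) (by simp [r', b])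
        have h2 : b ≫ r' = 𝟙 _ := pullback.hom_ext
          (by rw [← cancel_mono i.left]; simp [r', b, hri']) (by simp [r', b])
        haveI : IsIso r' := ⟨b, h1, h2⟩
        rw [show pullback.snd k.left s = r' ≫ pullback.snd j.left s by simp [r']]
        exact MorphismProperty.comp_mem @FormallyUnramified _ _ inferInstance inferInstance
      refine unrPt_of_mem_fibSet k.left (𝟙 _) z ?_
      rw [← hp, mem_fibSet_iff_of_field k.left (𝟙 _) isPtLocal_unrPt K s (qY := s) (gK := 𝟙 _)
        (IsPullback.of_vert_isIso ⟨by simp⟩) (IsPullback.of_hasPullback k.left s) p]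
      exact (forall_unrPt_iff _).2 inferInstance p
    have hy : i.left (r.left p) = z := (congrArg (fun w => w p) hri').trans hp
    exact ⟨⟨r.left p, show i.left (r.left p) ∈ N by rw [hy]; exact hzN⟩, hy⟩
  have hgood : ∀ (K : Type u) [Field K] (s : Spec (CommRingCat.of K) ⟶ V.left),
      (∀ (T : Over S) (t : T ⟶ V) (f : T.left ⟶ Spec (CommRingCat.of K)), f ≫ s = t.left →
        ∀ l : (yon S).obj T ⟶ F, l ≫ a = (yon S).map t → l = (yon S).map t ≫ e) →
      s (IsLocalRing.closedPoint K) ∈ O := by
    intro K _ s hs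
    refine (hmem _).2 fun x hx => ?_
    obtain ⟨z, rfl⟩ := surjective_ofPt hπs x
    rw [Points.map_ofPt, ← hk, ofPt_map_eq] at hx
    obtain ⟨w, rfl⟩ := good K s hs z ((Points.schemeEquiv V).injective hx)
    exact ⟨w, ofPt_map_comp _ _ _⟩
  refine ⟨O, ?_, trivial_over, hgood⟩
  -- constructibility
  have hO : (O : Set V.left) = (k.left '' (Set.range (m ≫ i).left)ᶜ)ᶜ := by
    ext v
    constructor
    · rintro hv ⟨z, hz, rfl⟩
      obtain ⟨s, hs⟩ : ∃ s : Spec (CommRingCat.of (V.left.residueField (k.left z))) ⟶ V.left, ∀ r, s r = k.left z :=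
        ⟨V.left.fromSpecResidueField (k.left z), fun r => Scheme.fromSpecResidueField_apply (k.left z) r⟩
      refine hz (good (V.left.residueField (k.left z)) s (fun T t f hf l hl => ?_) z (hs _).symm)
      refine trivial_over T t ?_ l hl
      rintro _ ⟨τ, rfl⟩
      rw [← hf]
      exact Set.mem_of_eq_of_mem (hs (f τ)) hv
    · intro hv
      refine (hmem _).2 fun x hx => ?_
      obtain ⟨z, rfl⟩ := surjective_ofPt hπs x
      rw [Points.map_ofPt, ← hk, ofPt_map_eq] at hx
      have hz : k.left z = v := (Points.schemeEquiv V).injective hx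
      obtain ⟨w, rfl⟩ := Classical.not_not.1 fun hn => hv ⟨z, hn, hz⟩
      exact ⟨w, ofPt_map_comp _ _ _⟩
  haveI : QuasiCompact k.left := inferInstance
  haveI : QuasiCompact i.left := inferInstance
  haveI : CompactSpace (hec.1.pullback π).left := QuasiCompact.compactSpace_of_compactSpace i.left
  haveI : QuasiSeparatedSpace Z.left := inferInstance
  have hcN : IsConstructible (N : Set Z.left) := by
    have h := isLocallyConstructible_fibSet_unrPt k.left (𝟙 V.left)
    rw [fibSet_unrPt_eq] at h
    exact h.isConstructible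
  have hci : IsConstructible (Set.range i.left) := by
    rw [← Set.image_univ]
    exact i.left.isConstructible_image .univ
  have hW' : Set.range (m ≫ i).left = Set.range i.left ∩ (N : Set Z.left) := by
    ext z
    constructor
    · rintro ⟨w, rfl⟩
      exact ⟨⟨_, rfl⟩, w.2⟩
    · rintro ⟨⟨y, rfl⟩, hy⟩
      exact ⟨⟨y, hy⟩, rfl⟩
  rw [hO, hW', ← Set.univ_inter (k.left '' _)ᶜ]
  exact LimH13.isCompact_inter_of_isConstructible isCompact_univ isOpen_univ
    (k.left.isConstructible_image (hci.inter hcN).compl).compl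

end Groth.Agent.IsoNat5
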