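import Groth.Agent.Lib.IsoNat5.CorrPb

/-!
Correspondence of isomorphisms of pullbacks of charts from the base with abelian automorphisms.
-/

universe u

open CategoryTheory CategoryTheory.Functor CategoryTheory.Limits AlgebraicGeometry Opposite

set_option linter.style.haveILetI false
set_option linter.unusedSectionVars false
set_option backward.isDefEq.respectTransparency false
set_option backward.isDefEq.respectTransparency.types false

namespace Groth.Agent.IsoNat5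

open Groth.Agent.FC16 Groth.Agent.StAlg Groth.Agent.StAlg16 AlgSt

variable {S : Scheme.{u}} {𝒳 𝒴 : AlgSt.Cat S} {T U : Over S}

/-- the bijection of automorphisms, with its characterisation -/
theorem NodeSys.exists_corr_equiv (N : NodeSys T) {x : FibCat.overCat T ⥤ᵇ 𝒳} {y : FibCat.overCat T ⥤ᵇ 𝒴}
    (φ : IsoNat.FIso 𝒳 𝒴) (hxy : φ.toEquiv T (IsoNat.objCls x) = IsoNat.objCls y)
    (hD : N.Dense 𝒴 y) (hD₀ : N.Dense 𝒳 x) (hcx : PbComm x) (hcy : PbComm y)
    (h𝒳 : Stk.IsStack (QuotSh.J Scheme.fppfPrecoverage S) 𝒳) (h𝒴 : Stk.IsStack (QuotSh.J Scheme.fppfPrecoverage S) 𝒴) :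
    ∃ f : Iso1 x (𝟙 T) x (𝟙 T) ≃ Iso1 y (𝟙 T) y (𝟙 T),
      (∀ a b, f (a.trans b) = (f a).trans (f b)) ∧ ∀ a, N.Corr h𝒳.1 h𝒴.1 φ a (f a) := by
  choose f hf using N.exists_corr (h𝒳 := h𝒳) (h𝒴 := h𝒴) φ hxy hcy
  choose g hg using N.exists_corr' (h𝒳 := h𝒳) (h𝒴 := h𝒴) φ hxy hcx
  have inj := fun {a b a' b'} (h₁ : N.Corr h𝒳.1 h𝒴.1 φ a a') (h₂ : N.Corr h𝒳.1 h𝒴.1 φ b b') =>
    N.corr_inj (h𝒳 := h𝒳) (h𝒴 := h𝒴) φ hD hD₀ hcx hcy h₁ h₂
  let F : Iso1 x (𝟙 T) x (𝟙 T) ≃ Iso1 y (𝟙 T) y (𝟙 T) :=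
    ⟨f, g, fun a => (inj (hg (f a)) (hf a)).2 rfl, fun b => (inj (hf (g b)) (hg b)).1 rfl⟩
  have hdiv : ∀ a b, f (a.trans b.symm) = (f a).trans (f b).symm := fun a b =>
    (inj (hf (a.trans b.symm))
      (N.corr_div (h𝒳 := h𝒳) (h𝒴 := h𝒴) φ hxy hD hD₀ hcx hcy (hf a) (hf b))).1 rfl
  refine ⟨F, fun a b => ?_, hf⟩
  show f (a.trans b) = (f a).trans (f b)
  have h1 : f (Iso1.refl x (𝟙 T)) = Iso1.refl y (𝟙 T) := by
    have := hdiv a a
    rwa [Iso1.trans_symm, Iso1.trans_symm] at this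
  have h2 : f b.symm = (f b).symm := by
    have := hdiv (Iso1.refl x (𝟙 T)) b
    rwa [Iso1.refl_trans, h1, Iso1.refl_trans] at this
  have hb : b = b.symm.symm := Iso1.ext (Iso.ext rfl)
  conv_lhs => rw [hb]
  rw [hdiv, h2]
  exact congrArg _ (Iso1.ext (Iso.ext rfl))

variable {x : FibCat.overCat U ⥤ᵇ 𝒳} {y : FibCat.overCat U ⥤ᵇ 𝒴}

/-- retyping along equalities of the test maps -/
noncomputable def retype (hU : ∀ (T : Over S) (s t : T ⟶ U), s = t) {T : Over S} {s t : T ⟶ U}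
    (a : Iso1 x s x t) : Iso1 x s x s := a.trans (Iso1.ofEq x (hU T t s))

theorem retype_self (hU : ∀ (T : Over S) (s t : T ⟶ U), s = t) {T : Over S} {s : T ⟶ U} (a : Iso1 x s x s) :
    retype hU a = a := by simp [retype]

/-- a natural multiplicative bijection of automorphisms gives a correspondence -/
theorem exists_homMap_pair (gX : FibCat.IsFibGrpd 𝒳.p) (gY : FibCat.IsFibGrpd 𝒴.p)
    (hU : ∀ (T : Over S) (s t : T ⟶ U), s = t) (F : ∀ {T : Over S} (s : T ⟶ U), Iso1 x s x s ≃ Iso1 y s y s)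
    (hm : ∀ {T : Over S} (s : T ⟶ U) (a b : Iso1 x s x s), F s (a.trans b) = (F s a).trans (F s b))
    (hn : ∀ {T T' : Over S} (f : T' ⟶ T) {s : T ⟶ U} {s' : T' ⟶ U} (hs : f ≫ s = s') (a : Iso1 x s x s),
      F s' (Iso1.pb gX a f hs hs) = Iso1.pb gY (F s a) f hs hs) :
    ∃ (H : HomMap gX gY x y) (H' : HomMap gY gX y x),
      (∀ {T : Over S} {s t : T ⟶ U} (a : Iso1 x s x t), H'.map (H.map a) = a) ∧
      ∀ {T : Over S} {s t : T ⟶ U} (a : Iso1 y s y t), H.map (H'.map a) = a := by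
  let map : ∀ {T : Over S} {s t : T ⟶ U}, Iso1 x s x t → Iso1 y s y t := fun {T s t} a =>
    (F s (retype hU a)).trans (Iso1.ofEq y (hU T s t))
  let map' : ∀ {T : Over S} {s t : T ⟶ U}, Iso1 y s y t → Iso1 x s x t := fun {T s t} a =>
    ((F s).symm (retype hU a)).trans (Iso1.ofEq x (hU T s t))
  have e : ∀ {T : Over S} {s : T ⟶ U} (a : Iso1 x s x s), map a = F s a := fun a => by simp [map, retype]
  have e' : ∀ {T : Over S} {s : T ⟶ U} (a : Iso1 y s y s), map' a = (F _).symm a := fun a => by simp [map', retype]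
  refine ⟨⟨map, fun {T T' s t s' t'} a h hs ht => ?_, fun {T r s t} a b => ?_⟩,
    ⟨map', fun {T T' s t s' t'} a h hs ht => ?_, fun {T r s t} a b => ?_⟩,
    fun {T s t} a => ?_, fun {T s t} a => ?_⟩
  · obtain rfl := hU T s t
    obtain rfl := hU T' s' t'
    rw [e, e]
    exact hn h hs a
  · obtain rfl := hU T r s
    obtain rfl := hU T r t
    rw [e, e, e, hm]
  · obtain rfl := hU T s t
    obtain rfl := hU T' s' t'
    rw [e', e']
    apply (F _).injective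
    rw [Equiv.apply_symm_apply, hn h hs, Equiv.apply_symm_apply]
  · obtain rfl := hU T r s
    obtain rfl := hU T r t
    rw [e', e', e']
    apply (F _).injective
    rw [hm, Equiv.apply_symm_apply, Equiv.apply_symm_apply, Equiv.apply_symm_apply]
  · obtain rfl := hU T s t
    show map' (map a) = a
    rw [e, e', Equiv.symm_apply_apply]
  · obtain rfl := hU T s t
    show map (map' a) = a
    rw [e', e, Equiv.apply_symm_apply]

/-- abelian automorphisms of a chart from the base are recovered naturally -/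
theorem exists_homMap_of_pbComm (h𝒳 : IsAlgStack Scheme.fppfPrecoverage 𝒳) (h𝒴 : IsAlgStack Scheme.fppfPrecoverage 𝒴)
    (hdx : AlgSt.RepByAlgSpWith AlgSp.IsSeparatedMor (FibCat.diag (FibCat.toSelf 𝒳)))
    (hdy : AlgSt.RepByAlgSpWith AlgSp.IsSeparatedMor (FibCat.diag (FibCat.toSelf 𝒴))) (φ : IsoNat.FIso 𝒳 𝒴)
    (hxy : φ.toEquiv U (IsoNat.objCls x) = IsoNat.objCls y) (hU : ∀ (T : Over S) (s t : T ⟶ U), s = t)
    (hc : PbComm x) :
    ∃ (H : HomMap h𝒳.isStack.1 h𝒴.isStack.1 x y) (H' : HomMap h𝒴.isStack.1 h𝒳.isStack.1 y x),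
      (∀ {T : Over S} {s t : T ⟶ U} (a : Iso1 x s x t), H'.map (H.map a) = a) ∧
      ∀ {T : Over S} {s t : T ⟶ U} (a : Iso1 y s y t), H.map (H'.map a) = a := by
  have gX := h𝒳.isStack.1
  have gY := h𝒴.isStack.1
  have hcy := pbComm_transfer h𝒳 h𝒴 hdy φ hxy hc
  choose E hEm hEc using fun (T : Over S) (s : T ⟶ U) => (nodeSys T).exists_corr_equiv φ (corr_comp φ gY s hxy)
    (nodeSys_dense h𝒴.isStack hdy _) (nodeSys_dense h𝒳.isStack hdx _) (pbComm_comp hc s) (pbComm_comp hcy s)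
    h𝒳.isStack h𝒴.isStack
  let F : ∀ {T : Over S} (s : T ⟶ U), Iso1 x s x s ≃ Iso1 y s y s := fun {T} s =>
    ((Iso1.toT gX s).trans (E T s)).trans (Iso1.toT gY s).symm
  have hF : ∀ {T : Over S} (s : T ⟶ U) (a : Iso1 x s x s), Iso1.toT gY s (F s a) = E T s (Iso1.toT gX s a) :=
    fun s a => Equiv.apply_symm_apply _ _
  refine exists_homMap_pair gX gY hU F (fun {T} s a b => ?_) (fun {T T'} f {s s'} hs a => ?_)
  · apply (Iso1.toT gY s).injective
    rw [Iso1.toT_trans, hF, hF, hF, Iso1.toT_trans, hEm]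
  · apply (Iso1.toT gY s').injective
    rw [hF]
    obtain ⟨M⟩ := nonempty_nodeMap f
    have h0 := hEc T s (Iso1.toT gX s a)
    rw [← hF] at h0
    exact ((nodeSys T').corr_inj (h𝒳 := h𝒳.isStack) (h𝒴 := h𝒴.isStack) φ (nodeSys_dense h𝒴.isStack hdy _)
      (nodeSys_dense h𝒳.isStack hdx _) (pbComm_comp hc s') (pbComm_comp hcy s')
      (hEc T' s' _) (NodeSys.corr_pb (h𝒳 := h𝒳.isStack) (h𝒴 := h𝒴.isStack) φ M hs h0)).1 rfl

end Groth.Agent.IsoNat5
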