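import Groth.Agent.Lib.IsoNat5.Iso1
import Groth.Agent.Lib.IsoNat5.Clean

/-!
Gluing isomorphisms and objects along a covering sieve.
-/

universe u

open CategoryTheory CategoryTheory.Functor CategoryTheory.Limits AlgebraicGeometry Opposite

set_option linter.style.haveILetI false
set_option linter.unusedSectionVars false
set_option backward.isDefEq.respectTransparency false
set_option backward.isDefEq.respectTransparency.types false

namespace Groth.Agent.IsoNat5

open Groth.Agent.FC16 Groth.Agent.StAlg Groth.Agent.StAlg16 AlgSt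

variable {S : Scheme.{u}} {𝒳 : AlgSt.Cat S} {A B T : Over S}

/-- compatible isomorphisms on a covering sieve glue uniquely -/
theorem existsUnique_iso1_of_sieve (h𝒳 : Stk.IsStack (QuotSh.J Scheme.fppfPrecoverage S) 𝒳)
    {X : FibCat.overCat A ⥤ᵇ 𝒳} {Y : FibCat.overCat B ⥤ᵇ 𝒳} {g : T ⟶ A} {t : T ⟶ B} {R : Sieve T}
    (hR : R ∈ QuotSh.J Scheme.fppfPrecoverage S T)
    (e : ∀ {W : Over S} (h : W ⟶ T), R h → Iso1 X (h ≫ g) Y (h ≫ t))
    (hnat : ∀ {W W' : Over S} (k : W' ⟶ W) (h : W ⟶ T) (hh : R h),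
      Iso1.pb h𝒳.1 (e h hh) k (Category.assoc k h g).symm (Category.assoc k h t).symm =
        e (k ≫ h) (R.downward_closed hh k)) :
    ∃! a : Iso1 X g Y t, ∀ {W : Over S} (h : W ⟶ T) (hh : R h), Iso1.pb h𝒳.1 a h rfl rfl = e h hh := by
  haveI : (Stk.resSieve R 𝒳).IsEquivalence := h𝒳.2 R hR
  let X' := BasedFunctor.comp (AlgSt.overMap g) X
  let Y' := BasedFunctor.comp (AlgSt.overMap t) Y
  let app : ∀ z : (Stk.sieveCat R).obj, X'.obj z.obj ≅ Y'.obj z.obj := fun z => (e z.obj.hom z.property).iso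
  have hl : ∀ z : (Stk.sieveCat R).obj, 𝒳.p.IsHomLift (𝟙 z.obj.left) (app z).hom := fun z =>
    (e z.obj.hom z.property).lift
  let γ : (Stk.resSieve R 𝒳).obj X' ≅ (Stk.resSieve R 𝒳).obj Y' :=
    BasedNatIso.mkNatIso (NatIso.ofComponents app fun {z z'} φ => by
      show X'.map φ.hom ≫ (app z').hom = (app z).hom ≫ Y'.map φ.hom
      have e' : φ.hom.left ≫ z'.obj.hom = z.obj.hom := Over.w φ.hom
      have key : Iso1.pb h𝒳.1 (e z'.obj.hom z'.property) φ.hom.left (g' := z.obj.hom ≫ g) (t' := z.obj.hom ≫ t)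
          (by rw [← Category.assoc, e']) (by rw [← Category.assoc, e']) = e z.obj.hom z.property := by
        have : ∀ (h : z.obj.left ⟶ T) (hh : R h) (eh : φ.hom.left ≫ z'.obj.hom = h),
            Iso1.pb h𝒳.1 (e z'.obj.hom z'.property) φ.hom.left (g' := h ≫ g) (t' := h ≫ t)
              (by rw [← Category.assoc, eh]) (by rw [← Category.assoc, eh]) = e h hh := by
          intro h hh eh
          subst eh
          exact hnat φ.hom.left z'.obj.hom z'.property
        exact this _ z.property e'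
      have h2 := Iso1.pb_spec h𝒳.1 (e z'.obj.hom z'.property) φ.hom.left (g' := z.obj.hom ≫ g)
        (t' := z.obj.hom ≫ t) (by rw [← Category.assoc, e']) (by rw [← Category.assoc, e'])
      rw [key] at h2
      exact h2.symm) hl
  let β := (Stk.resSieve R 𝒳).preimageIso γ
  let b : Iso1 X (𝟙 T ≫ g) Y (𝟙 T ≫ t) :=
    ⟨FC16.appIso β (Over.mk (𝟙 T)), FC16.isHomLift_appIso_hom β _ rfl⟩
  let a : Iso1 X g Y t := ((Iso1.ofEq X (Category.id_comp g).symm).trans b).trans (Iso1.ofEq Y (Category.id_comp t))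
  have ha : ∀ {W : Over S} (h : W ⟶ T) (hh : R h), Iso1.pb h𝒳.1 a h rfl rfl = e h hh := fun {W} h hh => by
    have hb : Iso1.pb h𝒳.1 b h (g' := h ≫ g) (t' := h ≫ t) (by rw [Category.id_comp]) (by rw [Category.id_comp]) =
        e h hh := by
      refine Iso1.pb_unique h𝒳.1 _ ?_
      have h1 : (FC16.appIso β (Over.mk h)).hom = (e h hh).iso.hom :=
        congrArg (fun δ => δ.toNatTrans.app (⟨Over.mk h, hh⟩ : (Stk.sieveCat R).obj))
          ((Stk.resSieve R 𝒳).map_preimage γ.hom)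
      rw [← h1]
      exact (β.hom.toNatTrans.naturality (sl h (Category.comp_id h))).symm
    simp only [a]
    rw [Iso1.pb_trans h𝒳.1 _ _ h (hs := rfl) (ht := by rw [Category.id_comp]),
      Iso1.pb_trans h𝒳.1 _ _ h (hs := by rw [Category.id_comp]) (ht := by rw [Category.id_comp]), hb,
      Iso1.pb_ofEq, Iso1.pb_ofEq, Iso1.ofEq_rfl, Iso1.ofEq_rfl, Iso1.refl_trans, Iso1.trans_refl]
  refine ⟨a, ha, fun a' ha' => iso1_eq_of_cover h𝒳 a' a hR fun f hf => (ha' f hf).trans (ha f hf).symm⟩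

end Groth.Agent.IsoNat5
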