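import Groth.Agent.Lib.IsoNat5.Rigid5
import Groth.Agent.Lib.IsoNat5.SieveGlue
import Groth.Agent.Lib.IsoNat5.Charts

/-!
The correspondence of isomorphisms between pullbacks of rigid charts with the same classes.
-/

universe u

open CategoryTheory CategoryTheory.Functor CategoryTheory.Limits AlgebraicGeometry Opposite

set_option linter.style.haveILetI false
set_option linter.unusedSectionVars false
set_option backward.isDefEq.respectTransparency false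
set_option backward.isDefEq.respectTransparency.types false

namespace Groth.Agent.IsoNat5

open Groth.Agent.FC16 Groth.Agent.StAlg Groth.Agent.StAlg16 AlgSt

variable {S : Scheme.{u}} {𝒳 𝒴 : AlgSt.Cat S} {U : Over S}

/-- a natural and multiplicative map between the isomorphisms of pullbacks of two charts -/
structure HomMap (g𝒳 : FibCat.IsFibGrpd 𝒳.p) (g𝒴 : FibCat.IsFibGrpd 𝒴.p) (x : FibCat.overCat U ⥤ᵇ 𝒳)
    (y : FibCat.overCat U ⥤ᵇ 𝒴) where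
  /-- the map -/
  map : ∀ {T : Over S} {s t : T ⟶ U}, Iso1 x s x t → Iso1 y s y t
  map_pb : ∀ {T T' : Over S} {s t : T ⟶ U} {s' t' : T' ⟶ U} (a : Iso1 x s x t) (h : T' ⟶ T) (hs : h ≫ s = s')
    (ht : h ≫ t = t'), map (Iso1.pb g𝒳 a h hs ht) = Iso1.pb g𝒴 (map a) h hs ht
  map_trans : ∀ {T : Over S} {r s t : T ⟶ U} (a : Iso1 x r x s) (b : Iso1 x s x t),
    map (a.trans b) = (map a).trans (map b)

/-- an object of a chart seen as a pullback -/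
theorem exists_iso1_of_secObj {V : Over S} {F : AlgSp.Sp S} {x : FibCat.overCat U ⥤ᵇ 𝒳}
    {z : FibCat.overCat V ⥤ᵇ 𝒳} {e : AlgSt.ofSp F ⥤ᵇ FibCat.fp z x} (he : FibCat.IsEquivOver e) {T : Over S}
    {v : T ⟶ V} (ξ : SecObj z x v) : ∃ (u : T ⟶ U) (i : Iso1 x u z v), (secObjOf i).sec he = ξ.sec he := by
  obtain ⟨⟨o, ho⟩, iso, lift⟩ := ξ
  change o.left = T at ho
  subst ho
  refine ⟨o.hom, (⟨iso, lift⟩ : Iso1 z v x o.hom).symm, ?_⟩
  congr 1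

variable {x : FibCat.overCat U ⥤ᵇ 𝒳} {y : FibCat.overCat U ⥤ᵇ 𝒴}

set_option maxHeartbeats 1000000 in
/-- rigid charts with the same classes have corresponding isomorphisms -/
theorem exists_homMap (h𝒳 : Stk.IsStack (QuotSh.J Scheme.fppfPrecoverage S) 𝒳)
    (h𝒴 : Stk.IsStack (QuotSh.J Scheme.fppfPrecoverage S) 𝒴)
    (hx : AlgSt.RepByAlgSpWith (AlgSp.LocP @Smooth) x) (hR : Rigid y)
    (hcls : ∀ (T : Over S) (s t : T ⟶ U), Nonempty (Iso1 x s x t) → Nonempty (Iso1 y s y t)) :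
    Nonempty (HomMap h𝒳.1 h𝒴.1 x y) := by
  obtain ⟨F, e, he, hsm⟩ := hx U x
  let π := AlgSt.spMapOfOver (BasedFunctor.comp e (FibCat.fpFst x x))
  obtain ⟨W, p, hpe, hps⟩ := F.property.atlas
  obtain ⟨k, hk⟩ := (AlgSp.yon S).map_surjective (p ≫ π)
  haveI hks : Smooth k.left := hsm p (𝟙 _) k hpe (AlgSp.repWith_id _ _)
    (by rw [Category.comp_id]; exact hk.symm)
  obtain ⟨ξ, hξ⟩ := exists_secObj he p k hk.symm
  obtain ⟨uW, αW, hαW'⟩ := exists_iso1_of_secObj he ξ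
  let sec : ∀ {T : Over S} {s t : T ⟶ U}, Iso1 x s x t → ((AlgSp.yon S).obj T ⟶ F.obj) :=
    fun a => (secObjOf a).sec he
  have hαW : sec αW = p := hαW'.trans hξ
  have sec_pb : ∀ {T T' : Over S} {s t : T ⟶ U} {s' t' : T' ⟶ U} (a : Iso1 x s x t) (h : T' ⟶ T)
      (hs : h ≫ s = s') (ht : h ≫ t = t'), (AlgSp.yon S).map h ≫ sec a = sec (Iso1.pb h𝒳.1 a h hs ht) :=
    fun a h hs ht => secObjOf_pb h𝒳.1 he a h hs ht
  have sec_t : ∀ {T : Over S} {s t : T ⟶ U} (a : Iso1 x s x t), sec a ≫ π = (AlgSp.yon S).map t :=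
    fun a => (secObjOf a).sec_comp he
  -- sections determine isomorphisms
  have sec_eq : ∀ {T T₁ T₂ : Over S} {s₁ t₁ : T₁ ⟶ U} {s₂ t₂ : T₂ ⟶ U} (a₁ : Iso1 x s₁ x t₁) (a₂ : Iso1 x s₂ x t₂)
      (m₁ : T ⟶ T₁) (m₂ : T ⟶ T₂), (AlgSp.yon S).map m₁ ≫ sec a₁ = (AlgSp.yon S).map m₂ ≫ sec a₂ →
      ∃ (hs : m₁ ≫ s₁ = m₂ ≫ s₂) (ht : m₁ ≫ t₁ = m₂ ≫ t₂),
        Iso1.pb h𝒳.1 a₁ m₁ (g' := m₂ ≫ s₂) (t' := m₂ ≫ t₂) hs ht = Iso1.pb h𝒳.1 a₂ m₂ rfl rfl := by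
    intro T T₁ T₂ s₁ t₁ s₂ t₂ a₁ a₂ m₁ m₂ h
    have ht : m₁ ≫ t₁ = m₂ ≫ t₂ := (AlgSp.yon S).map_injective (by
      rw [Functor.map_comp, Functor.map_comp, ← sec_t a₁, ← sec_t a₂, ← Category.assoc, h, Category.assoc])
    rw [sec_pb a₁ m₁ rfl ht, sec_pb a₂ m₂ rfl rfl] at h
    obtain ⟨hs, he'⟩ := eq_of_secObjOf_eq he _ _ h
    refine ⟨hs, ht, ?_⟩
    have h2 := congrArg (fun w => Iso1.pb h𝒳.1 w (𝟙 T) (g' := m₂ ≫ s₂) (t' := m₂ ≫ t₂)
      ((Category.id_comp _).trans hs) (Category.id_comp _)) he'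
    simp only [Iso1.pb_pb] at h2
    refine (Iso1.pb_congr h𝒳.1 a₁ (Category.id_comp m₁).symm _ _).trans (h2.trans ?_)
    rw [Iso1.pb_trans h𝒳.1 _ _ (𝟙 T) (hs := Category.id_comp _) (ht := Category.id_comp _), Iso1.pb_ofEq,
      Iso1.ofEq_rfl, Iso1.refl_trans]
    exact Iso1.pb_id h𝒳.1 _
  -- the universal isomorphism
  obtain ⟨bW⟩ := hcls W uW k ⟨αW⟩
  -- independence of the factorisation
  have KEY : ∀ {T : Over S} (m m' : T ⟶ W), (AlgSp.yon S).map m ≫ p = (AlgSp.yon S).map m' ≫ p →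
      ∀ (hs : m ≫ uW = m' ≫ uW) (ht : m ≫ k = m' ≫ k),
        Iso1.pb h𝒴.1 bW m (g' := m' ≫ uW) (t' := m' ≫ k) hs ht = Iso1.pb h𝒴.1 bW m' rfl rfl := by
    intro T m m' h hs ht
    obtain ⟨E, c₂, f₁, sqE⟩ := (Functor.relativelyRepresentable.of_diag F.property.diag p) p
    obtain ⟨c₁, rfl⟩ := (AlgSp.yon S).map_surjective f₁
    haveI : Etale c₂.left := hpe.2 _ _ _ sqE
    obtain ⟨n, hn⟩ := (AlgSp.yon S).map_surjective (sqE.lift ((AlgSp.yon S).map m) ((AlgSp.yon S).map m') h)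
    have hn₁ : n ≫ c₁ = m := (AlgSp.yon S).map_injective (by rw [Functor.map_comp, hn, IsPullback.lift_fst])
    have hn₂ : n ≫ c₂ = m' := (AlgSp.yon S).map_injective (by rw [Functor.map_comp, hn, IsPullback.lift_snd])
    obtain ⟨hcs, hct, -⟩ := sec_eq αW αW c₁ c₂ (by rw [hαW]; exact sqE.w)
    haveI : Smooth (c₂ ≫ k).left := inferInstanceAs (Smooth (c₂.left ≫ k.left))
    have h1 : Iso1.pb h𝒴.1 bW c₁ hcs hct = Iso1.pb h𝒴.1 bW c₂ rfl rfl :=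
      hR E (c₂ ≫ uW) (c₂ ≫ k) inferInstance _ _
    have h2 := congrArg (fun w => Iso1.pb h𝒴.1 w n (g' := m' ≫ uW) (t' := m' ≫ k)
      (by rw [← Category.assoc, hn₂]) (by rw [← Category.assoc, hn₂])) h1
    simp only [Iso1.pb_pb] at h2
    exact (Iso1.pb_congr h𝒴.1 bW hn₁.symm _ _).trans (h2.trans (Iso1.pb_congr h𝒴.1 bW hn₂ _ _))
  -- the map, characterised on factorisations
  have main : ∀ {T : Over S} {s t : T ⟶ U} (a : Iso1 x s x t),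
      ∃ R ∈ QuotSh.J Scheme.fppfPrecoverage S T,
        (∀ {T' : Over S} (g : T' ⟶ T), R g ↔ ∃ m : T' ⟶ W, (AlgSp.yon S).map m ≫ p = (AlgSp.yon S).map g ≫ sec a) ∧
        ∃ b : Iso1 y s y t, ∀ {T' : Over S} (g : T' ⟶ T) (m : T' ⟶ W)
          (_ : (AlgSp.yon S).map m ≫ p = (AlgSp.yon S).map g ≫ sec a) (hs : m ≫ uW = g ≫ s) (ht : m ≫ k = g ≫ t),
            Iso1.pb h𝒴.1 bW m (g' := g ≫ s) (t' := g ≫ t) hs ht = Iso1.pb h𝒴.1 b g rfl rfl := by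
    intro T s t a
    let R : Sieve T :=
      { arrows := fun T' g => ∃ m : T' ⟶ W, (AlgSp.yon S).map m ≫ p = (AlgSp.yon S).map g ≫ sec a
        downward_closed := fun {Y Z f} hf g => by
          obtain ⟨m, hm⟩ := hf
          exact ⟨g ≫ m, by rw [Functor.map_comp, Functor.map_comp, Category.assoc, hm, Category.assoc]⟩ }
    have hRJ : R ∈ QuotSh.J Scheme.fppfPrecoverage S T := by
      obtain ⟨E, cE, f₁, sqE⟩ := (Functor.relativelyRepresentable.of_diag F.property.diag p) (sec a)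
      obtain ⟨aE, rfl⟩ := (AlgSp.yon S).map_surjective f₁
      haveI : Etale cE.left := hpe.2 _ _ _ sqE
      haveI : Surjective cE.left := hps.2 _ _ _ sqE
      exact AlgSpace.mem_J_of_singleton cE R ⟨aE, sqE.w⟩
    have facEq : ∀ {T' : Over S} {g : T' ⟶ T} {m : T' ⟶ W},
        (AlgSp.yon S).map m ≫ p = (AlgSp.yon S).map g ≫ sec a → m ≫ uW = g ≫ s ∧ m ≫ k = g ≫ t := by
      intro T' g m hm
      rw [← hαW] at hm
      obtain ⟨hs, ht, -⟩ := sec_eq αW a m g hm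
      exact ⟨hs, ht⟩
    let e' : ∀ {T' : Over S} (g : T' ⟶ T), R g → Iso1 y (g ≫ s) y (g ≫ t) := fun g hg =>
      Iso1.pb h𝒴.1 bW hg.choose (facEq hg.choose_spec).1 (facEq hg.choose_spec).2
    have indep : ∀ {T' : Over S} (g : T' ⟶ T) (hg : R g) (m : T' ⟶ W)
        (hm : (AlgSp.yon S).map m ≫ p = (AlgSp.yon S).map g ≫ sec a),
        Iso1.pb h𝒴.1 bW m (facEq hm).1 (facEq hm).2 = e' g hg := by
      intro T' g hg m hm
      have h1 := KEY m hg.choose (hm.trans hg.choose_spec.symm)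
        ((facEq hm).1.trans (facEq hg.choose_spec).1.symm) ((facEq hm).2.trans (facEq hg.choose_spec).2.symm)
      have h2 := congrArg (fun w => Iso1.pb h𝒴.1 w (𝟙 T') (g' := g ≫ s) (t' := g ≫ t)
        ((Category.id_comp _).trans (facEq hg.choose_spec).1) ((Category.id_comp _).trans (facEq hg.choose_spec).2)) h1
      simp only [Iso1.pb_pb] at h2
      exact (Iso1.pb_congr h𝒴.1 bW (Category.id_comp m).symm _ _).trans
        (h2.trans (Iso1.pb_congr h𝒴.1 bW (Category.id_comp _) _ _))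
    obtain ⟨b, hb, -⟩ := existsUnique_iso1_of_sieve h𝒴 hRJ e' (fun {W₁ W₂} l h hh => by
      have hm : (AlgSp.yon S).map (l ≫ hh.choose) ≫ p = (AlgSp.yon S).map (l ≫ h) ≫ sec a := by
        rw [Functor.map_comp, Functor.map_comp, Category.assoc, hh.choose_spec, Category.assoc]
      refine Eq.trans ?_ (indep (l ≫ h) (R.downward_closed hh l) (l ≫ hh.choose) hm)
      simp only [e', Iso1.pb_pb])
    exact ⟨R, hRJ, fun g => Iff.rfl, b, fun g m hm hs ht => (indep g ⟨m, hm⟩ m hm).trans (hb g ⟨m, hm⟩).symm⟩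
  choose R hRJ hR' map hmap using @main
  have facEq' : ∀ {T T' : Over S} {s t : T ⟶ U} (a : Iso1 x s x t) {g : T' ⟶ T} {m : T' ⟶ W},
      (AlgSp.yon S).map m ≫ p = (AlgSp.yon S).map g ≫ sec a → m ≫ uW = g ≫ s ∧ m ≫ k = g ≫ t := by
    intro T T' s t a g m hm
    rw [← hαW] at hm
    obtain ⟨hs, ht, -⟩ := sec_eq αW a m g hm
    exact ⟨hs, ht⟩
  refine ⟨{ map := fun a => map a, map_pb := ?_, map_trans := ?_ }⟩
  · intro T T' s t s' t' a h hs ht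
    subst hs ht
    refine iso1_eq_of_cover h𝒴 _ _ (hRJ (Iso1.pb h𝒳.1 a h rfl rfl)) fun {W'} g hg => ?_
    obtain ⟨m, hm⟩ := (hR' _ g).1 hg
    have hm' : (AlgSp.yon S).map m ≫ p = (AlgSp.yon S).map (g ≫ h) ≫ sec a := by
      rw [Functor.map_comp, Category.assoc, sec_pb a h rfl rfl, hm]
    rw [← hmap _ g m hm (facEq' _ hm).1 (facEq' _ hm).2, Iso1.pb_pb]
    have h2 := congrArg (fun w => Iso1.pb h𝒴.1 w (𝟙 W') (g' := g ≫ h ≫ s) (t' := g ≫ h ≫ t)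
      (by rw [Category.id_comp, Category.assoc]) (by rw [Category.id_comp, Category.assoc]))
      (hmap a (g ≫ h) m hm' (facEq' _ hm').1 (facEq' _ hm').2)
    simp only [Iso1.pb_pb] at h2
    exact (Iso1.pb_congr h𝒴.1 bW (Category.id_comp m).symm _ _).trans
      (h2.trans (Iso1.pb_congr h𝒴.1 (map a) (Category.id_comp _) _ _))
  · intro T r s t a b
    refine iso1_eq_of_cover h𝒴 _ _ ((QuotSh.J Scheme.fppfPrecoverage S).intersection_covering (hRJ (a.trans b))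
      ((QuotSh.J Scheme.fppfPrecoverage S).intersection_covering (hRJ a) (hRJ b))) ?_
    intro T' g hg
    obtain ⟨m, hm⟩ := (hR' _ g).1 hg.1
    obtain ⟨m₁, hm₁⟩ := (hR' _ g).1 hg.2.1
    obtain ⟨m₂, hm₂⟩ := (hR' _ g).1 hg.2.2
    rw [Iso1.pb_trans h𝒴.1 (map a) (map b) g rfl rfl rfl,
      ← hmap _ g m hm (facEq' _ hm).1 (facEq' _ hm).2, ← hmap a g m₁ hm₁ (facEq' _ hm₁).1 (facEq' _ hm₁).2,
      ← hmap b g m₂ hm₂ (facEq' _ hm₂).1 (facEq' _ hm₂).2]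
    -- the universal composable pair
    let pr₁ : pullback k uW ⟶ W := pullback.fst k uW
    let pr₂ : pullback k uW ⟶ W := pullback.snd k uW
    have hpr : pr₁ ≫ k = pr₂ ≫ uW := pullback.condition
    haveI : Smooth pr₂.left :=
      MorphismProperty.of_isPullback (P := @Smooth) ((IsPullback.of_hasPullback k uW).map (Over.forget S)) hks
    let α₁ : Iso1 x (pr₁ ≫ uW) x (pr₂ ≫ uW) := Iso1.pb h𝒳.1 αW pr₁ rfl hpr
    let β₁ : Iso1 y (pr₁ ≫ uW) y (pr₂ ≫ uW) := Iso1.pb h𝒴.1 bW pr₁ rfl hpr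
    let α₃ : Iso1 x (pr₁ ≫ uW) x (pr₂ ≫ k) := α₁.trans (Iso1.pb h𝒳.1 αW pr₂ rfl rfl)
    let β₃ : Iso1 y (pr₁ ≫ uW) y (pr₂ ≫ k) := β₁.trans (Iso1.pb h𝒴.1 bW pr₂ rfl rfl)
    obtain ⟨E, cE, f₁, sqE⟩ := (Functor.relativelyRepresentable.of_diag F.property.diag p) (sec α₃)
    obtain ⟨aE, rfl⟩ := (AlgSp.yon S).map_surjective f₁
    haveI : Etale cE.left := hpe.2 _ _ _ sqE
    haveI : Smooth (cE ≫ pr₂ ≫ k).left := inferInstanceAs (Smooth (cE.left ≫ pr₂.left ≫ k.left))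
    have hE : (AlgSp.yon S).map aE ≫ sec αW = (AlgSp.yon S).map cE ≫ sec α₃ := by rw [hαW]; exact sqE.w
    obtain ⟨hs₃, ht₃, -⟩ := sec_eq αW α₃ aE cE hE
    have h1 : Iso1.pb h𝒴.1 bW aE (g' := cE ≫ pr₁ ≫ uW) (t' := cE ≫ pr₂ ≫ k) hs₃ ht₃ =
        Iso1.pb h𝒴.1 β₃ cE rfl rfl := hR E _ _ inferInstance _ _
    obtain ⟨e₁, e₁'⟩ := facEq' _ hm₁
    obtain ⟨e₂, e₂'⟩ := facEq' _ hm₂
    let n₃ : T' ⟶ pullback k uW := pullback.lift m₁ m₂ (e₁'.trans e₂.symm)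
    have hn₁ : n₃ ≫ pr₁ = m₁ := pullback.lift_fst _ _ _
    have hn₂ : n₃ ≫ pr₂ = m₂ := pullback.lift_snd _ _ _
    have q₁ : n₃ ≫ pr₁ ≫ uW = g ≫ r := by rw [← Category.assoc, hn₁, e₁]
    have q₂ : n₃ ≫ pr₂ ≫ uW = g ≫ s := by rw [← Category.assoc, hn₂, e₂]
    have q₃ : n₃ ≫ pr₂ ≫ k = g ≫ t := by rw [← Category.assoc, hn₂, e₂']
    have hlift : (AlgSp.yon S).map m ≫ p = (AlgSp.yon S).map n₃ ≫ sec α₃ := by
      rw [hm, sec_pb (a.trans b) g rfl rfl, sec_pb α₃ n₃ q₁ q₃]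
      refine congrArg sec ?_
      have k₁ : Iso1.pb h𝒳.1 αW m₁ (g' := g ≫ r) (t' := g ≫ s) e₁ e₁' = Iso1.pb h𝒳.1 a g rfl rfl := by
        obtain ⟨_, _, h⟩ := sec_eq αW a m₁ g (by rw [hαW]; exact hm₁)
        exact h
      have k₂ : Iso1.pb h𝒳.1 αW m₂ (g' := g ≫ s) (t' := g ≫ t) e₂ e₂' = Iso1.pb h𝒳.1 b g rfl rfl := by
        obtain ⟨_, _, h⟩ := sec_eq αW b m₂ g (by rw [hαW]; exact hm₂)
        exact h
      simp only [α₃, α₁]
      rw [Iso1.pb_trans h𝒳.1 a b g rfl rfl rfl, Iso1.pb_trans h𝒳.1 _ _ n₃ q₁ q₂ q₃, Iso1.pb_pb, Iso1.pb_pb,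
        Iso1.pb_congr h𝒳.1 αW hn₁, Iso1.pb_congr h𝒳.1 αW hn₂, k₁, k₂]
    obtain ⟨n, hn⟩ := (AlgSp.yon S).map_surjective (sqE.lift ((AlgSp.yon S).map m) ((AlgSp.yon S).map n₃) hlift)
    have hna : n ≫ aE = m := (AlgSp.yon S).map_injective (by rw [Functor.map_comp, hn, IsPullback.lift_fst])
    have hnc : n ≫ cE = n₃ := (AlgSp.yon S).map_injective (by rw [Functor.map_comp, hn, IsPullback.lift_snd])
    have h2 := congrArg (fun w => Iso1.pb h𝒴.1 w n (g' := g ≫ r) (t' := g ≫ t)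
      (by rw [← Category.assoc, hnc, q₁]) (by rw [← Category.assoc, hnc, q₃])) h1
    simp only [Iso1.pb_pb] at h2
    rw [Iso1.pb_congr h𝒴.1 bW hna, Iso1.pb_congr h𝒴.1 β₃ hnc] at h2
    refine h2.trans ?_
    simp only [β₃, β₁]
    rw [Iso1.pb_trans h𝒴.1 _ _ n₃ q₁ q₂ q₃, Iso1.pb_pb, Iso1.pb_pb, Iso1.pb_congr h𝒴.1 bW hn₁,
      Iso1.pb_congr h𝒴.1 bW hn₂]

end Groth.Agent.IsoNat5
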