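import Groth.Agent.Lib.IsoNat5.AutIso
import Groth.Agent.Lib.IsoNat5.HomCorr

/-!
The correspondence of automorphisms commutes with pullback.
-/

universe u

open CategoryTheory CategoryTheory.Functor CategoryTheory.Limits AlgebraicGeometry Opposite

set_option linter.style.haveILetI false
set_option linter.unusedSectionVars false
set_option backward.isDefEq.respectTransparency false
set_option backward.isDefEq.respectTransparency.types false

namespace Groth.Agent.IsoNat5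

open Groth.Agent.FC16 Groth.Agent.StAlg Groth.Agent.StAlg16 AlgSt

variable {S : Scheme.{u}} {𝒳 𝒴 : AlgSt.Cat S}

namespace Iso1

section Down

variable {U V W W' T T' : Over S} {X : FibCat.overCat U ⥤ᵇ 𝒳} {Y : FibCat.overCat V ⥤ᵇ 𝒳} {g : T ⟶ W}
  {h : T ⟶ W'} {s : W ⟶ U} {t : W' ⟶ V}

/-- pullbacks of charts evaluated -/
noncomputable def down (a : Iso1 (BasedFunctor.comp (AlgSt.overMap s) X) g (BasedFunctor.comp (AlgSt.overMap t) Y) h) :
    Iso1 X (g ≫ s) Y (h ≫ t) := ⟨a.iso, a.lift⟩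

/-- inverse to `down` -/
noncomputable def up (a : Iso1 X (g ≫ s) Y (h ≫ t)) :
    Iso1 (BasedFunctor.comp (AlgSt.overMap s) X) g (BasedFunctor.comp (AlgSt.overMap t) Y) h := ⟨a.iso, a.lift⟩

/-- a pullback chart on the right evaluated -/
noncomputable def downR {g : T ⟶ U} (a : Iso1 X g (BasedFunctor.comp (AlgSt.overMap t) Y) h) :
    Iso1 X g Y (h ≫ t) := ⟨a.iso, a.lift⟩

/-- inverse to `downR` -/
noncomputable def upR {g : T ⟶ U} (a : Iso1 X g Y (h ≫ t)) :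
    Iso1 X g (BasedFunctor.comp (AlgSt.overMap t) Y) h := ⟨a.iso, a.lift⟩

theorem down_injective : Function.Injective (down (X := X) (Y := Y) (g := g) (h := h) (s := s) (t := t)) :=
  fun a b e => by
    have h := congrArg Iso1.iso e
    exact Iso1.ext h

theorem downR_injective {g : T ⟶ U} : Function.Injective (downR (X := X) (Y := Y) (g := g) (h := h) (t := t)) :=
  fun a b e => by
    have h := congrArg Iso1.iso e
    exact Iso1.ext h

theorem down_up (a : Iso1 X (g ≫ s) Y (h ≫ t)) : down (up a) = a := rfl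

theorem downR_upR {g : T ⟶ U} (a : Iso1 X g Y (h ≫ t)) : downR (upR a) = a := rfl

theorem pb_down (gX : FibCat.IsFibGrpd 𝒳.p)
    (a : Iso1 (BasedFunctor.comp (AlgSt.overMap s) X) g (BasedFunctor.comp (AlgSt.overMap t) Y) h)
    (f : T' ⟶ T) {g' : T' ⟶ W} {h' : T' ⟶ W'} (hg : f ≫ g = g') (hh : f ≫ h = h') :
    pb gX (down a) f (g' := g' ≫ s) (t' := h' ≫ t) (by rw [← hg, Category.assoc]) (by rw [← hh, Category.assoc]) =
      down (pb gX a f hg hh) :=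
  pb_unique gX _ (pb_spec gX a f hg hh)

theorem pb_downR (gX : FibCat.IsFibGrpd 𝒳.p) {g : T ⟶ U}
    (a : Iso1 X g (BasedFunctor.comp (AlgSt.overMap t) Y) h) (f : T' ⟶ T) {g' : T' ⟶ U} {h' : T' ⟶ W'}
    (hg : f ≫ g = g') (hh : f ≫ h = h') :
    pb gX (downR a) f (g' := g') (t' := h' ≫ t) hg (by rw [← hh, Category.assoc]) = downR (pb gX a f hg hh) :=
  pb_unique gX _ (pb_spec gX a f hg hh)

theorem downR_trans {g : T ⟶ U} {s' : W' ⟶ V} {k : T ⟶ W'}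
    (a : Iso1 X g (BasedFunctor.comp (AlgSt.overMap t) Y) h)
    (b : Iso1 (BasedFunctor.comp (AlgSt.overMap t) Y) h (BasedFunctor.comp (AlgSt.overMap s') Y) k) :
    downR (a.trans b) = (downR a).trans (down b) := rfl

theorem down_trans {Z : FibCat.overCat V ⥤ᵇ 𝒳} {k : T ⟶ W'}
    (a : Iso1 (BasedFunctor.comp (AlgSt.overMap s) X) g (BasedFunctor.comp (AlgSt.overMap t) Y) h)
    (b : Iso1 (BasedFunctor.comp (AlgSt.overMap t) Y) h (BasedFunctor.comp (AlgSt.overMap t) Z) k) :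
    down (a.trans b) = (down a).trans (down b) := rfl

theorem down_refl : down (refl (BasedFunctor.comp (AlgSt.overMap s) X) g) = refl X (g ≫ s) := rfl

end Down

variable {U T : Over S} {x : FibCat.overCat U ⥤ᵇ 𝒳}

/-- automorphisms of a pullback as automorphisms of the pulled back chart -/
noncomputable def toT (gX : FibCat.IsFibGrpd 𝒳.p) (s : T ⟶ U) :
    Iso1 x s x s ≃ Iso1 (BasedFunctor.comp (AlgSt.overMap s) x) (𝟙 T) (BasedFunctor.comp (AlgSt.overMap s) x) (𝟙 T) where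
  toFun a := up (pb gX a (𝟙 T) (g' := 𝟙 T ≫ s) (t' := 𝟙 T ≫ s) rfl rfl)
  invFun b := pb gX (down b) (𝟙 T) (g' := s) (t' := s) (by simp) (by simp)
  left_inv a := by
    dsimp only
    rw [down_up, pb_pb, pb_congr gX a (Category.id_comp (𝟙 T))]
    exact pb_id gX a
  right_inv b := down_injective (by
    dsimp only
    rw [down_up, pb_pb, pb_congr gX (down b) (Category.id_comp (𝟙 T))]
    exact pb_id gX _)

theorem down_toT (gX : FibCat.IsFibGrpd 𝒳.p) (s : T ⟶ U) (a : Iso1 x s x s) :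
    down (toT gX s a) = pb gX a (𝟙 T) (g' := 𝟙 T ≫ s) (t' := 𝟙 T ≫ s) rfl rfl := rfl

theorem toT_trans (gX : FibCat.IsFibGrpd 𝒳.p) (s : T ⟶ U) (a b : Iso1 x s x s) :
    toT gX s (a.trans b) = (toT gX s a).trans (toT gX s b) := down_injective (by
  rw [down_toT, down_trans, down_toT, down_toT]
  exact pb_trans gX a b (𝟙 T) rfl rfl rfl)

end Iso1

theorem pbComm_comp {U W : Over S} {x : FibCat.overCat U ⥤ᵇ 𝒳} (hx : PbComm x) (s : W ⟶ U) :
    PbComm (BasedFunctor.comp (AlgSt.overMap s) x) := fun T f a b => Iso1.down_injective (by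
  rw [Iso1.down_trans, Iso1.down_trans]
  exact hx T (f ≫ s) _ _)

namespace NodeSys

variable {T T' U : Over S} {N : NodeSys T} {N' : NodeSys T'} {x : FibCat.overCat U ⥤ᵇ 𝒳}
  {y : FibCat.overCat U ⥤ᵇ 𝒴}

/-- a map of node systems over a map of bases -/
structure Map (N' : NodeSys T') (N : NodeSys T) (f : T' ⟶ T) where
  /-- on the nodes -/
  fQ : N'.Q ⟶ N.Q
  /-- on the punctured nodes -/
  fP : N'.P ⟶ N.P
  /-- on the first punctured lines -/
  fA : N'.Ga ⟶ N.Ga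
  /-- on the second punctured lines -/
  fB : N'.Gb ⟶ N.Gb
  hq : fP ≫ N.q = N'.q ≫ fQ
  hp : fQ ≫ N.pQ = N'.pQ ≫ f
  ha : fA ≫ N.ma = N'.ma ≫ fP
  hb : fB ≫ N.mb = N'.mb ≫ fP

namespace Map

variable {f : T' ⟶ T} (M : Map N' N f)

theorem ha' : N'.qa ≫ N'.la ≫ N'.pQ ≫ f = M.fA ≫ N.qa ≫ N.la ≫ N.pQ := by
  rw [← reassoc_of% N'.sqa, ← M.hp, ← reassoc_of% M.hq, ← reassoc_of% M.ha, N.ma_p]

theorem hb' : N'.qb ≫ N'.lb ≫ N'.pQ ≫ f = M.fB ≫ N.qb ≫ N.lb ≫ N.pQ := by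
  rw [← reassoc_of% N'.sqb, ← M.hp, ← reassoc_of% M.hq, ← reassoc_of% M.hb, N.mb_p]

theorem cond : N'.q ≫ M.fQ ≫ j₁ N.q = N'.q ≫ M.fQ ≫ j₂ N.q := by
  rw [← reassoc_of% M.hq, ← reassoc_of% M.hq, q_j]

/-- on the doubles -/
noncomputable def fD : N'.D ⟶ N.D := dblDesc N'.q (M.fQ ≫ j₁ N.q) (M.fQ ≫ j₂ N.q) M.cond

theorem j₁_fD : j₁ N'.q ≫ M.fD = M.fQ ≫ j₁ N.q := j₁_desc _ _ _ _

theorem j₂_fD : j₂ N'.q ≫ M.fD = M.fQ ≫ j₂ N.q := j₂_desc _ _ _ _

include M in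
theorem tw_pb (gX : FibCat.IsFibGrpd 𝒳.p) {s : T ⟶ U} {s' : T' ⟶ U} (hs : f ≫ s = s')
    {C : FibCat.overCat N.D ⥤ᵇ 𝒳} {a : Iso1 x s x s} (h : N.Tw gX C (𝟙 _) (Iso1.toT gX s a)) :
    N'.Tw gX C M.fD (Iso1.toT gX s' (Iso1.pb gX a f hs hs)) := by
  obtain ⟨e₁, e₂, α, ⟨hαa, hαb⟩, he⟩ := h
  have hQ : M.fQ ≫ N.pQ ≫ s = N'.pQ ≫ s' := by rw [reassoc_of% M.hp, hs]
  have hP : M.fP ≫ (N.q ≫ N.pQ) ≫ s = (N'.q ≫ N'.pQ) ≫ s' := by
    rw [Category.assoc, reassoc_of% M.hq, hQ, Category.assoc]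
  have hd₁ : M.fQ ≫ j₁ N.q ≫ 𝟙 N.D = j₁ N'.q ≫ M.fD := by rw [Category.comp_id, j₁_fD]
  have hd₂ : M.fQ ≫ j₂ N.q ≫ 𝟙 N.D = j₂ N'.q ≫ M.fD := by rw [Category.comp_id, j₂_fD]
  refine ⟨Iso1.upR (Iso1.pb gX (Iso1.downR e₁) M.fQ hd₁ hQ), Iso1.upR (Iso1.pb gX (Iso1.downR e₂) M.fQ hd₂ hQ),
    Iso1.up (Iso1.pb gX (Iso1.down α) M.fP hP hP), ⟨?_, ?_⟩, ?_⟩
  · apply Iso1.down_injective
    rw [← Iso1.pb_down gX, ← Iso1.pb_down gX, Iso1.down_up, Iso1.down_toT]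
    have h1 := congrArg Iso1.down hαa
    rw [← Iso1.pb_down gX, ← Iso1.pb_down gX, Iso1.down_toT] at h1
    have ht : M.fA ≫ (N.qa ≫ N.la ≫ N.pQ) ≫ s = (N'.qa ≫ N'.la ≫ N'.pQ) ≫ s' := by
      simp only [Category.assoc]
      rw [← reassoc_of% M.ha', hs]
    have h2 := congrArg (fun w => Iso1.pb gX w M.fA (g' := (N'.qa ≫ N'.la ≫ N'.pQ) ≫ s')
      (t' := (N'.qa ≫ N'.la ≫ N'.pQ) ≫ s') ht ht) h1
    simp only [Iso1.pb_pb] at h2 ⊢
    refine (Iso1.pb_congr gX (Iso1.down α) M.ha.symm _ _).trans (h2.trans (Iso1.pb_congr gX a ?_ _ _))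
    simp only [Category.comp_id, Category.assoc]
    exact M.ha'.symm
  · apply Iso1.down_injective
    rw [← Iso1.pb_down gX, Iso1.down_up, Iso1.down_refl]
    have h1 := congrArg Iso1.down hαb
    rw [← Iso1.pb_down gX, Iso1.down_refl] at h1
    have ht : M.fB ≫ (N.qb ≫ N.lb ≫ N.pQ) ≫ s = (N'.qb ≫ N'.lb ≫ N'.pQ) ≫ s' := by
      simp only [Category.assoc]
      rw [← reassoc_of% M.hb', hs]
    have h2 := congrArg (fun w => Iso1.pb gX w M.fB (g' := (N'.qb ≫ N'.lb ≫ N'.pQ) ≫ s')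
      (t' := (N'.qb ≫ N'.lb ≫ N'.pQ) ≫ s') ht ht) h1
    simp only [Iso1.pb_pb, Iso1.pb_refl] at h2 ⊢
    exact (Iso1.pb_congr gX (Iso1.down α) M.hb.symm _ _).trans h2
  · apply Iso1.downR_injective
    rw [Iso1.downR_trans, ← Iso1.pb_downR gX, ← Iso1.pb_downR gX, Iso1.downR_upR, Iso1.downR_upR, Iso1.down_up]
    have h1 := congrArg Iso1.downR he
    rw [Iso1.downR_trans, ← Iso1.pb_downR gX, ← Iso1.pb_downR gX] at h1
    have hg : M.fP ≫ N.q ≫ j₁ N.q ≫ 𝟙 N.D = N'.q ≫ j₁ N'.q ≫ M.fD := by rw [reassoc_of% M.hq, hd₁]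
    have h2 := congrArg (fun w => Iso1.pb gX w M.fP (g' := N'.q ≫ j₁ N'.q ≫ M.fD) (t' := (N'.q ≫ N'.pQ) ≫ s')
      hg hP) h1
    rw [Iso1.pb_trans gX _ (Iso1.down α) M.fP (ht := hP)] at h2
    simp only [Iso1.pb_pb] at h2 ⊢
    rw [Iso1.pb_congr gX (Iso1.downR e₁) M.hq, Iso1.pb_congr gX (Iso1.downR e₂) M.hq] at h2
    exact h2

end Map

theorem corr_pb {h𝒳 : Stk.IsStack (QuotSh.J Scheme.fppfPrecoverage S) 𝒳}
    {h𝒴 : Stk.IsStack (QuotSh.J Scheme.fppfPrecoverage S) 𝒴} (φ : IsoNat.FIso 𝒳 𝒴) {f : T' ⟶ T} (M : Map N' N f)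
    {s : T ⟶ U} {s' : T' ⟶ U} (hs : f ≫ s = s') {a : Iso1 x s x s} {b : Iso1 y s y s}
    (h : N.Corr h𝒳.1 h𝒴.1 φ (Iso1.toT h𝒳.1 s a) (Iso1.toT h𝒴.1 s b)) :
    N'.Corr h𝒳.1 h𝒴.1 φ (Iso1.toT h𝒳.1 s' (Iso1.pb h𝒳.1 a f hs hs))
      (Iso1.toT h𝒴.1 s' (Iso1.pb h𝒴.1 b f hs hs)) := by
  obtain ⟨η, η', t₁, t₂, c⟩ := h
  exact N'.corr_of_tw (h𝒳 := h𝒳) (h𝒴 := h𝒴) c (M.tw_pb h𝒳.1 hs t₁) (M.tw_pb h𝒴.1 hs t₂)

end NodeSys

section NodeT

variable {T T' : Over S} (f : T' ⟶ T)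

/-- base change of the product with an affine scheme -/
noncomputable def prodMap (R : Type u) [CommRing R] : prodR T' R ⟶ prodR T R := liftR (prR T' R ≫ f) (sndR T' R)

theorem prodMap_mapR {R R' : Type u} [CommRing R] [CommRing R'] (e : R →+* R') :
    prodMap f R' ≫ mapR T e = mapR T' e ≫ prodMap f R := by
  refine prodR_ext (by simp [prodMap]) ?_
  rw [Over.comp_left, Category.assoc, mapR_snd, Over.comp_left, Category.assoc]
  simp only [prodMap, liftR_snd_assoc, liftR_snd, mapR_snd]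

/-- the map of nodes -/
theorem nonempty_nodeMap : Nonempty ((nodeSys T').Map (nodeSys T) f) := by
  let fQ := prodMap f Nd.{u}
  have hr : Set.range ((puncOpen T').ι ≫ fQ.left) ⊆ Set.range (puncOpen T).ι := by
    rw [Scheme.Opens.range_ι]
    rintro _ ⟨v, rfl⟩
    show sndR T Nd.{u} (fQ.left ((puncOpen T').ι v)) ∈
      (PrimeSpectrum.basicOpen xN.{u} ⊔ PrimeSpectrum.basicOpen yN.{u} : TopologicalSpace.Opens (PrimeSpectrum Nd.{u}))
    rw [← Scheme.Hom.comp_apply, show fQ.left ≫ sndR T Nd.{u} = sndR T' Nd.{u} from liftR_snd _ _]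
    exact v.2
  let fP : openPart (puncOpen T') ⟶ openPart (puncOpen T) :=
    Over.homMk (IsOpenImmersion.lift (puncOpen T).ι _ hr) (by
      show _ ≫ (puncOpen T).ι ≫ _ = _
      rw [IsOpenImmersion.lift_fac_assoc, Category.assoc, Over.w fQ]
      rfl)
  have hP : fP ≫ openIncl (puncOpen T) = openIncl (puncOpen T') ≫ fQ :=
    Over.OverMorphism.ext (IsOpenImmersion.lift_fac _ _ _)
  haveI : IsOpenImmersion (openIncl (puncOpen T)).left := inferInstanceAs (IsOpenImmersion (puncOpen T).ι)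
  haveI : Mono (openIncl (puncOpen T)) := Over.mono_of_mono_left _
  exact ⟨{ fQ := fQ, fP := fP, fA := prodMap f LP.{u}, fB := prodMap f LP.{u}
           hq := hP
           hp := liftR_pr _ _
           ha := by
             show prodMap f LP.{u} ≫ pieceA T = pieceA T' ≫ fP
             rw [← cancel_mono (openIncl (puncOpen T)), Category.assoc, Category.assoc, pieceA_incl, hP,
               reassoc_of% pieceA_incl, prodMap_mapR]
           hb := by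
             show prodMap f LP.{u} ≫ pieceB T = pieceB T' ≫ fP
             rw [← cancel_mono (openIncl (puncOpen T)), Category.assoc, Category.assoc, pieceB_incl, hP,
               reassoc_of% pieceB_incl, prodMap_mapR] }⟩

end NodeT

end Groth.Agent.IsoNat5
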