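import Groth.Agent.Lib.IsoNat5.Descent
import Groth.Agent.Lib.IsoNat5.Iso1

/-!
The scheme obtained by doubling along an open subscheme, and gluing of objects of a stack on it.
-/

universe u

open CategoryTheory CategoryTheory.Functor CategoryTheory.Limits AlgebraicGeometry Opposite

set_option linter.style.haveILetI false
set_option linter.unusedSectionVars false
set_option backward.isDefEq.respectTransparency false
set_option backward.isDefEq.respectTransparency.types false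

namespace Groth.Agent.IsoNat5

open Groth.Agent.FC16 Groth.Agent.StAlg Groth.Agent.StAlg16 AlgSt

variable {S : Scheme.{u}} {P Q : Over S} (q : P ⟶ Q) [IsOpenImmersion q.left]

/-- two copies of `Q` glued along `P` -/
noncomputable def dbl : Over S :=
  Over.mk (pushout.desc Q.hom Q.hom rfl : pushout q.left q.left ⟶ S)

/-- the first copy -/
noncomputable def j₁ : Q ⟶ dbl q := Over.homMk (pushout.inl q.left q.left) (pushout.inl_desc _ _ _)

/-- the second copy -/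
noncomputable def j₂ : Q ⟶ dbl q := Over.homMk (pushout.inr q.left q.left) (pushout.inr_desc _ _ _)

theorem q_j : q ≫ j₁ q = q ≫ j₂ q := Over.OverMorphism.ext pushout.condition

/-- the map out of the double -/
noncomputable def dblDesc {V : Over S} (a b : Q ⟶ V) (h : q ≫ a = q ≫ b) : dbl q ⟶ V :=
  Over.homMk (pushout.desc a.left b.left (congrArg (fun t => t.left) h)) (by
    apply pushout.hom_ext
    · rw [pushout.inl_desc_assoc]; exact (Over.w a).trans (pushout.inl_desc _ _ _).symm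
    · rw [pushout.inr_desc_assoc]; exact (Over.w b).trans (pushout.inr_desc _ _ _).symm)

@[reassoc]
theorem j₁_desc {V : Over S} (a b : Q ⟶ V) (h : q ≫ a = q ≫ b) : j₁ q ≫ dblDesc q a b h = a :=
  Over.OverMorphism.ext (pushout.inl_desc _ _ _)

@[reassoc]
theorem j₂_desc {V : Over S} (a b : Q ⟶ V) (h : q ≫ a = q ≫ b) : j₂ q ≫ dblDesc q a b h = b :=
  Over.OverMorphism.ext (pushout.inr_desc _ _ _)

instance isOpenImmersion_j₁ : IsOpenImmersion (j₁ q).left :=
  inferInstanceAs (IsOpenImmersion (colimit.ι (span q.left q.left) WalkingSpan.left))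

instance isOpenImmersion_j₂ : IsOpenImmersion (j₂ q).left :=
  inferInstanceAs (IsOpenImmersion (colimit.ι (span q.left q.left) WalkingSpan.right))

instance : Mono (j₁ q) := Over.mono_of_mono_left _
instance : Mono (j₂ q) := Over.mono_of_mono_left _

theorem dbl_cases (x : ↥(dbl q).left) : (∃ a, (j₁ q).left a = x) ∨ ∃ a, (j₂ q).left a = x := by
  obtain ⟨i, xi, hx⟩ := Scheme.IsLocallyDirected.ι_jointly_surjective (span q.left q.left) x
  rcases i with _ | (_ | _)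
  · left
    refine ⟨q.left xi, ?_⟩
    rw [← hx]
    exact congrArg (fun t : P.left ⟶ pushout q.left q.left => t xi) (colimit.w (span q.left q.left) WalkingSpan.Hom.fst)
  · exact Or.inl ⟨xi, hx⟩
  · exact Or.inr ⟨xi, hx⟩

theorem mem_range_of_eq {a b : ↥Q.left} (h : (j₁ q).left a = (j₂ q).left b) : a ∈ Set.range q.left := by
  obtain ⟨k, fi, fj, x, hxa, -⟩ := (Scheme.IsLocallyDirected.ι_eq_ι_iff (span q.left q.left)
    (i := WalkingSpan.left) (j := WalkingSpan.right)).1 h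
  cases fi with
  | id => cases fj
  | init => exact ⟨x, hxa⟩

/-- the overlap of the two copies -/
theorem exists_overlap {T : Over S} (u v : T ⟶ Q) (h : u ≫ j₁ q = v ≫ j₂ q) :
    ∃ l : T ⟶ P, l ≫ q = u ∧ l ≫ q = v := by
  have hr : Set.range u.left ⊆ Set.range q.left := by
    rintro _ ⟨t, rfl⟩
    exact mem_range_of_eq q (congrArg (fun w : T ⟶ dbl q => w.left t) h)
  let l : T ⟶ P := Over.homMk (IsOpenImmersion.lift q.left u.left hr) (by
    rw [← Over.w q, ← Category.assoc, IsOpenImmersion.lift_fac]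
    exact Over.w u)
  have hl : l ≫ q = u := Over.OverMorphism.ext (IsOpenImmersion.lift_fac _ _ _)
  refine ⟨l, hl, ?_⟩
  rw [← cancel_mono (j₂ q), Category.assoc, ← q_j, ← Category.assoc, hl, h]

/-- through the first copy -/
def T₁ (z : Over (dbl q)) : Prop := ∃ u : z.left ⟶ Q, u ≫ j₁ q = z.hom

/-- through the second copy -/
def T₂ (z : Over (dbl q)) : Prop := ∃ u : z.left ⟶ Q, u ≫ j₂ q = z.hom

theorem down₁ : Down (T₁ q) := fun a b φ ⟨u, hu⟩ => ⟨φ.left ≫ u, by rw [Category.assoc, hu, Over.w φ]⟩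

theorem down₂ : Down (T₂ q) := fun a b φ ⟨u, hu⟩ => ⟨φ.left ≫ u, by rw [Category.assoc, hu, Over.w φ]⟩

theorem mem_J_dbl :
    twoSieve (T₁ q) (T₂ q) (down₁ q) (down₂ q) ∈ QuotSh.J Scheme.fppfPrecoverage S (dbl q) := by
  let π : ULift.{u} Bool → (Q ⟶ dbl q) := fun b => if b.down then j₁ q else j₂ q
  refine GrothendieckTopology.superset_covering _ ?_ (AlgSpace.mem_J_of_openImmersions (κ := ULift.{u} Bool)
    (T' := fun _ => Q) π (fun b => ?_) fun t => ?_)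
  · rintro W _ ⟨_, g, _, ⟨b⟩, rfl⟩
    rcases b with ⟨_ | _⟩
    · exact Or.inr ⟨g, rfl⟩
    · exact Or.inl ⟨g, rfl⟩
  · rcases b with ⟨_ | _⟩
    · exact isOpenImmersion_j₂ q
    · exact isOpenImmersion_j₁ q
  · rcases dbl_cases q t with ⟨a, ha⟩ | ⟨a, ha⟩
    · exact ⟨⟨true⟩, a, ha⟩
    · exact ⟨⟨false⟩, a, ha⟩

variable {𝒳 : AlgSt.Cat S} {A B : Over S} {X : FibCat.overCat A ⥤ᵇ 𝒳} {Y : FibCat.overCat B ⥤ᵇ 𝒳}

/-- isomorphisms on the two copies agreeing on the overlap glue -/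
theorem exists_iso1_dbl (h𝒳 : Stk.IsStack (QuotSh.J Scheme.fppfPrecoverage S) 𝒳) (g : dbl q ⟶ A) (t : dbl q ⟶ B)
    (e₁ : Iso1 X (j₁ q ≫ g) Y (j₁ q ≫ t)) (e₂ : Iso1 X (j₂ q ≫ g) Y (j₂ q ≫ t))
    (hP : Iso1.pb h𝒳.1 e₁ q rfl rfl =
      Iso1.pb h𝒳.1 e₂ q (by rw [← Category.assoc, ← q_j, Category.assoc]) (by rw [← Category.assoc, ← q_j, Category.assoc])) :
    Nonempty (Iso1 X g Y t) := by
  choose u hu using fun (z : Over (dbl q)) (h : T₁ q z) => h
  choose v hv using fun (z : Over (dbl q)) (h : T₂ q z) => h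
  let X' := BasedFunctor.comp (AlgSt.overMap g) X
  let Y' := BasedFunctor.comp (AlgSt.overMap t) Y
  let p₁ : ∀ (z : Over (dbl q)) (h : T₁ q z), Iso1 X (z.hom ≫ g) Y (z.hom ≫ t) := fun z h =>
    Iso1.pb h𝒳.1 e₁ (u z h) (by rw [← Category.assoc, hu]) (by rw [← Category.assoc, hu])
  let p₂ : ∀ (z : Over (dbl q)) (h : T₂ q z), Iso1 X (z.hom ≫ g) Y (z.hom ≫ t) := fun z h =>
    Iso1.pb h𝒳.1 e₂ (v z h) (by rw [← Category.assoc, hv]) (by rw [← Category.assoc, hv])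
  let Ea : LIso (T₁ q) X' Y' :=
    { app := fun z h => (p₁ z h).iso
      lift := fun z h => (p₁ z h).lift
      nat := fun {z z'} φ h h' => by
        have e : u z h = φ.left ≫ u z' h' := by
          rw [← cancel_mono (j₁ q), hu, Category.assoc, hu]; exact (Over.w φ).symm
        have key : Iso1.pb h𝒳.1 (p₁ z' h') φ.left (g' := z.hom ≫ g) (t' := z.hom ≫ t)
            (by rw [← Category.assoc, Over.w φ]) (by rw [← Category.assoc, Over.w φ]) = p₁ z h := by
          rw [Iso1.pb_pb]; exact (Iso1.pb_congr h𝒳.1 e₁ e.symm _ _)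
        have h2 := Iso1.pb_spec h𝒳.1 (p₁ z' h') φ.left (g' := z.hom ≫ g) (t' := z.hom ≫ t)
            (by rw [← Category.assoc, Over.w φ]) (by rw [← Category.assoc, Over.w φ])
        rw [key] at h2
        exact h2.symm }
  let Eb : LIso (T₂ q) X' Y' :=
    { app := fun z h => (p₂ z h).iso
      lift := fun z h => (p₂ z h).lift
      nat := fun {z z'} φ h h' => by
        have e : v z h = φ.left ≫ v z' h' := by
          rw [← cancel_mono (j₂ q), hv, Category.assoc, hv]; exact (Over.w φ).symm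
        have key : Iso1.pb h𝒳.1 (p₂ z' h') φ.left (g' := z.hom ≫ g) (t' := z.hom ≫ t)
            (by rw [← Category.assoc, Over.w φ]) (by rw [← Category.assoc, Over.w φ]) = p₂ z h := by
          rw [Iso1.pb_pb]; exact (Iso1.pb_congr h𝒳.1 e₂ e.symm _ _)
        have h2 := Iso1.pb_spec h𝒳.1 (p₂ z' h') φ.left (g' := z.hom ≫ g) (t' := z.hom ≫ t)
            (by rw [← Category.assoc, Over.w φ]) (by rw [← Category.assoc, Over.w φ])
        rw [key] at h2
        exact h2.symm }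
  obtain ⟨γ⟩ := exists_iso_of_liso h𝒳 (mem_J_dbl q) Ea Eb fun z h₁ h₂ => by
    obtain ⟨l, hl₁, hl₂⟩ := exists_overlap q (u z h₁) (v z h₂) ((hu z h₁).trans (hv z h₂).symm)
    have hg : l ≫ q ≫ j₁ q ≫ g = z.hom ≫ g := by rw [reassoc_of% hl₁, ← hu z h₁, Category.assoc]
    have ht : l ≫ q ≫ j₁ q ≫ t = z.hom ≫ t := by rw [reassoc_of% hl₁, ← hu z h₁, Category.assoc]
    show (p₁ z h₁).iso = (p₂ z h₂).iso
    have h3 := congrArg (fun w => Iso1.pb h𝒳.1 w l (g' := z.hom ≫ g) (t' := z.hom ≫ t) hg ht) hP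
    simp only [Iso1.pb_pb] at h3
    exact congrArg Iso1.iso ((Iso1.pb_congr h𝒳.1 e₁ hl₁.symm _ _).trans
      (h3.trans (Iso1.pb_congr h𝒳.1 e₂ hl₂ _ _)))
  refine ⟨((Iso1.ofEq X (Category.id_comp g).symm).trans ?_).trans (Iso1.ofEq Y (Category.id_comp t))⟩
  exact ⟨appIso γ (Over.mk (𝟙 _)), isHomLift_appIso_hom γ _ rfl⟩

/-- an object twisted by an automorphism on the overlap -/
theorem exists_twist_dbl (h𝒳 : Stk.IsStack (QuotSh.J Scheme.fppfPrecoverage S) 𝒳) (t : dbl q ⟶ B)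
    (a : Iso1 Y (q ≫ j₁ q ≫ t) Y (q ≫ j₁ q ≫ t)) :
    ∃ (η : FibCat.overCat (dbl q) ⥤ᵇ 𝒳) (e₁ : Iso1 η (j₁ q) Y (j₁ q ≫ t)) (e₂ : Iso1 η (j₂ q) Y (j₂ q ≫ t)),
      (Iso1.pb h𝒳.1 e₁ q rfl rfl).trans a =
        Iso1.pb h𝒳.1 e₂ q (q_j q).symm (by rw [← Category.assoc, ← q_j, Category.assoc]) := by
  choose l hl using fun (z : Over (dbl q)) (h : T₁ q z ∧ T₂ q z) =>
    (show ∃ l : z.left ⟶ P, l ≫ q ≫ j₁ q = z.hom from by
      obtain ⟨⟨u, hu⟩, ⟨v, hv⟩⟩ := h
      obtain ⟨l, hl₁, -⟩ := exists_overlap q u v (hu.trans hv.symm)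
      exact ⟨l, by rw [reassoc_of% hl₁, hu]⟩)
  let Y' := BasedFunctor.comp (AlgSt.overMap t) Y
  let α' : ∀ (z : Over (dbl q)) (h : T₁ q z ∧ T₂ q z), Iso1 Y (z.hom ≫ t) Y (z.hom ≫ t) := fun z h =>
    Iso1.pb h𝒳.1 a (l z h) (by rw [← hl z h]; simp only [Category.assoc]) (by rw [← hl z h]; simp only [Category.assoc])
  let α : LIso (fun z => T₁ q z ∧ T₂ q z) Y' Y' :=
    { app := fun z h => (α' z h).iso
      lift := fun z h => (α' z h).lift
      nat := fun {z z'} φ h h' => by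
        haveI : IsOpenImmersion (q ≫ j₁ q).left := inferInstanceAs (IsOpenImmersion (q.left ≫ (j₁ q).left))
        haveI : Mono (q ≫ j₁ q) := Over.mono_of_mono_left _
        have e : l z h = φ.left ≫ l z' h' := by
          rw [← cancel_mono (q ≫ j₁ q), hl, Category.assoc, hl]; exact (Over.w φ).symm
        have key : Iso1.pb h𝒳.1 (α' z' h') φ.left (g' := z.hom ≫ t) (t' := z.hom ≫ t)
            (by rw [← Category.assoc, Over.w φ]) (by rw [← Category.assoc, Over.w φ]) = α' z h := by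
          rw [Iso1.pb_pb]; exact (Iso1.pb_congr h𝒳.1 a e.symm _ _)
        have h2 := Iso1.pb_spec h𝒳.1 (α' z' h') φ.left (g' := z.hom ≫ t) (t' := z.hom ≫ t)
            (by rw [← Category.assoc, Over.w φ]) (by rw [← Category.assoc, Over.w φ])
        rw [key] at h2
        exact h2.symm }
  obtain ⟨η, Ea, Eb, hab⟩ := exists_twist h𝒳 (mem_J_dbl q) Y' α
  have h₁ : T₁ q (Over.mk (j₁ q)) := ⟨𝟙 _, Category.id_comp _⟩
  have h₂ : T₂ q (Over.mk (j₂ q)) := ⟨𝟙 _, Category.id_comp _⟩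
  let e₁ : Iso1 η (j₁ q) Y (j₁ q ≫ t) := ⟨Ea.app _ h₁, Ea.lift _ h₁⟩
  let e₂ : Iso1 η (j₂ q) Y (j₂ q ≫ t) := ⟨Eb.app _ h₂, Eb.lift _ h₂⟩
  refine ⟨η, e₁, e₂, ?_⟩
  let zP : Over (dbl q) := Over.mk (q ≫ j₁ q)
  have hA : T₁ q zP := ⟨q, rfl⟩
  have hB : T₂ q zP := ⟨q, (q_j q).symm⟩
  have k₁ : Iso1.pb h𝒳.1 e₁ q rfl (t' := q ≫ j₁ q ≫ t) rfl = ⟨Ea.app zP hA, by
      exact Ea.lift zP hA⟩ := Iso1.pb_unique h𝒳.1 _ (by
    have := Ea.nat (z := zP) (z' := Over.mk (j₁ q)) (Over.homMk q rfl) hA h₁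
    exact this.symm)
  have k₂ : Iso1.pb h𝒳.1 e₂ q (q_j q).symm (t' := q ≫ j₁ q ≫ t)
      (by rw [← Category.assoc, ← q_j, Category.assoc]) = ⟨Eb.app zP hB, by exact Eb.lift zP hB⟩ :=
    Iso1.pb_unique h𝒳.1 _ (by
      have := Eb.nat (z := zP) (z' := Over.mk (j₂ q)) (Over.homMk q (q_j q).symm) hB h₂
      exact this.symm)
  have hl0 : l zP ⟨hA, hB⟩ = 𝟙 _ := by
    haveI : IsOpenImmersion (q ≫ j₁ q).left := inferInstanceAs (IsOpenImmersion (q.left ≫ (j₁ q).left))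
    haveI : Mono (q ≫ j₁ q) := Over.mono_of_mono_left _
    rw [← cancel_mono (q ≫ j₁ q), hl, Category.id_comp]
    rfl
  have kα : (α' zP ⟨hA, hB⟩) = a := by
    show Iso1.pb h𝒳.1 a _ _ _ = _
    rw [Iso1.pb_congr h𝒳.1 a hl0]
    exact Iso1.pb_id h𝒳.1 a
  rw [k₁, k₂]
  refine Iso1.ext ?_
  show Ea.app zP hA ≪≫ a.iso = Eb.app zP hB
  rw [← hab zP hA hB]
  exact congrArg (fun w => Ea.app zP hA ≪≫ w) (congrArg Iso1.iso kα).symm

end Groth.Agent.IsoNat5
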