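import Groth.Agent.Lib.SchImage14.DenseEtale
import Mathlib.RingTheory.Flat.Basic
import Mathlib.AlgebraicGeometry.Morphisms.Flat
import Mathlib.AlgebraicGeometry.Morphisms.QuasiCompact

/-!
Schematic density of retrocompact opens goes up along flat morphisms.
-/

universe u

set_option backward.isDefEq.respectTransparency.types false

open CategoryTheory AlgebraicGeometry TopologicalSpace Opposite

namespace Groth.Agent.IsoNat5

/-- a finite family with no common torsion stays so in a flat algebra -/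
theorem eq_zero_of_flat {A B : Type u} [CommRing A] [CommRing B] [Algebra A B] [Module.Flat A B]
    {ι : Type u} [Finite ι] (f : ι → A) (H : ∀ (N : ℕ) (x : A), (∀ k, f k ^ N * x = 0) → x = 0)
    (b : B) (hb : ∀ k, ∃ n : ℕ, f k ^ n • b = 0) : b = 0 := by
  classical
  cases nonempty_fintype ι
  choose n hn using hb
  let N := ∑ k, n k
  let φ : A →ₗ[A] ι → A := LinearMap.pi fun k => LinearMap.lsmul A A (f k ^ N)
  have hφ : Function.Injective φ := (injective_iff_map_eq_zero φ).2 fun x hx => H N x fun k => congrFun hx k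
  have h1 := Module.Flat.lTensor_preserves_injective_linearMap (M := B) φ hφ
  let e := TensorProduct.piRight A A B (fun _ : ι => A)
  let r := TensorProduct.rid A B
  have h2 : φ.lTensor B (r.symm b) = 0 := by
    apply e.injective
    funext k
    apply r.injective
    show r (e (φ.lTensor B (b ⊗ₜ[A] 1)) k) = r (e 0 k)
    rw [map_zero, LinearMap.lTensor_tmul]
    show r (e (b ⊗ₜ[A] φ 1) k) = r 0
    rw [map_zero]
    simp only [e, r, φ, TensorProduct.piRight_apply, TensorProduct.piRightHom_tmul, LinearMap.pi_apply,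
      LinearMap.lsmul_apply, smul_eq_mul, mul_one, TensorProduct.rid_tmul]
    rw [show N = (N - n k) + n k from (Nat.sub_add_cancel
      (Finset.single_le_sum (fun j _ => Nat.zero_le (n j)) (Finset.mem_univ k))).symm, pow_add, mul_smul, hn,
      smul_zero]
  have h3 : r.symm b = 0 := h1 (h2.trans (map_zero _).symm)
  simpa using congrArg r h3

/-- schematic density of a retrocompact open goes up along flat morphisms -/
theorem dense_preimage_of_flat {R V : Scheme.{u}} (p : R ⟶ V) [Flat p] {W : V.Opens} [QuasiCompact W.ι]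
    (hW : CInt.IsSchematicallyDense W) : CInt.IsSchematicallyDense (p ⁻¹ᵁ W) := by
  intro R'
  refine (injective_iff_map_eq_zero _).2 fun a ha => ?_
  refine TopCat.Presheaf.section_ext R.sheaf R' _ _ fun x hx => ?_
  obtain ⟨U, hU, hxU, -⟩ := exists_isAffineOpen_mem_and_subset (X := V) (x := p x) (U := ⊤) trivial
  obtain ⟨R₀, hR₀, hxR₀, hle⟩ := exists_isAffineOpen_mem_and_subset (X := R) (x := x)
    (U := R' ⊓ p ⁻¹ᵁ U) ⟨hx, hxU⟩
  have e : R₀ ≤ p ⁻¹ᵁ U := hle.trans inf_le_right
  have hR₀R' : R₀ ≤ R' := hle.trans inf_le_left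
  algebraize [(p.appLE U R₀ e).hom]
  have : Module.Flat Γ(V, U) Γ(R, R₀) := p.flat_appLE hU hR₀ e
  -- finitely many basic opens cover the part over the affine
  have hc : IsCompact ((U : Set V) ∩ W) := by
    have h1 := ((quasiCompact_iff_forall_isAffineOpen (f := W.ι)).1 inferInstance U hU).image W.ι.continuous
    rw [show W.ι '' (W.ι ⁻¹ᵁ U : Set W.toScheme) = (U : Set V) ∩ Set.range W.ι from
      Set.image_preimage_eq_inter_range, Scheme.Opens.range_ι] at h1
    exact h1
  obtain ⟨s, hs⟩ := hc.elim_finite_subcover (fun k : {f : Γ(V, U) // V.basicOpen f ≤ W} => (V.basicOpen k.1 : Set V))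
    (fun k => (V.basicOpen k.1).2) fun y hy => by
      obtain ⟨f, hf, hyf⟩ := hU.exists_basicOpen_le (V := W) ⟨y, hy.2⟩ hy.1
      exact Set.mem_iUnion.2 ⟨⟨f, hf⟩, hyf⟩
  have H : ∀ (N : ℕ) (x : Γ(V, U)), (∀ k : {k // k ∈ s}, k.1.1 ^ N * x = 0) → x = 0 := fun N x hx => by
    apply hW U
    rw [map_zero]
    refine TopCat.Sheaf.eq_of_locally_eq' V.sheaf (fun k : {k // k ∈ s} => V.basicOpen k.1.1) _
      (fun k => homOfLE (le_inf (V.basicOpen_le _) k.1.2)) ?_ _ _ fun k => ?_
    · intro y hy
      obtain ⟨k, hk, hyk⟩ := Set.mem_iUnion₂.1 (hs hy)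
      exact Opens.mem_iSup.2 ⟨⟨k, hk⟩, hyk⟩
    · refine Eq.trans ?_ (map_zero _).symm
      change V.presheaf.map _ (V.presheaf.map _ x) = 0
      rw [← ConcreteCategory.comp_apply, ← Functor.map_comp]
      have := hU.isLocalization_basicOpen k.1.1
      exact (IsLocalization.map_eq_zero_iff (Submonoid.powers k.1.1) Γ(V, V.basicOpen k.1.1) x).2
        ⟨⟨_, N, rfl⟩, hx k⟩
  let b : Γ(R, R₀) := R.presheaf.map (homOfLE hR₀R').op a
  have hb : b = 0 := by
    refine eq_zero_of_flat (fun k : {k // k ∈ s} => k.1.1) H b fun k => ?_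
    let f' : Γ(R, R₀) := algebraMap Γ(V, U) Γ(R, R₀) k.1.1
    have hle' : R.basicOpen f' ≤ R' ⊓ p ⁻¹ᵁ W := by
      refine le_inf ((R.basicOpen_le f').trans hR₀R') ?_
      change R.basicOpen (p.appLE U R₀ e k.1.1) ≤ _
      rw [Scheme.basicOpen_appLE]
      exact inf_le_right.trans (p.preimage_mono k.1.2)
    have := hR₀.isLocalization_basicOpen f'
    obtain ⟨⟨_, n, rfl⟩, hn⟩ :=
      (IsLocalization.map_eq_zero_iff (Submonoid.powers f') Γ(R, R.basicOpen f') b).1 (by
        have := congrArg (R.presheaf.map (homOfLE hle').op) ha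
        rw [map_zero, ← ConcreteCategory.comp_apply, ← Functor.map_comp] at this
        change R.presheaf.map _ (R.presheaf.map _ a) = 0
        rw [← ConcreteCategory.comp_apply, ← Functor.map_comp]
        exact this)
    exact ⟨n, by rw [Algebra.smul_def, map_pow]; exact hn⟩
  refine (R.presheaf.germ_res_apply (homOfLE hR₀R') x hxR₀ a).symm.trans ?_
  exact (congrArg _ hb).trans ((map_zero _).trans (map_zero _).symm)

end Groth.Agent.IsoNat5
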