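import Groth.Agent.Lib.IsoNat5.Points
import Groth.Agent.Lib.StAlg16.OpenCover

/-!
Gluing objects and isomorphisms of a stack along two open pieces.
-/

universe u

open CategoryTheory CategoryTheory.Functor CategoryTheory.Limits AlgebraicGeometry Opposite

set_option linter.style.haveILetI false
set_option linter.unusedSectionVars false
set_option backward.isDefEq.respectTransparency false
set_option backward.isDefEq.respectTransparency.types false

namespace Groth.Agent.IsoNat5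

open Groth.Agent.FC16 Groth.Agent.StAlg Groth.Agent.StAlg16 AlgSt

variable {S : Scheme.{u}} {𝒳 : AlgSt.Cat S} {V : Over S}

/-- a property of objects of a slice stable under precomposition -/
def Down (T : Over V → Prop) : Prop := ∀ ⦃a b : Over V⦄ (_ : a ⟶ b), T b → T a

/-- isomorphisms between the values of `X` and `Y` on the objects with the property `T` -/
structure LIso (T : Over V → Prop) (X Y : FibCat.overCat V ⥤ᵇ 𝒳) where
  /-- the components -/
  app : ∀ z : Over V, T z → (X.obj z ≅ Y.obj z)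
  lift : ∀ z (h : T z), 𝒳.p.IsHomLift (𝟙 z.left) (app z h).hom
  nat : ∀ {z z' : Over V} (φ : z ⟶ z') (h : T z) (h' : T z'), X.map φ ≫ (app z' h').hom = (app z h).hom ≫ Y.map φ

namespace LIso

variable {T T' : Over V → Prop} {X Y Z : FibCat.overCat V ⥤ᵇ 𝒳}

/-- a global isomorphism restricts -/
noncomputable def ofIso (T : Over V → Prop) (e : X ≅ Y) : LIso T X Y where
  app z _ := appIso e z
  lift z _ := isHomLift_appIso_hom e z rfl
  nat φ _ _ := e.hom.toNatTrans.naturality φ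

/-- the inverse -/
noncomputable def symm (α : LIso T X Y) : LIso T Y X where
  app z h := (α.app z h).symm
  lift z h := by
    haveI := α.lift z h
    exact IsHomLift.lift_id_inv 𝒳.p z.left (α.app z h)
  nat φ h h' := by
    show _ ≫ (α.app _ h').inv = (α.app _ h).inv ≫ _
    rw [Iso.eq_inv_comp, ← Category.assoc, Iso.comp_inv_eq, α.nat φ h h']

/-- composition -/
noncomputable def trans (α : LIso T X Y) (β : LIso T Y Z) : LIso T X Z where
  app z h := α.app z h ≪≫ β.app z h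
  lift z h := by
    haveI := α.lift z h
    haveI := β.lift z h
    show 𝒳.p.IsHomLift (𝟙 z.left) ((α.app z h).hom ≫ (β.app z h).hom)
    infer_instance
  nat φ h h' := by
    show _ ≫ (α.app _ h').hom ≫ (β.app _ h').hom = ((α.app _ h).hom ≫ (β.app _ h).hom) ≫ _
    rw [← Category.assoc, α.nat φ h h', Category.assoc, β.nat φ h h', Category.assoc]

/-- weakening the property -/
def res (α : LIso T X Y) (hT : ∀ z, T' z → T z) : LIso T' X Y where
  app z h := α.app z (hT z h)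
  lift z h := α.lift z (hT z h)
  nat φ h h' := α.nat φ _ _

end LIso

/-- the sieve of two properties -/
def twoSieve (Ta Tb : Over V → Prop) (ha : Down Ta) (hb : Down Tb) : Sieve V where
  arrows _ f := Ta (Over.mk f) ∨ Tb (Over.mk f)
  downward_closed {_ _} {f} h g :=
    h.imp (ha (Over.homMk g rfl : Over.mk (g ≫ f) ⟶ Over.mk f))
      (hb (Over.homMk g rfl : Over.mk (g ≫ f) ⟶ Over.mk f))

variable {Ta Tb : Over V → Prop} {ha : Down Ta} {hb : Down Tb}

theorem mem_twoSieve (z : (Stk.sieveCat (twoSieve Ta Tb ha hb)).obj) : Ta z.obj ∨ Tb z.obj := z.property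

/-- isomorphisms on two pieces agreeing on both glue -/
theorem exists_iso_of_liso' (h𝒳 : Stk.IsStack (QuotSh.J Scheme.fppfPrecoverage S) 𝒳)
    (hJ : twoSieve Ta Tb ha hb ∈ QuotSh.J Scheme.fppfPrecoverage S V) {X Y : FibCat.overCat V ⥤ᵇ 𝒳}
    (Ea : LIso Ta X Y) (Eb : LIso Tb X Y) (hab : ∀ z (h₁ : Ta z) (h₂ : Tb z), Ea.app z h₁ = Eb.app z h₂) :
    ∃ β : X ≅ Y, (∀ z (h : Ta z), appIso β z = Ea.app z h) ∧ ∀ z (h : Tb z), appIso β z = Eb.app z h := by
  classical
  let R := twoSieve Ta Tb ha hb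
  haveI : (Stk.resSieve R 𝒳).IsEquivalence := h𝒳.2 R hJ
  let app : ∀ z : (Stk.sieveCat R).obj, X.obj z.obj ≅ Y.obj z.obj := fun z =>
    if h : Ta z.obj then Ea.app _ h else Eb.app _ ((mem_twoSieve z).resolve_left h)
  have ea : ∀ z (h : Ta z.obj), app z = Ea.app _ h := fun z h => dif_pos h
  have eb : ∀ z (h : Tb z.obj), app z = Eb.app _ h := fun z h => by
    by_cases h' : Ta z.obj
    · rw [ea z h', hab _ h' h]
    · exact dif_neg h'
  have hl : ∀ z, 𝒳.p.IsHomLift (𝟙 z.obj.left) (app z).hom := fun z => by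
    rcases mem_twoSieve z with h | h
    · rw [ea z h]; exact Ea.lift _ h
    · rw [eb z h]; exact Eb.lift _ h
  let γ : (Stk.resSieve R 𝒳).obj X ≅ (Stk.resSieve R 𝒳).obj Y :=
    BasedNatIso.mkNatIso (NatIso.ofComponents app fun {z z'} φ => by
      show X.map φ.hom ≫ (app z').hom = (app z).hom ≫ Y.map φ.hom
      rcases mem_twoSieve z' with h | h
      · rw [ea z' h, ea z (ha φ.hom h), Ea.nat φ.hom (ha φ.hom h) h]
      · rw [eb z' h, eb z (hb φ.hom h), Eb.nat φ.hom (hb φ.hom h) h]) hl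
  have hβ : ∀ z : (Stk.sieveCat R).obj, appIso ((Stk.resSieve R 𝒳).preimageIso γ) z.obj = app z := fun z =>
    Iso.ext (congrArg (fun δ => δ.toNatTrans.app z) ((Stk.resSieve R 𝒳).map_preimage γ.hom))
  exact ⟨(Stk.resSieve R 𝒳).preimageIso γ, fun z h => (hβ ⟨z, Or.inl h⟩).trans (ea ⟨z, Or.inl h⟩ h),
    fun z h => (hβ ⟨z, Or.inr h⟩).trans (eb ⟨z, Or.inr h⟩ h)⟩

/-- isomorphisms on two pieces agreeing on both glue -/
theorem exists_iso_of_liso (h𝒳 : Stk.IsStack (QuotSh.J Scheme.fppfPrecoverage S) 𝒳)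
    (hJ : twoSieve Ta Tb ha hb ∈ QuotSh.J Scheme.fppfPrecoverage S V) {X Y : FibCat.overCat V ⥤ᵇ 𝒳}
    (Ea : LIso Ta X Y) (Eb : LIso Tb X Y) (hab : ∀ z (h₁ : Ta z) (h₂ : Tb z), Ea.app z h₁ = Eb.app z h₂) :
    Nonempty (X ≅ Y) :=
  (exists_iso_of_liso' h𝒳 hJ Ea Eb hab).nonempty

/-- an object twisted by an automorphism on the intersection of two pieces -/
theorem exists_twist (h𝒳 : Stk.IsStack (QuotSh.J Scheme.fppfPrecoverage S) 𝒳)
    (hJ : twoSieve Ta Tb ha hb ∈ QuotSh.J Scheme.fppfPrecoverage S V) (Y : FibCat.overCat V ⥤ᵇ 𝒳)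
    (α : LIso (fun z => Ta z ∧ Tb z) Y Y) :
    ∃ (η : FibCat.overCat V ⥤ᵇ 𝒳) (Ea : LIso Ta η Y) (Eb : LIso Tb η Y),
      ∀ z (h₁ : Ta z) (h₂ : Tb z), Ea.app z h₁ ≪≫ α.app z ⟨h₁, h₂⟩ = Eb.app z h₂ := by
  classical
  let R := twoSieve Ta Tb ha hb
  haveI : (Stk.resSieve R 𝒳).IsEquivalence := h𝒳.2 R hJ
  -- the twisted transition maps
  let tw : ∀ {z z' : (Stk.sieveCat R).obj} (φ : z ⟶ z'), Y.obj z.obj ⟶ Y.obj z'.obj := fun {z z'} φ =>
    if h : Ta z.obj ∧ ¬ Ta z'.obj then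
      (α.app _ ⟨h.1, hb φ.hom ((mem_twoSieve z').resolve_left h.2)⟩).hom ≫ Y.map φ.hom
    else Y.map φ.hom
  have tw₁ : ∀ {z z' : (Stk.sieveCat R).obj} (φ : z ⟶ z') (h : Ta z.obj ∧ Tb z.obj) (_ : ¬ Ta z'.obj),
      tw φ = (α.app _ h).hom ≫ Y.map φ.hom := fun φ h h' => dif_pos ⟨h.1, h'⟩
  have tw₂ : ∀ {z z' : (Stk.sieveCat R).obj} (φ : z ⟶ z') (_ : ¬ (Ta z.obj ∧ ¬ Ta z'.obj)),
      tw φ = Y.map φ.hom := fun φ h => dif_neg h
  have htwl : ∀ {z z' : (Stk.sieveCat R).obj} (φ : z ⟶ z'), 𝒳.p.IsHomLift φ.hom.left (tw φ) := fun {z z'} φ => by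
    haveI : 𝒳.p.IsHomLift φ.hom.left (Y.map φ.hom) :=
      haveI : (FibCat.overCat V).p.IsHomLift φ.hom.left φ.hom := IsHomLift.map (FibCat.overCat V).p φ.hom
      BasedFunctor.preserves_isHomLift Y φ.hom.left φ.hom
    by_cases h : Ta z.obj ∧ ¬ Ta z'.obj
    · have h₂ : Tb z.obj := hb φ.hom ((mem_twoSieve z').resolve_left h.2)
      haveI := α.lift z.obj ⟨h.1, h₂⟩
      rw [tw₁ φ ⟨h.1, h₂⟩ h.2]
      infer_instance
    · rw [tw₂ φ h]
      infer_instance
  let F : Stk.sieveCat R ⥤ᵇ 𝒳 :=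
    { toFunctor :=
        { obj := fun z => Y.obj z.obj
          map := tw
          map_id := fun z => by
            rw [tw₂ (𝟙 z) fun h => h.2 h.1]
            exact Y.toFunctor.map_id _
          map_comp := fun {z z' z''} φ ψ => by
            have hc : Y.map (φ ≫ ψ).hom = Y.map φ.hom ≫ Y.map ψ.hom := Y.toFunctor.map_comp φ.hom ψ.hom
            by_cases h'' : Ta z''.obj
            · rw [tw₂ φ fun h => h.2 (ha ψ.hom h''), tw₂ ψ fun h => h.2 h'', tw₂ (φ ≫ ψ) fun h => h.2 h'', hc]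
            · by_cases h : Ta z.obj
              · have hz : Tb z.obj := hb (φ.hom ≫ ψ.hom) ((mem_twoSieve z'').resolve_left h'')
                rw [tw₁ (φ ≫ ψ) ⟨h, hz⟩ h'', hc]
                by_cases h' : Ta z'.obj
                · have hz' : Tb z'.obj := hb ψ.hom ((mem_twoSieve z'').resolve_left h'')
                  rw [tw₂ φ fun g => g.2 h', tw₁ ψ ⟨h', hz'⟩ h'', ← Category.assoc, ← Category.assoc,
                    α.nat φ.hom ⟨h, hz⟩ ⟨h', hz'⟩]
                · rw [tw₁ φ ⟨h, hz⟩ h', tw₂ ψ fun g => h' g.1, Category.assoc]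
              · rw [tw₂ φ fun g => h g.1, tw₂ ψ fun g => h (ha φ.hom g.1), tw₂ (φ ≫ ψ) fun g => h g.1, hc] }
      w := CategoryTheory.Functor.ext (fun z => Y.w_obj z.obj) fun z z' φ => by
        haveI := htwl φ
        exact (IsHomLift.fac' 𝒳.p φ.hom.left (tw φ)).trans (by simp; rfl) }
  let η := (Stk.resSieve R 𝒳).objPreimage F
  let i : BasedFunctor.comp (Stk.sieveIncl R) η ≅ F := (Stk.resSieve R 𝒳).objObjPreimageIso F
  let zs : ∀ z : Over V, Ta z ∨ Tb z → (Stk.sieveCat R).obj := fun z h => ⟨z, h⟩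
  let io : ∀ (z : Over V) (h : Ta z ∨ Tb z), η.obj z ≅ Y.obj z := fun z h => appIso i (zs z h)
  have iol : ∀ z h, 𝒳.p.IsHomLift (𝟙 z.left) (io z h).hom := fun z h => isHomLift_appIso_hom i (zs z h) rfl
  have ion : ∀ {z z' : Over V} (φ : z ⟶ z') h h', η.map φ ≫ (io z' h').hom =
      (io z h).hom ≫ tw (ObjectProperty.homMk φ : zs z h ⟶ zs z' h') := fun φ h h' =>
    i.hom.toNatTrans.naturality (ObjectProperty.homMk φ : zs _ h ⟶ zs _ h')
  let eb : ∀ z, Tb z → (η.obj z ≅ Y.obj z) := fun z h =>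
    if h₁ : Ta z then io z (Or.inr h) ≪≫ α.app z ⟨h₁, h⟩ else io z (Or.inr h)
  refine ⟨η,
    { app := fun z h => io z (Or.inl h)
      lift := fun z h => iol z _
      nat := fun φ h h' => ?_ },
    { app := eb
      lift := fun z h => ?_
      nat := fun φ h h' => ?_ }, fun z h₁ h₂ => ?_⟩
  · rw [ion φ (Or.inl h) (Or.inl h'), tw₂ _ fun g => g.2 h']
    rfl
  · haveI := iol z (Or.inr h)
    by_cases h₁ : Ta z
    · haveI := α.lift z ⟨h₁, h⟩
      simp only [eb, dif_pos h₁]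
      show 𝒳.p.IsHomLift (𝟙 z.left) ((io z (Or.inr h)).hom ≫ (α.app z ⟨h₁, h⟩).hom)
      infer_instance
    · simp only [eb, dif_neg h₁]
      infer_instance
  · rename_i z z'
    by_cases g' : Ta z'
    · have g : Ta z := ha φ g'
      simp only [eb, dif_pos g, dif_pos g', Iso.trans_hom, Category.assoc]
      rw [← Category.assoc, ion φ (Or.inr h) (Or.inr h'), tw₂ _ fun k => k.2 g', Category.assoc]
      exact congrArg _ (α.nat φ ⟨g, h⟩ ⟨g', h'⟩)
    · by_cases g : Ta z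
      · simp only [eb, dif_pos g, dif_neg g', Iso.trans_hom, Category.assoc]
        rw [ion φ (Or.inr h) (Or.inr h'), tw₁ _ ⟨g, h⟩ g']
        rfl
      · simp only [eb, dif_neg g, dif_neg g']
        rw [ion φ (Or.inr h) (Or.inr h'), tw₂ _ fun k => g k.1]
        rfl
  · simp only [eb, dif_pos h₁]

end Groth.Agent.IsoNat5
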