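import Mathlib.RingTheory.Localization.Away.Basic
import Mathlib.Algebra.DualNumber
import Mathlib.AlgebraicGeometry.OpenImmersion
import Mathlib.AlgebraicGeometry.AffineScheme

/-!
Maps between rings of dual numbers and their spectra over a base.
-/

universe u

open CategoryTheory AlgebraicGeometry TrivSqZeroExt

namespace Groth.Agent.IsoNat5

variable {A B C : Type u} [CommRing A] [CommRing B] [CommRing C]

/-- `a + bε ↦ f a + c (f b) ε` -/
def mapD (f : A →+* B) (c : B) : DualNumber A →+* DualNumber B where
  toFun x := inl (f x.fst) + inr (c * f x.snd)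
  map_one' := by ext <;> simp
  map_mul' x y := by
    ext
    · simp
    · simp [map_add, map_mul]
      ring
  map_zero' := by ext <;> simp
  map_add' x y := by
    ext
    · simp
    · simp [map_add, mul_add]

@[simp] theorem mapD_fst (f : A →+* B) (c : B) (x : DualNumber A) : (mapD f c x).fst = f x.fst := by
  simp [mapD]

@[simp] theorem mapD_snd (f : A →+* B) (c : B) (x : DualNumber A) : (mapD f c x).snd = c * f x.snd := by
  simp [mapD]

theorem mapD_comp (f : A →+* B) (c : B) (g : B →+* C) (d : C) :
    (mapD g d).comp (mapD f c) = mapD (g.comp f) (d * g c) :=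
  RingHom.ext fun x => by ext <;> simp [mul_assoc]

theorem mapD_id : mapD (RingHom.id A) 1 = RingHom.id (DualNumber A) :=
  RingHom.ext fun x => by ext <;> simp

/-- the reduction -/
abbrev red : DualNumber A →+* A := (fstHom ℕ A A : DualNumber A →ₐ[ℕ] A).toRingHom

/-- the inclusion of the constants -/
abbrev cst : A →+* DualNumber A := inlHom A A

theorem red_comp_mapD (f : A →+* B) (c : B) : red.comp (mapD f c) = f.comp red :=
  RingHom.ext fun x => by simp

theorem mapD_comp_cst (f : A →+* B) (c : B) : (mapD f c).comp cst = cst.comp f :=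
  RingHom.ext fun x => by ext <;> simp

theorem cst_comp_red : (cst.comp red : DualNumber A →+* DualNumber A) = mapD (RingHom.id A) 0 :=
  RingHom.ext fun x => by ext <;> simp

theorem red_comp_cst : (red.comp cst : A →+* A) = RingHom.id A :=
  RingHom.ext fun x => by simp

theorem sq_ker_red : (RingHom.ker (red (A := A))) ^ 2 = ⊥ := by
  rw [pow_two, Submodule.eq_bot_iff]
  intro w hw
  refine Submodule.mul_induction_on hw (fun a ha b hb => ?_) fun a b ha hb => by rw [ha, hb, add_zero]
  have ha' : a.fst = 0 := ha
  have hb' : b.fst = 0 := hb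
  ext <;> simp [ha', hb']

/-- localization commutes with dual numbers -/
theorem isLocalizationAway_dual {R : Type u} [CommRing R] [Algebra A R] (t : A) [IsLocalization.Away t R] :
    letI := (mapD (algebraMap A R) 1).toAlgebra
    IsLocalization.Away (inl t : DualNumber A) (DualNumber R) := by
  letI := (mapD (algebraMap A R) 1).toAlgebra
  have hmap : ∀ x : DualNumber A, algebraMap (DualNumber A) (DualNumber R) x = mapD (algebraMap A R) 1 x :=
    fun x => rfl
  have ht : ∀ n : ℕ, (inl t : DualNumber A) ^ n = inl (t ^ n) := fun n => ((inlHom A A).map_pow t n).symm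
  refine IsLocalization.Away.mk _ ?_ (fun x => ?_) fun x y h => ?_
  · rw [hmap, show mapD (algebraMap A R) 1 (inl t : DualNumber A) = inl (algebraMap A R t) by ext <;> simp]
    exact (IsLocalization.Away.algebraMap_isUnit (S := R) t).map (inlHom R R)
  · obtain ⟨n, a, ha⟩ := IsLocalization.Away.surj t x.fst
    obtain ⟨m, b, hb⟩ := IsLocalization.Away.surj t x.snd
    refine ⟨n + m, inl (a * t ^ m) + inr (b * t ^ n), ?_⟩
    rw [hmap, hmap]
    ext
    · simp [← ha, pow_add, mul_assoc]
    · simp [← hb, pow_add, mul_assoc, mul_comm, mul_left_comm]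
  · have h1 := congrArg TrivSqZeroExt.fst h
    have h2 := congrArg TrivSqZeroExt.snd h
    simp only [hmap, mapD_fst, mapD_snd, one_mul] at h1 h2
    obtain ⟨n, hn⟩ := IsLocalization.Away.exists_of_eq t h1
    obtain ⟨m, hm⟩ := IsLocalization.Away.exists_of_eq t h2
    refine ⟨n + m, ?_⟩
    rw [ht]
    ext
    · simp [pow_add, mul_assoc]
      rw [mul_left_comm, hn, mul_left_comm]
    · simp [pow_add, mul_assoc]
      rw [hm]

variable {S : Scheme.{u}} {K : Type u} [CommRing K] (str : Spec (CommRingCat.of K) ⟶ S)

/-- `Spec B` over `S` through a map from `K` -/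
noncomputable abbrev overK {B : Type u} [CommRing B] (f : K →+* B) : Over S :=
  Over.mk (Spec.map (CommRingCat.ofHom f) ≫ str)

/-- `Spec B[ε]` over `S` -/
noncomputable abbrev dualK {B : Type u} [CommRing B] (f : K →+* B) : Over S :=
  overK str ((cst (A := B)).comp f)

/-- maps of spectra over `S` -/
noncomputable abbrev specK {B C : Type u} [CommRing B] [CommRing C] {f : K →+* B} {g : K →+* C} (φ : B →+* C)
    (h : φ.comp f = g) : overK str g ⟶ overK str f :=
  Over.homMk (Spec.map (CommRingCat.ofHom φ)) (by
    show Spec.map _ ≫ Spec.map _ ≫ str = Spec.map _ ≫ str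
    rw [← Category.assoc, ← Spec.map_comp, ← h]
    rfl)

theorem specK_comp {B C D : Type u} [CommRing B] [CommRing C] [CommRing D] {f : K →+* B} {g : K →+* C} {k : K →+* D}
    (φ : B →+* C) (h : φ.comp f = g) (ψ : C →+* D) (h' : ψ.comp g = k) :
    specK str ψ h' ≫ specK str φ h = specK str (ψ.comp φ) (by rw [RingHom.comp_assoc, h, h']) := by
  apply Over.OverMorphism.ext
  show Spec.map _ ≫ Spec.map _ = _
  rw [← Spec.map_comp]
  rfl

theorem specK_congr {B C : Type u} [CommRing B] [CommRing C] {f : K →+* B} {g : K →+* C} {φ φ' : B →+* C}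
    (e : φ = φ') (h : φ.comp f = g) : specK str φ h = specK str φ' (e ▸ h) := by
  subst e
  rfl

theorem specK_id {B : Type u} [CommRing B] {f : K →+* B} (h : (RingHom.id B).comp f = f) :
    specK str (RingHom.id B) h = 𝟙 _ := by
  apply Over.OverMorphism.ext
  exact Spec.map_id _

theorem isOpenImmersion_specK_away {R : Type u} [CommRing R] [Algebra A R] (t : A) [IsLocalization.Away t R]
    {f : K →+* A} {g : K →+* R} (h : (mapD (algebraMap A R) 1).comp (cst.comp f) = (cst (A := R)).comp g) :
    IsOpenImmersion (specK str (mapD (algebraMap A R) 1) h).left := by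
  letI := (mapD (algebraMap A R) 1).toAlgebra
  haveI := isLocalizationAway_dual (R := R) t
  exact IsOpenImmersion.of_isLocalization (R := DualNumber A) (S := DualNumber R) (inl t)

theorem injective_mapD_away {R : Type u} [CommRing R] {g : A →+* R} (hg : Function.Injective g) :
    Function.Injective (mapD g 1) := fun x y h => by
  ext
  · exact hg (by simpa using congrArg TrivSqZeroExt.fst h)
  · exact hg (by simpa using congrArg TrivSqZeroExt.snd h)

theorem injective_appTop_specK {B C : Type u} [CommRing B] [CommRing C] {f : K →+* B} {g : K →+* C} (φ : B →+* C)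
    (h : φ.comp f = g) (hφ : Function.Injective φ) : Function.Injective (specK str φ h).left.appTop := by
  have e := Scheme.ΓSpecIso_inv_naturality (CommRingCat.ofHom φ)
  intro x y hxy
  obtain ⟨x, rfl⟩ := (ConcreteCategory.bijective_of_isIso (Scheme.ΓSpecIso (CommRingCat.of B)).inv).2 x
  obtain ⟨y, rfl⟩ := (ConcreteCategory.bijective_of_isIso (Scheme.ΓSpecIso (CommRingCat.of B)).inv).2 y
  have hx := congrArg (fun q => q.hom x) e
  have hy := congrArg (fun q => q.hom y) e
  simp only [CommRingCat.hom_comp, RingHom.comp_apply] at hx hy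
  exact congrArg _ (hφ ((ConcreteCategory.bijective_of_isIso (Scheme.ΓSpecIso (CommRingCat.of C)).inv).1
    (hx.trans (hxy.trans hy.symm))))

end Groth.Agent.IsoNat5
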