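import Groth.Prelude.Def_W4c2isonaturalstkIso
import Groth.Agent.Lib.StAlg16.Topology
import Groth.Agent.Lib.StAlg16.QC

/-!
An isomorphism of presheaves of isomorphism classes induces a homeomorphism of the spaces of points.
-/

universe u

open CategoryTheory CategoryTheory.Functor AlgebraicGeometry Topology

set_option linter.style.haveILetI false
set_option linter.unusedSectionVars false
set_option backward.isDefEq.respectTransparency false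
set_option backward.isDefEq.respectTransparency.types false

namespace Groth.Agent.IsoNat5

open Groth.Agent.FC16 Groth.Agent.StAlg16 AlgSt

variable {S : Scheme.{u}} {𝒳 𝒴 : AlgSt.Cat S}

theorem cls_eq_of_lifts {T : Over S} (x x' : 𝒳.p.Fiber T) (e : x.1 ≅ x'.1) (he : 𝒳.p.IsHomLift (𝟙 T) e.hom) :
    IsoNat.cls x = IsoNat.cls x' := by
  haveI := he
  exact Quotient.sound ⟨⟨⟨e.hom, he⟩, ⟨e.inv, inferInstance⟩, Fiber.hom_ext e.hom_inv_id,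
    Fiber.hom_ext e.inv_hom_id⟩⟩

theorem exists_iso_of_cls_eq {T : Over S} {x x' : 𝒳.p.Fiber T} (h : IsoNat.cls x = IsoNat.cls x') :
    ∃ e : x.1 ≅ x'.1, 𝒳.p.IsHomLift (𝟙 T) e.hom := by
  obtain ⟨e⟩ := Quotient.exact h
  exact ⟨⟨e.hom.1, e.inv.1, congrArg Subtype.val e.hom_inv_id, congrArg Subtype.val e.inv_hom_id⟩, e.hom.2⟩

theorem cls_surjective {T : Over S} : Function.Surjective (IsoNat.cls : 𝒳.p.Fiber T → IsoNat.IsoCl 𝒳 T) :=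
  Quotient.mk_surjective

/-- pullback classes are well defined -/
theorem cls_eq_of_cls_eq (h𝒳 : FibCat.IsFibGrpd 𝒳.p) {T' T : Over S} (g : T' ⟶ T) {x' y' : 𝒳.p.Fiber T'}
    {x y : 𝒳.p.Fiber T} (a : x'.1 ⟶ x.1) (b : y'.1 ⟶ y.1) (ha : 𝒳.p.IsHomLift g a) (hb : 𝒳.p.IsHomLift g b)
    (h : IsoNat.cls x = IsoNat.cls y) : IsoNat.cls x' = IsoNat.cls y' := by
  obtain ⟨e, he⟩ := exists_iso_of_cls_eq h
  haveI := ha; haveI := hb; haveI := he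
  haveI : 𝒳.p.IsHomLift g (a ≫ e.hom) := inferInstance
  obtain ⟨ε, hε, -⟩ := exists_iso_of_lifts h𝒳 g (a ≫ e.hom) b
  exact cls_eq_of_lifts x' y' ε hε

theorem natural' (h𝒴 : FibCat.IsFibGrpd 𝒴.p) (φ : IsoNat.FIso 𝒳 𝒴) {T' T : Over S} (g : T' ⟶ T)
    {x' : 𝒳.p.Fiber T'} {x : 𝒳.p.Fiber T} {y' : 𝒴.p.Fiber T'} {y : 𝒴.p.Fiber T} (a : x'.1 ⟶ x.1) (b : y'.1 ⟶ y.1)
    (ha : 𝒳.p.IsHomLift g a) (hb : 𝒴.p.IsHomLift g b) (h : φ.toEquiv T (IsoNat.cls x) = IsoNat.cls y) :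
    φ.toEquiv T' (IsoNat.cls x') = IsoNat.cls y' := by
  obtain ⟨y₁', y₁, b₁, hb₁, h', h₁⟩ := φ.natural g x' x a ha
  rw [h']
  exact cls_eq_of_cls_eq h𝒴 g b₁ b hb₁ hb (h₁.symm.trans h)

/-- the inverse isomorphism -/
noncomputable def symm (h𝒳 : FibCat.IsFibGrpd 𝒳.p) (h𝒴 : FibCat.IsFibGrpd 𝒴.p) (φ : IsoNat.FIso 𝒳 𝒴) :
    IsoNat.FIso 𝒴 𝒳 where
  toEquiv T := (φ.toEquiv T).symm
  natural {T' T} g y' y b hb := by
    obtain ⟨x, hx⟩ := cls_surjective ((φ.toEquiv T).symm (IsoNat.cls y))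
    obtain ⟨x', a, ha⟩ := h𝒳.exists_lift (x := x.1) (g ≫ eqToHom x.2.symm)
    have hx' : 𝒳.p.obj x' = T' := IsHomLift.domain_eq 𝒳.p (g ≫ eqToHom x.2.symm) a
    haveI := ha
    have hga : 𝒳.p.IsHomLift g a := by
      have := IsHomLift.fac' 𝒳.p (g ≫ eqToHom x.2.symm) a
      refine IsHomLift.of_fac' 𝒳.p g a hx' x.2 ?_
      rw [this]
      simp
    refine ⟨⟨x', hx'⟩, x, a, hga, ?_, hx.symm⟩
    rw [Equiv.symm_apply_eq]
    refine (natural' h𝒴 φ g (x' := ⟨x', hx'⟩) (x := x) a b hga hb ?_).symm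
    rw [hx, Equiv.apply_symm_apply]

/-- the class over `Spec K` of a field-valued point -/
noncomputable def fptCls (p : FPt 𝒳) : IsoNat.IsoCl 𝒳 (Over.mk p.str) := IsoNat.cls ⟨p.obj, p.lies⟩

/-- a field-valued point in a given class -/
noncomputable def ofCls (K : Type u) [Field K] (str : Spec (CommRingCat.of K) ⟶ S)
    (c : IsoNat.IsoCl 𝒳 (Over.mk str)) : FPt 𝒳 :=
  ⟨K, str, (Quotient.out c).1, (Quotient.out c).2⟩

theorem mk_eq_of_cls {K : Type u} [Field K] {str : Spec (CommRingCat.of K) ⟶ S} (x : 𝒳.p.Fiber (Over.mk str))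
    (c : IsoNat.IsoCl 𝒳 (Over.mk str)) (h : IsoNat.cls x = c) :
    Points.mk (ofCls K str c) = Points.mk ⟨K, str, x.1, x.2⟩ := by
  obtain ⟨e, -⟩ := exists_iso_of_cls_eq (x := Quotient.out c) (x' := x) ((Quotient.out_eq c).trans h.symm)
  exact Points.sound ⟨⟨K, str, (Quotient.out c).1, (Quotient.out c).2⟩, 𝟙 _, e.hom, trivial⟩

variable (φ : IsoNat.FIso 𝒳 𝒴)

/-- the induced map on field-valued points -/
noncomputable def fmap (p : FPt 𝒳) : FPt 𝒴 := ofCls p.K p.str (φ.toEquiv _ (fptCls p))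

theorem mk_fmap_eq_of_hom {p q : FPt 𝒳} (a : p.obj ⟶ q.obj) : Points.mk (fmap φ p) = Points.mk (fmap φ q) := by
  let g : Over.mk p.str ⟶ Over.mk q.str := eqToHom p.lies.symm ≫ 𝒳.p.map a ≫ eqToHom q.lies
  have ha : 𝒳.p.IsHomLift g a := IsHomLift.of_fac 𝒳.p g a p.lies q.lies rfl
  obtain ⟨y', y, b, hb, h', h⟩ := φ.natural g ⟨p.obj, p.lies⟩ ⟨q.obj, q.lies⟩ a ha
  refine ((mk_eq_of_cls y' _ h'.symm).trans ?_).trans (mk_eq_of_cls y _ h.symm).symm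
  exact Points.sound ⟨⟨p.K, p.str, y'.1, y'.2⟩, 𝟙 _, b, trivial⟩

/-- the induced map on points -/
noncomputable def ptMap : Points 𝒳 → Points 𝒴 :=
  Quot.lift (fun p => Points.mk (fmap φ p)) fun p q h => by
    obtain ⟨r, a, b, -⟩ := h
    exact (mk_fmap_eq_of_hom φ a).symm.trans (mk_fmap_eq_of_hom φ b)

theorem ptMap_mk (p : FPt 𝒳) (y : 𝒴.p.Fiber (Over.mk p.str))
    (h : φ.toEquiv _ (IsoNat.cls ⟨p.obj, p.lies⟩) = IsoNat.cls y) :
    ptMap φ (Points.mk p) = Points.mk ⟨p.K, p.str, y.1, y.2⟩ := mk_eq_of_cls y _ h.symm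

theorem ptMap_leftInverse (h𝒳 : FibCat.IsFibGrpd 𝒳.p) (h𝒴 : FibCat.IsFibGrpd 𝒴.p) (z : Points 𝒳) :
    ptMap (symm h𝒳 h𝒴 φ) (ptMap φ z) = z := by
  obtain ⟨p, rfl⟩ := Points.mk_surjective z
  obtain ⟨y, hy⟩ := cls_surjective (φ.toEquiv _ (IsoNat.cls (⟨p.obj, p.lies⟩ : 𝒳.p.Fiber (Over.mk p.str))))
  rw [ptMap_mk φ p y hy.symm]
  exact ptMap_mk (symm h𝒳 h𝒴 φ) ⟨p.K, p.str, y.1, y.2⟩ ⟨p.obj, p.lies⟩ ((Equiv.symm_apply_eq _).2 hy)

theorem ptMap_bijective (h𝒳 : FibCat.IsFibGrpd 𝒳.p) (h𝒴 : FibCat.IsFibGrpd 𝒴.p) :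
    Function.Bijective (ptMap φ) := by
  refine ⟨Function.LeftInverse.injective (g := ptMap (symm h𝒳 h𝒴 φ)) (ptMap_leftInverse φ h𝒳 h𝒴), fun z => ?_⟩
  obtain ⟨p, rfl⟩ := Points.mk_surjective z
  obtain ⟨x, hx⟩ := cls_surjective ((φ.toEquiv _).symm (IsoNat.cls (⟨p.obj, p.lies⟩ : 𝒴.p.Fiber (Over.mk p.str))))
  exact ⟨Points.mk ⟨p.K, p.str, x.1, x.2⟩,
    ptMap_mk φ ⟨p.K, p.str, x.1, x.2⟩ ⟨p.obj, p.lies⟩
      ((congrArg (φ.toEquiv _) hx).trans (Equiv.apply_symm_apply _ _))⟩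

/-- every chart of `𝒳` has a corresponding chart of `𝒴` -/
theorem exists_chart (h𝒴 : FibCat.IsFibGrpd 𝒴.p) {U : Over S} (x : FibCat.overCat U ⥤ᵇ 𝒳) :
    ∃ y : FibCat.overCat U ⥤ᵇ 𝒴, φ.toEquiv U (IsoNat.objCls x) = IsoNat.objCls y := by
  haveI := FC16.isFibered h𝒴
  obtain ⟨y, hy⟩ := cls_surjective (φ.toEquiv U (IsoNat.objCls x))
  exact ⟨ofObj y.2, hy.symm.trans (cls_eq_of_lifts _ _ (ofObjIso y.2) (ofObjIso_lift y.2)).symm⟩

theorem ptMap_ofChart (h𝒴 : FibCat.IsFibGrpd 𝒴.p) {U : Over S} (x : FibCat.overCat U ⥤ᵇ 𝒳)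
    (y : FibCat.overCat U ⥤ᵇ 𝒴) (h : φ.toEquiv U (IsoNat.objCls x) = IsoNat.objCls y) (t : ↥U.left) :
    ptMap φ (Points.ofChart x t) = Points.ofChart y t := by
  let g : Over.mk (U.left.fromSpecResidueField t ≫ U.hom) ⟶ U := Over.homMk (U.left.fromSpecResidueField t) rfl
  let m : (Over.mk g : (FibCat.overCat U).obj) ⟶ Over.mk (𝟙 U) := Over.homMk g (Category.comp_id g)
  haveI : (FibCat.overCat U).p.IsHomLift g m := IsHomLift.map (FibCat.overCat U).p m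
  exact ptMap_mk φ _ ⟨y.obj (Over.mk g), y.w_obj _⟩
    (natural' h𝒴 φ g (x' := ⟨x.obj (Over.mk g), x.w_obj _⟩) (x := ⟨_, x.w_obj _⟩)
      (y' := ⟨y.obj (Over.mk g), y.w_obj _⟩) (y := ⟨_, y.w_obj _⟩) (x.map m) (y.map m)
      (BasedFunctor.preserves_isHomLift x g m) (BasedFunctor.preserves_isHomLift y g m) h)

theorem continuous_ptMap (h𝒴 : AlgSt.IsAlgStack Scheme.fppfPrecoverage 𝒴) : Continuous (ptMap φ) :=
  continuous_def.2 fun O hO => Points.isOpen_iff.2 fun U x _ => by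
    obtain ⟨y, hy⟩ := exists_chart φ h𝒴.isStack.1 x
    have e : Points.ofChart x ⁻¹' (ptMap φ ⁻¹' O) = Points.ofChart y ⁻¹' O := Set.ext fun t => by
      rw [Set.mem_preimage, Set.mem_preimage, Set.mem_preimage, ptMap_ofChart φ h𝒴.isStack.1 x y hy t]
    rw [e]
    exact hO.preimage (continuous_ofChart h𝒴 y)

/-- the homeomorphism of spaces of points -/
theorem isHomeomorph_ptMap (h𝒳 : AlgSt.IsAlgStack Scheme.fppfPrecoverage 𝒳)
    (h𝒴 : AlgSt.IsAlgStack Scheme.fppfPrecoverage 𝒴) : IsHomeomorph (ptMap φ) := by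
  let e : Points 𝒳 ≃ₜ Points 𝒴 :=
    { toFun := ptMap φ
      invFun := ptMap (symm h𝒳.isStack.1 h𝒴.isStack.1 φ)
      left_inv := ptMap_leftInverse φ h𝒳.isStack.1 h𝒴.isStack.1
      right_inv := fun z => by
        obtain ⟨w, rfl⟩ := (ptMap_bijective φ h𝒳.isStack.1 h𝒴.isStack.1).2 z
        rw [ptMap_leftInverse φ h𝒳.isStack.1 h𝒴.isStack.1]
      continuous_toFun := continuous_ptMap φ h𝒴
      continuous_invFun := continuous_ptMap _ h𝒳 }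
  exact e.isHomeomorph

/-- compatibility with the maps on points of a commutative square -/
theorem ptMap_map {𝒳' 𝒴' : AlgSt.Cat S} {f : 𝒳 ⥤ᵇ 𝒴} {f' : 𝒳' ⥤ᵇ 𝒴'} (ψ : IsoNat.FIsoSq f f') (z : Points 𝒳) :
    ptMap ψ.tgt (Points.map f z) = Points.map f' (ptMap ψ.src z) := by
  obtain ⟨p, rfl⟩ := Points.mk_surjective z
  obtain ⟨x', hx'⟩ := cls_surjective (ψ.src.toEquiv _ (IsoNat.cls (⟨p.obj, p.lies⟩ : 𝒳.p.Fiber (Over.mk p.str))))
  rw [ptMap_mk ψ.src p x' hx'.symm, Points.map_mk, Points.map_mk]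
  refine ptMap_mk ψ.tgt (p.map f) ((IsoNat.fibFun f' _).obj x') ?_
  have := ψ.comm (Over.mk p.str) (IsoNat.cls ⟨p.obj, p.lies⟩)
  rw [← hx'] at this
  exact this

end Groth.Agent.IsoNat5
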