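import Groth.Agent.Lib.IsoNat5.Dbl
import Groth.Agent.Lib.IsoNat5.CleanLocus
import Groth.Agent.Lib.IsoNat5.Points

/-!
Automorphisms extending from an open subscheme, read from the classes on the double.
-/

universe u

open CategoryTheory CategoryTheory.Functor CategoryTheory.Limits AlgebraicGeometry Opposite

set_option linter.style.haveILetI false
set_option linter.unusedSectionVars false
set_option backward.isDefEq.respectTransparency false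
set_option backward.isDefEq.respectTransparency.types false

namespace Groth.Agent.IsoNat5

open Groth.Agent.FC16 Groth.Agent.StAlg Groth.Agent.StAlg16 AlgSt

variable {S : Scheme.{u}} {𝒳 𝒴 : AlgSt.Cat S} {P Q : Over S}

/-- automorphisms on `P` extend to `Q` -/
def ExtAut (h𝒳 : FibCat.IsFibGrpd 𝒳.p) (q : P ⟶ Q) : Prop :=
  ∀ (x : FibCat.overCat Q ⥤ᵇ 𝒳) (a : Iso1 x q x q), ∃ γ : Iso1 x (𝟙 Q) x (𝟙 Q),
    Iso1.pb h𝒳 γ q (Category.comp_id q) (Category.comp_id q) = a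

/-- an automorphism along an equal map -/
theorem ExtAut.apply {h𝒳 : FibCat.IsFibGrpd 𝒳.p} {q : P ⟶ Q} (h : ExtAut h𝒳 q) (x : FibCat.overCat Q ⥤ᵇ 𝒳)
    (g : Q ⟶ Q) (hg : g = 𝟙 Q) (a : Iso1 x (q ≫ g) x (q ≫ g)) :
    ∃ γ : Iso1 x g x g, Iso1.pb h𝒳 γ q rfl rfl = a := by
  subst hg
  obtain ⟨γ, hγ⟩ := h x (Iso1.pb h𝒳 a (𝟙 P) (g' := q) (t' := q)
    ((Category.id_comp _).trans (Category.comp_id q)) ((Category.id_comp _).trans (Category.comp_id q)))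
  refine ⟨γ, ?_⟩
  have h2 := congrArg (fun w => Iso1.pb h𝒳 w (𝟙 P) (g' := q ≫ 𝟙 Q) (t' := q ≫ 𝟙 Q)
    ((Category.id_comp q).trans (Category.comp_id q).symm) ((Category.id_comp q).trans (Category.comp_id q).symm)) hγ
  simp only [Iso1.pb_pb] at h2
  exact (Iso1.pb_congr h𝒳 γ (Category.id_comp q).symm _ _).trans
    (h2.trans ((Iso1.pb_congr h𝒳 a (Category.id_comp (𝟙 P)) _ _).trans (Iso1.pb_id h𝒳 a)))

/-- extension of automorphisms is read from the classes on the double -/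
theorem extAut_transfer (q : P ⟶ Q) [IsOpenImmersion q.left]
    (h𝒳 : Stk.IsStack (QuotSh.J Scheme.fppfPrecoverage S) 𝒳) (h𝒴 : Stk.IsStack (QuotSh.J Scheme.fppfPrecoverage S) 𝒴)
    (φ : IsoNat.FIso 𝒳 𝒴) (hX : ExtAut h𝒳.1 q) : ExtAut h𝒴.1 q := by
  intro y a
  let t : dbl q ⟶ Q := dblDesc q (𝟙 Q) (𝟙 Q) rfl
  have ht₁ : j₁ q ≫ t = 𝟙 Q := j₁_desc _ _ _ _
  have ht₂ : j₂ q ≫ t = 𝟙 Q := j₂_desc _ _ _ _
  have hqt : q ≫ j₁ q ≫ t = q := by rw [ht₁, Category.comp_id]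
  have hqt₂ : q ≫ j₂ q ≫ t = q ≫ j₁ q ≫ t := by rw [ht₁, ht₂]
  -- the class on the double
  let a₀ : Iso1 y (q ≫ j₁ q ≫ t) y (q ≫ j₁ q ≫ t) :=
    Iso1.pb h𝒴.1 a (𝟙 P) ((Category.id_comp q).trans hqt.symm) ((Category.id_comp q).trans hqt.symm)
  obtain ⟨η, e₁, e₂, he⟩ := exists_twist_dbl q h𝒴 t a₀
  obtain ⟨x, hx⟩ := exists_chart (symm h𝒳.1 h𝒴.1 φ) h𝒳.1 y
  obtain ⟨ξ, hξ⟩ := exists_chart (symm h𝒳.1 h𝒴.1 φ) h𝒳.1 η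
  obtain ⟨f₁⟩ : Nonempty (Iso1 ξ (j₁ q) x (j₁ q ≫ t)) := Iso1.nonempty_of_cls_eq
    ((cls_obj_eq _ h𝒳.1 hξ (j₁ q)).symm.trans
      ((congrArg ((symm h𝒳.1 h𝒴.1 φ).toEquiv _) e₁.cls_eq).trans (cls_obj_eq _ h𝒳.1 hx (j₁ q ≫ t))))
  obtain ⟨f₂⟩ : Nonempty (Iso1 ξ (j₂ q) x (j₂ q ≫ t)) := Iso1.nonempty_of_cls_eq
    ((cls_obj_eq _ h𝒳.1 hξ (j₂ q)).symm.trans
      ((congrArg ((symm h𝒳.1 h𝒴.1 φ).toEquiv _) e₂.cls_eq).trans (cls_obj_eq _ h𝒳.1 hx (j₂ q ≫ t))))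
  -- it is trivial
  let p₁ : Iso1 ξ (q ≫ j₁ q) x (q ≫ j₁ q ≫ t) := Iso1.pb h𝒳.1 f₁ q rfl rfl
  let p₂ : Iso1 ξ (q ≫ j₁ q) x (q ≫ j₁ q ≫ t) := Iso1.pb h𝒳.1 f₂ q (q_j q).symm hqt₂
  obtain ⟨γ, hγ⟩ := hX.apply x (j₁ q ≫ t) ht₁ (p₁.symm.trans p₂)
  obtain ⟨τ⟩ := exists_iso1_dbl q (X := ξ) (Y := x) h𝒳 (𝟙 (dbl q)) t
    (Iso1.pb h𝒳.1 (f₁.trans γ) (𝟙 Q) ((Category.id_comp _).trans (Category.comp_id _).symm) (Category.id_comp _))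
    (Iso1.pb h𝒳.1 f₂ (𝟙 Q) ((Category.id_comp _).trans (Category.comp_id _).symm) (Category.id_comp _))
    (by
      have hb : Iso1.pb h𝒳.1 (f₁.trans γ) q rfl rfl = p₂ := by
        rw [Iso1.pb_trans h𝒳.1 f₁ γ q rfl rfl rfl, hγ]
        show p₁.trans (p₁.symm.trans p₂) = p₂
        rw [← Iso1.trans_assoc, Iso1.trans_symm, Iso1.refl_trans]
      simp only [Iso1.pb_pb, Category.comp_id]
      have h3 := congrArg (fun w => Iso1.pb h𝒳.1 w (𝟙 P) (g' := q ≫ j₁ q ≫ 𝟙 (dbl q)) (t' := q ≫ j₁ q ≫ t)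
        (by simp) (by simp)) hb
      simp only [p₂, Iso1.pb_pb] at h3
      exact (Iso1.pb_congr h𝒳.1 _ (by simp) _ _).trans (h3.trans (Iso1.pb_congr h𝒳.1 _ (by simp) _ _)))
  obtain ⟨E⟩ : Nonempty (Iso1 η (𝟙 (dbl q)) y t) := Iso1.nonempty_of_cls_eq
    (((symm h𝒳.1 h𝒴.1 φ).toEquiv _).injective
      ((cls_obj_eq _ h𝒳.1 hξ (𝟙 (dbl q))).trans (τ.cls_eq.trans (cls_obj_eq _ h𝒳.1 hx t).symm)))
  -- hence the twist is a coboundary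
  let E₁ : Iso1 η (j₁ q) y (j₁ q ≫ t) := Iso1.pb h𝒴.1 E (j₁ q) (Category.comp_id _) rfl
  let E₂ : Iso1 η (j₂ q) y (j₂ q ≫ t) := Iso1.pb h𝒴.1 E (j₂ q) (Category.comp_id _) rfl
  let d₁ : Iso1 y (j₁ q ≫ t) y (j₁ q ≫ t) := E₁.symm.trans e₁
  let d₂ : Iso1 y (j₁ q ≫ t) y (j₁ q ≫ t) := Iso1.pb h𝒴.1 (E₂.symm.trans e₂) (𝟙 Q)
    (by rw [Category.id_comp, ht₁, ht₂]) (by rw [Category.id_comp, ht₁, ht₂])
  have k₁ : Iso1.pb h𝒴.1 E₁ q rfl (t' := q ≫ j₁ q ≫ t) rfl =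
      Iso1.pb h𝒴.1 E₂ q (q_j q).symm hqt₂ := by
    simp only [E₁, E₂, Iso1.pb_pb]
    exact Iso1.pb_congr h𝒴.1 E (q_j q) _ _
  have key : (Iso1.pb h𝒴.1 d₁ q rfl rfl).trans a₀ = Iso1.pb h𝒴.1 d₂ q rfl rfl := by
    have k₂ : Iso1.pb h𝒴.1 d₂ q rfl rfl = Iso1.pb h𝒴.1 (E₂.symm.trans e₂) q hqt₂ hqt₂ := by
      simp only [d₂, Iso1.pb_pb]
      exact Iso1.pb_congr h𝒴.1 _ (Category.comp_id q) _ _
    rw [k₂, Iso1.pb_trans h𝒴.1 E₂.symm e₂ q hqt₂ (q_j q).symm hqt₂,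
      Iso1.pb_symm h𝒴.1 E₂ q (q_j q).symm hqt₂,
      show Iso1.pb h𝒴.1 d₁ q rfl rfl = (Iso1.pb h𝒴.1 E₁.symm q rfl rfl).trans (Iso1.pb h𝒴.1 e₁ q rfl rfl) from
        Iso1.pb_trans h𝒴.1 E₁.symm e₁ q rfl rfl rfl,
      Iso1.pb_symm h𝒴.1 E₁ q rfl rfl, Iso1.trans_assoc, he, k₁]
  refine ⟨Iso1.pb h𝒴.1 (d₁.symm.trans d₂) (𝟙 Q) ((Category.id_comp _).trans ht₁) ((Category.id_comp _).trans ht₁), ?_⟩
  have h4 : Iso1.pb h𝒴.1 (d₁.symm.trans d₂) q rfl rfl = a₀ := by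
    rw [Iso1.pb_trans h𝒴.1 d₁.symm d₂ q rfl rfl rfl, Iso1.pb_symm h𝒴.1 d₁ q rfl rfl, ← key,
      ← Iso1.trans_assoc, Iso1.symm_trans, Iso1.refl_trans]
  have h5 := congrArg (fun w => Iso1.pb h𝒴.1 w (𝟙 P) (g' := q) (t' := q)
    ((Category.id_comp _).trans hqt) ((Category.id_comp _).trans hqt)) h4
  simp only [a₀, Iso1.pb_pb] at h5 ⊢
  exact (Iso1.pb_congr h𝒴.1 _ (by simp) _ _).trans
    (h5.trans ((Iso1.pb_congr h𝒴.1 a (Category.id_comp _) _ _).trans (Iso1.pb_id h𝒴.1 a)))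

section Inertia

variable {V : Over S} {F : AlgSp.Sp S} {z : FibCat.overCat V ⥤ᵇ 𝒳}
  {e : AlgSt.ofSp F ⥤ᵇ FibCat.fp z (FibCat.inertiaToBase (FibCat.toSelf 𝒳))}

/-- an automorphism is determined by its section -/
theorem eq_of_sec_eq (he : FibCat.IsEquivOver e) {T : Over S} {v : T ⟶ V} (γ γ' : Iso1 z v z v)
    (h : (autObj γ).sec he = (autObj γ').sec he) : γ = γ' := by
  obtain ⟨b, -, hb⟩ := SecObj.exists_iso_of_sec_eq he _ _ h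
  have hb1 : b.hom = 𝟙 (z.obj (Over.mk v)) := by
    have h1 : 𝟙 (z.obj (Over.mk v)) = 𝟙 (z.obj (Over.mk v)) ≫ b.hom := hb
    exact (h1.trans (Category.id_comp b.hom)).symm
  have hc : γ.iso.hom ≫ b.hom = b.hom ≫ γ'.iso.hom := b.comm
  rw [hb1] at hc
  exact Iso1.ext (Iso.ext ((Category.comp_id _).symm.trans (hc.trans (Category.id_comp _))))

/-- sections of pulled back automorphisms -/
theorem sec_pb (g𝒳 : FibCat.IsFibGrpd 𝒳.p) (he : FibCat.IsEquivOver e) {T T' : Over S} {v : T ⟶ V} {v' : T' ⟶ V}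
    (γ : Iso1 z v z v) (f : T' ⟶ T) (hf : f ≫ v = v') :
    (autObj (Iso1.pb g𝒳 γ f hf hf)).sec he = (AlgSp.yon S).map f ≫ (autObj γ).sec he := by
  refine (SecObj.sec_map he _ _ f hf ⟨z.map (sl f hf), Iso1.pb_spec g𝒳 γ f hf hf⟩
    (inertia_lift _ _ (map_sl_lift z f hf)) ?_).symm
  show z.map (sl f hf) ≫ 𝟙 _ = 𝟙 _ ≫ z.map (sl f hf)
  rw [Category.id_comp, Category.comp_id]

/-- every section comes from an automorphism -/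
theorem exists_aut_of_sec (he : FibCat.IsEquivOver e) {T : Over S} (v : T ⟶ V) (l : (AlgSp.yon S).obj T ⟶ F)
    (hl : l ≫ AlgSt.spMapOfOver (BasedFunctor.comp e (FibCat.fpFst z (FibCat.inertiaToBase (FibCat.toSelf 𝒳)))) =
      (AlgSp.yon S).map v) :
    ∃ γ : Iso1 z v z v, (autObj γ).sec he = l := by
  obtain ⟨ξ, rfl⟩ := exists_secObj he l v hl
  haveI := ξ.lift
  haveI : 𝒳.p.IsHomLift (𝟙 T) ξ.iso.inv := IsHomLift.lift_id_inv 𝒳.p T ξ.iso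
  have hp : 𝒳.p.obj ξ.obj.1.pt = T := ξ.obj.2
  haveI : 𝒳.p.IsHomLift (𝟙 T) ξ.obj.1.aut.hom := by
    refine IsHomLift.of_fac' 𝒳.p _ _ hp hp ?_
    have h1 : 𝒳.p.map ξ.obj.1.aut.hom = 𝟙 _ := ξ.obj.1.map_aut
    rw [h1]
    simp
  let κ : z.obj (Over.mk v) ≅ ξ.obj.1.pt := ξ.iso
  let γ : Iso1 z v z v := ⟨κ ≪≫ ξ.obj.1.aut ≪≫ κ.symm,
    show 𝒳.p.IsHomLift (𝟙 T) (κ.hom ≫ ξ.obj.1.aut.hom ≫ κ.inv) by
      have : 𝒳.p.IsHomLift (𝟙 T ≫ 𝟙 T ≫ 𝟙 T) (ξ.iso.hom ≫ ξ.obj.1.aut.hom ≫ ξ.iso.inv) := inferInstance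
      simpa using this⟩
  refine ⟨γ, ((SecObj.sec_map he (autObj γ) ξ (𝟙 T) (Category.id_comp v) ⟨ξ.iso.hom, ?_⟩
    (inertia_lift _ _ ξ.lift) ?_).symm.trans (by rw [CategoryTheory.Functor.map_id, Category.id_comp]))⟩
  · show (κ.hom ≫ ξ.obj.1.aut.hom ≫ κ.inv) ≫ κ.hom = κ.hom ≫ ξ.obj.1.aut.hom
    simp
  · have h1 : sl (𝟙 T) (Category.id_comp v) = 𝟙 (Over.mk v) := Over.OverMorphism.ext rfl
    rw [h1]
    show z.map (𝟙 (Over.mk v)) ≫ ξ.iso.hom = 𝟙 _ ≫ ξ.iso.hom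
    rw [CategoryTheory.Functor.map_id]

end Inertia

end Groth.Agent.IsoNat5
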