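import Groth.Agent.Lib.IsoNat5.Dbl

/-!
Gluing two objects along an isomorphism on the intersection of two pieces.
-/

universe u

open CategoryTheory CategoryTheory.Functor CategoryTheory.Limits AlgebraicGeometry Opposite

set_option linter.style.haveILetI false
set_option linter.unusedSectionVars false
set_option backward.isDefEq.respectTransparency false
set_option backward.isDefEq.respectTransparency.types false

namespace Groth.Agent.IsoNat5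

open Groth.Agent.FC16 Groth.Agent.StAlg Groth.Agent.StAlg16 AlgSt

variable {S : Scheme.{u}} {𝒳 : AlgSt.Cat S} {V : Over S} {Ta Tb : Over V → Prop} {ha : Down Ta} {hb : Down Tb}

/-- two objects glue along an isomorphism on the intersection -/
theorem exists_glue₂ (h𝒳 : Stk.IsStack (QuotSh.J Scheme.fppfPrecoverage S) 𝒳)
    (hJ : twoSieve Ta Tb ha hb ∈ QuotSh.J Scheme.fppfPrecoverage S V) (Ya Yb : FibCat.overCat V ⥤ᵇ 𝒳)
    (α : LIso (fun z => Ta z ∧ Tb z) Ya Yb) :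
    ∃ (η : FibCat.overCat V ⥤ᵇ 𝒳) (Ea : LIso Ta η Ya) (Eb : LIso Tb η Yb),
      ∀ z (h₁ : Ta z) (h₂ : Tb z), Ea.app z h₁ ≪≫ α.app z ⟨h₁, h₂⟩ = Eb.app z h₂ := by
  classical
  let R := twoSieve Ta Tb ha hb
  haveI : (Stk.resSieve R 𝒳).IsEquivalence := h𝒳.2 R hJ
  let ob : (Stk.sieveCat R).obj → 𝒳.obj := fun z => if Ta z.obj then Ya.obj z.obj else Yb.obj z.obj
  have hob : ∀ z, 𝒳.p.obj (ob z) = z.obj.left := fun z => by
    by_cases h : Ta z.obj
    · rw [show ob z = Ya.obj z.obj from if_pos h]; exact Ya.w_obj _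
    · rw [show ob z = Yb.obj z.obj from if_neg h]; exact Yb.w_obj _
  let ca : ∀ z, Ta z.obj → (ob z ≅ Ya.obj z.obj) := fun z h => eqToIso (if_pos h)
  have hca : ∀ z h, 𝒳.p.IsHomLift (𝟙 z.obj.left) (ca z h).hom := fun z h =>
    by
      refine IsHomLift.of_fac' 𝒳.p _ _ (hob z) (Ya.w_obj _) ?_
      simp only [ca, eqToIso.hom, eqToHom_map, Category.id_comp, eqToHom_trans]
  let cb : ∀ z, Tb z.obj → (ob z ≅ Yb.obj z.obj) := fun z h =>
    if h₁ : Ta z.obj then ca z h₁ ≪≫ α.app z.obj ⟨h₁, h⟩ else eqToIso (if_neg h₁)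
  have hcb : ∀ z h, 𝒳.p.IsHomLift (𝟙 z.obj.left) (cb z h).hom := fun z h => by
    by_cases h₁ : Ta z.obj
    · haveI := hca z h₁
      haveI := α.lift z.obj ⟨h₁, h⟩
      simp only [cb, dif_pos h₁, Iso.trans_hom]
      infer_instance
    · refine IsHomLift.of_fac' 𝒳.p _ _ (hob z) (Yb.w_obj _) ?_
      simp only [cb, dif_neg h₁, eqToIso.hom, eqToHom_map, Category.id_comp, eqToHom_trans]
  let tw : ∀ {z z' : (Stk.sieveCat R).obj}, (z ⟶ z') → (ob z ⟶ ob z') := fun {z z'} φ =>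
    if h : Ta z'.obj then (ca z (ha φ.hom h)).hom ≫ Ya.map φ.hom ≫ (ca z' h).inv
    else (cb z (hb φ.hom ((mem_twoSieve z').resolve_left h))).hom ≫ Yb.map φ.hom ≫
      (cb z' ((mem_twoSieve z').resolve_left h)).inv
  have twa : ∀ {z z' : (Stk.sieveCat R).obj} (φ : z ⟶ z') (h : Ta z'.obj),
      tw φ ≫ (ca z' h).hom = (ca z (ha φ.hom h)).hom ≫ Ya.map φ.hom := fun φ h => by
    simp [tw, dif_pos h]
  have twb : ∀ {z z' : (Stk.sieveCat R).obj} (φ : z ⟶ z') (h : Tb z'.obj),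
      tw φ ≫ (cb z' h).hom = (cb z (hb φ.hom h)).hom ≫ Yb.map φ.hom := fun {z z'} φ h => by
    by_cases h' : Ta z'.obj
    · have g := ha φ.hom h'
      simp only [cb, dif_pos h', dif_pos g, Iso.trans_hom, Category.assoc]
      rw [← Category.assoc, twa φ h', Category.assoc, α.nat φ.hom ⟨g, hb φ.hom h⟩ ⟨h', h⟩]
    · simp [tw, dif_neg h']
  have htwl : ∀ {z z' : (Stk.sieveCat R).obj} (φ : z ⟶ z'), 𝒳.p.IsHomLift φ.hom.left (tw φ) := fun {z z'} φ => by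
    haveI : (FibCat.overCat V).p.IsHomLift φ.hom.left φ.hom := IsHomLift.map (FibCat.overCat V).p φ.hom
    haveI : 𝒳.p.IsHomLift φ.hom.left (Ya.map φ.hom) := BasedFunctor.preserves_isHomLift Ya φ.hom.left φ.hom
    haveI : 𝒳.p.IsHomLift φ.hom.left (Yb.map φ.hom) := BasedFunctor.preserves_isHomLift Yb φ.hom.left φ.hom
    by_cases h : Ta z'.obj
    · haveI := hca z (ha φ.hom h)
      haveI := hca z' h
      haveI : 𝒳.p.IsHomLift (𝟙 z'.obj.left) (ca z' h).inv := IsHomLift.lift_id_inv 𝒳.p _ _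
      simp only [tw, dif_pos h]
      infer_instance
    · haveI := hcb z (hb φ.hom ((mem_twoSieve z').resolve_left h))
      haveI := hcb z' ((mem_twoSieve z').resolve_left h)
      haveI : 𝒳.p.IsHomLift (𝟙 z'.obj.left) (cb z' ((mem_twoSieve z').resolve_left h)).inv :=
        IsHomLift.lift_id_inv 𝒳.p _ _
      simp only [tw, dif_neg h]
      infer_instance
  let F : Stk.sieveCat R ⥤ᵇ 𝒳 :=
    { toFunctor :=
        { obj := ob
          map := tw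
          map_id := fun z => by
            rcases mem_twoSieve z with h | h
            · rw [← cancel_mono (ca z h).hom, twa (𝟙 z) h, Category.id_comp]
              exact (congrArg (_ ≫ ·) (Ya.toFunctor.map_id _)).trans (Category.comp_id _)
            · rw [← cancel_mono (cb z h).hom, twb (𝟙 z) h, Category.id_comp]
              exact (congrArg (_ ≫ ·) (Yb.toFunctor.map_id _)).trans (Category.comp_id _)
          map_comp := fun {z z' z''} φ ψ => by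
            rcases mem_twoSieve z'' with h | h
            · have hc : Ya.map (φ ≫ ψ).hom = Ya.map φ.hom ≫ Ya.map ψ.hom := Ya.toFunctor.map_comp φ.hom ψ.hom
              rw [← cancel_mono (ca z'' h).hom, twa (φ ≫ ψ) h, Category.assoc, twa ψ h, ← Category.assoc, twa φ (ha ψ.hom h), hc, Category.assoc]
            · have hc : Yb.map (φ ≫ ψ).hom = Yb.map φ.hom ≫ Yb.map ψ.hom := Yb.toFunctor.map_comp φ.hom ψ.hom
              rw [← cancel_mono (cb z'' h).hom, twb (φ ≫ ψ) h, Category.assoc, twb ψ h, ← Category.assoc, twb φ (hb ψ.hom h), hc, Category.assoc] }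
      w := CategoryTheory.Functor.ext (fun z => hob z) fun z z' φ => by
        haveI := htwl φ
        exact (IsHomLift.fac' 𝒳.p φ.hom.left (tw φ)).trans (by simp; rfl) }
  let η := (Stk.resSieve R 𝒳).objPreimage F
  let i : BasedFunctor.comp (Stk.sieveIncl R) η ≅ F := (Stk.resSieve R 𝒳).objObjPreimageIso F
  let zs : ∀ z : Over V, Ta z ∨ Tb z → (Stk.sieveCat R).obj := fun z h => ⟨z, h⟩
  let io : ∀ (z : Over V) (h : Ta z ∨ Tb z), η.obj z ≅ ob (zs z h) := fun z h => appIso i (zs z h)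
  have iol : ∀ z h, 𝒳.p.IsHomLift (𝟙 z.left) (io z h).hom := fun z h => isHomLift_appIso_hom i (zs z h) rfl
  have ion : ∀ {z z' : Over V} (φ : z ⟶ z') h h', η.map φ ≫ (io z' h').hom =
      (io z h).hom ≫ tw (ObjectProperty.homMk φ : zs z h ⟶ zs z' h') := fun φ h h' =>
    i.hom.toNatTrans.naturality (ObjectProperty.homMk φ : zs _ h ⟶ zs _ h')
  refine ⟨η,
    { app := fun z h => io z (Or.inl h) ≪≫ ca (zs z (Or.inl h)) h
      lift := fun z h => ?_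
      nat := fun {z z'} φ h h' => ?_ },
    { app := fun z h => io z (Or.inr h) ≪≫ cb (zs z (Or.inr h)) h
      lift := fun z h => ?_
      nat := fun {z z'} φ h h' => ?_ }, fun z h₁ h₂ => ?_⟩
  · haveI := iol z (Or.inl h)
    haveI : 𝒳.p.IsHomLift (𝟙 z.left) (ca (zs z (Or.inl h)) h).hom := hca (zs z (Or.inl h)) h
    show 𝒳.p.IsHomLift (𝟙 z.left) ((io z (Or.inl h)).hom ≫ (ca (zs z (Or.inl h)) h).hom)
    infer_instance
  · simp only [Iso.trans_hom, Category.assoc]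
    rw [← Category.assoc, ion φ (Or.inl h) (Or.inl h'), Category.assoc]
    exact congrArg (fun w => (io z (Or.inl h)).hom ≫ w) (twa (ObjectProperty.homMk φ : zs z (Or.inl h) ⟶ zs z' (Or.inl h')) h')
  · haveI := iol z (Or.inr h)
    haveI : 𝒳.p.IsHomLift (𝟙 z.left) (cb (zs z (Or.inr h)) h).hom := hcb (zs z (Or.inr h)) h
    show 𝒳.p.IsHomLift (𝟙 z.left) ((io z (Or.inr h)).hom ≫ (cb (zs z (Or.inr h)) h).hom)
    infer_instance
  · simp only [Iso.trans_hom, Category.assoc]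
    rw [← Category.assoc, ion φ (Or.inr h) (Or.inr h'), Category.assoc]
    exact congrArg (fun w => (io z (Or.inr h)).hom ≫ w) (twb (ObjectProperty.homMk φ : zs z (Or.inr h) ⟶ zs z' (Or.inr h')) h')
  · show (io z (Or.inl h₁) ≪≫ ca (zs z (Or.inl h₁)) h₁) ≪≫ α.app z ⟨h₁, h₂⟩ =
      io z (Or.inr h₂) ≪≫ cb (zs z (Or.inr h₂)) h₂
    rw [Iso.trans_assoc]
    simp only [cb]
    rw [dif_pos (show Ta (zs z (Or.inr h₂)).obj from h₁)]

namespace Iso1

variable {A B T T' : Over S} {X : FibCat.overCat A ⥤ᵇ 𝒳} {Y : FibCat.overCat B ⥤ᵇ 𝒳}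

/-- the image of an isomorphism -/
noncomputable def map {g : T ⟶ A} {t : T ⟶ B} {𝒴 : AlgSt.Cat S} (f : 𝒳 ⥤ᵇ 𝒴) (e : Iso1 X g Y t) :
    Iso1 (BasedFunctor.comp X f) g (BasedFunctor.comp Y f) t where
  iso := f.toFunctor.mapIso e.iso
  lift := haveI := e.lift; BasedFunctor.preserves_isHomLift f (𝟙 T) e.iso.hom

theorem map_trans {C : Over S} {Z : FibCat.overCat C ⥤ᵇ 𝒳} {g : T ⟶ A} {t : T ⟶ B} {s : T ⟶ C} {𝒴 : AlgSt.Cat S}
    (f : 𝒳 ⥤ᵇ 𝒴) (e : Iso1 X g Y t) (e' : Iso1 Y t Z s) : map f (e.trans e') = (map f e).trans (map f e') :=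
  Iso1.ext (f.toFunctor.mapIso_trans _ _)

theorem map_symm {g : T ⟶ A} {t : T ⟶ B} {𝒴 : AlgSt.Cat S} (f : 𝒳 ⥤ᵇ 𝒴) (e : Iso1 X g Y t) :
    map f e.symm = (map f e).symm :=
  Iso1.ext (f.toFunctor.mapIso_symm _)

theorem pb_map {g : T ⟶ A} {t : T ⟶ B} {g' : T' ⟶ A} {t' : T' ⟶ B} {𝒴 : AlgSt.Cat S} (f : 𝒳 ⥤ᵇ 𝒴)
    (g𝒳 : FibCat.IsFibGrpd 𝒳.p) (g𝒴 : FibCat.IsFibGrpd 𝒴.p) (e : Iso1 X g Y t) (k : T' ⟶ T) (hg : k ≫ g = g')
    (ht : k ≫ t = t') : pb g𝒴 (map f e) k hg ht = map f (pb g𝒳 e k hg ht) := by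
  refine pb_unique g𝒴 _ ?_
  show f.map (pb g𝒳 e k hg ht).iso.hom ≫ f.map (Y.map (sl k ht)) = f.map (X.map (sl k hg)) ≫ f.map e.iso.hom
  rw [← Functor.map_comp, ← Functor.map_comp, pb_spec]

end Iso1

section Dbl

variable {P Q B₁ B₂ : Over S} (q : P ⟶ Q) [IsOpenImmersion q.left] {Y₁ : FibCat.overCat B₁ ⥤ᵇ 𝒳}
  {Y₂ : FibCat.overCat B₂ ⥤ᵇ 𝒳}

/-- two objects glue to an object on the double -/
theorem exists_glue_dbl (h𝒳 : Stk.IsStack (QuotSh.J Scheme.fppfPrecoverage S) 𝒳) (t₁ : dbl q ⟶ B₁)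
    (t₂ : dbl q ⟶ B₂) (a : Iso1 Y₁ (q ≫ j₁ q ≫ t₁) Y₂ (q ≫ j₁ q ≫ t₂)) :
    ∃ (η : FibCat.overCat (dbl q) ⥤ᵇ 𝒳) (e₁ : Iso1 η (j₁ q) Y₁ (j₁ q ≫ t₁))
      (e₂ : Iso1 η (j₂ q) Y₂ (j₂ q ≫ t₂)),
      (Iso1.pb h𝒳.1 e₁ q rfl rfl).trans a =
        Iso1.pb h𝒳.1 e₂ q (q_j q).symm (by rw [← Category.assoc, ← q_j, Category.assoc]) := by
  choose l hl using fun (z : Over (dbl q)) (h : T₁ q z ∧ T₂ q z) =>
    (show ∃ l : z.left ⟶ P, l ≫ q ≫ j₁ q = z.hom from by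
      obtain ⟨⟨u, hu⟩, ⟨v, hv⟩⟩ := h
      obtain ⟨l, hl₁, -⟩ := exists_overlap q u v (hu.trans hv.symm)
      exact ⟨l, by rw [reassoc_of% hl₁, hu]⟩)
  let Ya := BasedFunctor.comp (AlgSt.overMap t₁) Y₁
  let Yb := BasedFunctor.comp (AlgSt.overMap t₂) Y₂
  let α' : ∀ (z : Over (dbl q)) (h : T₁ q z ∧ T₂ q z), Iso1 Y₁ (z.hom ≫ t₁) Y₂ (z.hom ≫ t₂) := fun z h =>
    Iso1.pb h𝒳.1 a (l z h) (by rw [← hl z h]; simp only [Category.assoc]) (by rw [← hl z h]; simp only [Category.assoc])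
  let α : LIso (fun z => T₁ q z ∧ T₂ q z) Ya Yb :=
    { app := fun z h => (α' z h).iso
      lift := fun z h => (α' z h).lift
      nat := fun {z z'} φ h h' => by
        haveI : IsOpenImmersion (q ≫ j₁ q).left := inferInstanceAs (IsOpenImmersion (q.left ≫ (j₁ q).left))
        haveI : Mono (q ≫ j₁ q) := Over.mono_of_mono_left _
        have e : l z h = φ.left ≫ l z' h' := by
          rw [← cancel_mono (q ≫ j₁ q), hl, Category.assoc, hl]; exact (Over.w φ).symm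
        have key : Iso1.pb h𝒳.1 (α' z' h') φ.left (g' := z.hom ≫ t₁) (t' := z.hom ≫ t₂)
            (by rw [← Category.assoc, Over.w φ]) (by rw [← Category.assoc, Over.w φ]) = α' z h := by
          rw [Iso1.pb_pb]; exact (Iso1.pb_congr h𝒳.1 a e.symm _ _)
        have h2 := Iso1.pb_spec h𝒳.1 (α' z' h') φ.left (g' := z.hom ≫ t₁) (t' := z.hom ≫ t₂)
            (by rw [← Category.assoc, Over.w φ]) (by rw [← Category.assoc, Over.w φ])
        rw [key] at h2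
        exact h2.symm }
  obtain ⟨η, Ea, Eb, hab⟩ := exists_glue₂ h𝒳 (mem_J_dbl q) Ya Yb α
  have h₁ : T₁ q (Over.mk (j₁ q)) := ⟨𝟙 _, Category.id_comp _⟩
  have h₂ : T₂ q (Over.mk (j₂ q)) := ⟨𝟙 _, Category.id_comp _⟩
  let e₁ : Iso1 η (j₁ q) Y₁ (j₁ q ≫ t₁) := ⟨Ea.app _ h₁, Ea.lift _ h₁⟩
  let e₂ : Iso1 η (j₂ q) Y₂ (j₂ q ≫ t₂) := ⟨Eb.app _ h₂, Eb.lift _ h₂⟩
  refine ⟨η, e₁, e₂, ?_⟩
  let zP : Over (dbl q) := Over.mk (q ≫ j₁ q)
  have hA : T₁ q zP := ⟨q, rfl⟩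
  have hB : T₂ q zP := ⟨q, (q_j q).symm⟩
  have k₁ : Iso1.pb h𝒳.1 e₁ q rfl (t' := q ≫ j₁ q ≫ t₁) rfl = ⟨Ea.app zP hA, by
      exact Ea.lift zP hA⟩ := Iso1.pb_unique h𝒳.1 _ (by
    have := Ea.nat (z := zP) (z' := Over.mk (j₁ q)) (Over.homMk q rfl) hA h₁
    exact this.symm)
  have k₂ : Iso1.pb h𝒳.1 e₂ q (q_j q).symm (t' := q ≫ j₁ q ≫ t₂)
      (by rw [← Category.assoc, ← q_j, Category.assoc]) = ⟨Eb.app zP hB, by exact Eb.lift zP hB⟩ :=
    Iso1.pb_unique h𝒳.1 _ (by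
      have := Eb.nat (z := zP) (z' := Over.mk (j₂ q)) (Over.homMk q (q_j q).symm) hB h₂
      exact this.symm)
  have hl0 : l zP ⟨hA, hB⟩ = 𝟙 _ := by
    haveI : IsOpenImmersion (q ≫ j₁ q).left := inferInstanceAs (IsOpenImmersion (q.left ≫ (j₁ q).left))
    haveI : Mono (q ≫ j₁ q) := Over.mono_of_mono_left _
    rw [← cancel_mono (q ≫ j₁ q), hl, Category.id_comp]
    rfl
  have kα : (α' zP ⟨hA, hB⟩) = a := by
    show Iso1.pb h𝒳.1 a _ _ _ = _
    rw [Iso1.pb_congr h𝒳.1 a hl0]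
    exact Iso1.pb_id h𝒳.1 a
  rw [k₁, k₂]
  refine Iso1.ext ?_
  show Ea.app zP hA ≪≫ a.iso = Eb.app zP hB
  rw [← hab zP hA hB]
  exact congrArg (fun w => Ea.app zP hA ≪≫ w) (congrArg Iso1.iso kα).symm

end Dbl

end Groth.Agent.IsoNat5
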