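import Groth.Agent.Lib.IsoNat5.HomCorr

/-!
Bijectivity of the correspondence of isomorphisms.
-/

universe u

open CategoryTheory CategoryTheory.Functor CategoryTheory.Limits AlgebraicGeometry Opposite

set_option linter.style.haveILetI false
set_option linter.unusedSectionVars false
set_option backward.isDefEq.respectTransparency false
set_option backward.isDefEq.respectTransparency.types false

namespace Groth.Agent.IsoNat5

open Groth.Agent.FC16 Groth.Agent.StAlg Groth.Agent.StAlg16 AlgSt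

variable {S : Scheme.{u}} {𝒳 𝒴 𝒵 : AlgSt.Cat S} {U : Over S} {g𝒳 : FibCat.IsFibGrpd 𝒳.p}
  {g𝒴 : FibCat.IsFibGrpd 𝒴.p} {g𝒵 : FibCat.IsFibGrpd 𝒵.p} {x : FibCat.overCat U ⥤ᵇ 𝒳}
  {y : FibCat.overCat U ⥤ᵇ 𝒴} {z : FibCat.overCat U ⥤ᵇ 𝒵}

namespace HomMap

/-- composition -/
def comp (H : HomMap g𝒳 g𝒴 x y) (G : HomMap g𝒴 g𝒵 y z) : HomMap g𝒳 g𝒵 x z where
  map a := G.map (H.map a)
  map_pb a h hs ht := by rw [H.map_pb, G.map_pb]
  map_trans a b := by rw [H.map_trans, G.map_trans]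

theorem map_refl (H : HomMap g𝒳 g𝒴 x y) {T : Over S} (s : T ⟶ U) : H.map (Iso1.refl x s) = Iso1.refl y s := by
  have h := H.map_trans (Iso1.refl x s) (Iso1.refl x s)
  rw [Iso1.refl_trans] at h
  refine Iso1.trans_left_cancel (H.map (Iso1.refl x s)) ?_
  rw [Iso1.trans_refl]
  exact h.symm

theorem map_symm (H : HomMap g𝒳 g𝒴 x y) {T : Over S} {s t : T ⟶ U} (a : Iso1 x s x t) :
    H.map a.symm = (H.map a).symm := by
  refine Iso1.trans_left_cancel (H.map a) ?_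
  rw [← H.map_trans, Iso1.trans_symm, Iso1.trans_symm, H.map_refl]

end HomMap

/-- an endomorphism of the correspondence of a rigid smooth chart is trivial -/
theorem homMap_self_eq (h𝒳 : Stk.IsStack (QuotSh.J Scheme.fppfPrecoverage S) 𝒳)
    (hx : AlgSt.RepByAlgSpWith (AlgSp.LocP @Smooth) x) (hR : Rigid x) (G : HomMap h𝒳.1 h𝒳.1 x x)
    {T : Over S} {s t : T ⟶ U} (a : Iso1 x s x t) : G.map a = a := by
  obtain ⟨F, e, he, hsm⟩ := hx U x
  obtain ⟨W, p, hpe, hps⟩ := F.property.atlas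
  let π := AlgSt.spMapOfOver (BasedFunctor.comp e (FibCat.fpFst x x))
  obtain ⟨k, hk⟩ := (AlgSp.yon S).map_surjective (p ≫ π)
  haveI hks : Smooth k.left := hsm p (𝟙 _) k hpe (AlgSp.repWith_id _ _)
    (by rw [Category.comp_id]; exact hk.symm)
  obtain ⟨ξ, hξ⟩ := exists_secObj he p k hk.symm
  obtain ⟨uW, αW, hαW'⟩ := exists_iso1_of_secObj he ξ
  have hαW : (secObjOf αW).sec he = p := hαW'.trans hξ
  obtain ⟨E, cE, f₁, sqE⟩ := (Functor.relativelyRepresentable.of_diag F.property.diag p) ((secObjOf a).sec he)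
  obtain ⟨aE, rfl⟩ := (AlgSp.yon S).map_surjective f₁
  haveI : Etale cE.left := hpe.2 _ _ _ sqE
  haveI : Surjective cE.left := hps.2 _ _ _ sqE
  refine iso1_eq_of_cover h𝒳 _ _ (AlgSpace.mem_J_of_singleton cE (Sieve.generate (Presieve.singleton cE))
    (Sieve.le_generate _ _ _ ⟨⟩)) ?_
  rintro T' g ⟨_, l, _, ⟨⟩, rfl⟩
  have ht : aE ≫ k = cE ≫ t := (AlgSp.yon S).map_injective (by
    rw [Functor.map_comp, Functor.map_comp, hk, ← Category.assoc, sqE.w, Category.assoc]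
    exact congrArg _ ((secObjOf a).sec_comp he))
  have h := sqE.w
  rw [← hαW, secObjOf_pb h𝒳.1 he αW aE rfl ht, secObjOf_pb h𝒳.1 he a cE rfl rfl] at h
  obtain ⟨hs, he'⟩ := eq_of_secObjOf_eq he _ _ h
  have hW : G.map αW = αW := hR W uW k hks _ _
  have key : Iso1.pb h𝒳.1 (G.map a) cE rfl rfl = Iso1.pb h𝒳.1 a cE rfl rfl := by
    have h2 : Iso1.pb h𝒳.1 a cE (g' := aE ≫ uW) (t' := cE ≫ t) hs.symm rfl =
        Iso1.pb h𝒳.1 αW aE rfl ht := by
      rw [he']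
      have h3 := Iso1.pb_trans h𝒳.1 (Iso1.refl x s) a cE (g' := aE ≫ uW) (t' := cE ≫ s) (s' := cE ≫ t) hs.symm rfl rfl
      rw [Iso1.refl_trans] at h3
      rw [h3]
      congr 1
      exact Iso1.pb_ofEq h𝒳.1 (rfl : s = s) cE hs.symm rfl
    have h5 : Iso1.pb h𝒳.1 (G.map a) cE (g' := aE ≫ uW) (t' := cE ≫ t) hs.symm rfl =
        Iso1.pb h𝒳.1 a cE (g' := aE ≫ uW) (t' := cE ≫ t) hs.symm rfl := by
      rw [← G.map_pb a cE hs.symm rfl, h2, G.map_pb, hW]
    have h4 := congrArg (fun w => Iso1.pb h𝒳.1 w (𝟙 E) (g' := cE ≫ s) (t' := cE ≫ t)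
      ((Category.id_comp _).trans hs) (Category.id_comp _)) h5
    simp only [Iso1.pb_pb] at h4
    exact (Iso1.pb_congr h𝒳.1 _ (Category.id_comp cE).symm _ _).trans
      (h4.trans (Iso1.pb_congr h𝒳.1 _ (Category.id_comp cE) _ _))
  have h6 := congrArg (fun w => Iso1.pb h𝒳.1 w l (g' := (l ≫ cE) ≫ s) (t' := (l ≫ cE) ≫ t)
    (Category.assoc _ _ _).symm (Category.assoc _ _ _).symm) key
  simpa only [Iso1.pb_pb] using h6

end Groth.Agent.IsoNat5
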