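import Groth.Agent.Lib.IsoNat5.Sections
import Groth.Agent.Lib.IsoNat5.Dual
import Groth.Agent.Lib.AlgSpace.LocP

/-!
Uniqueness of infinitesimal lifts along unramified charts, and of isomorphisms by separatedness.
-/

universe u

open CategoryTheory CategoryTheory.Functor CategoryTheory.Limits AlgebraicGeometry Opposite

set_option linter.style.haveILetI false
set_option linter.unusedSectionVars false
set_option backward.isDefEq.respectTransparency false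
set_option backward.isDefEq.respectTransparency.types false

namespace Groth.Agent.IsoNat5

open Groth.Agent.FC16 Groth.Agent.StAlg AlgSt

variable {S : Scheme.{u}} {𝒳 : AlgSt.Cat S} {U V : Over S}

/-- a chart with the two sides of an isomorphism -/
noncomputable def secObjOf {x : FibCat.overCat U ⥤ᵇ 𝒳} {z : FibCat.overCat V ⥤ᵇ 𝒳} {T : Over S} {u : T ⟶ U}
    {v : T ⟶ V} (e : Iso1 x u z v) : SecObj z x v where
  obj := ⟨Over.mk u, rfl⟩
  iso := e.iso.symm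
  lift := e.symm.lift

theorem secObjOf_pb (h𝒳 : FibCat.IsFibGrpd 𝒳.p) {x : FibCat.overCat U ⥤ᵇ 𝒳} {z : FibCat.overCat V ⥤ᵇ 𝒳}
    {F : AlgSp.Sp S} {e : AlgSt.ofSp F ⥤ᵇ FibCat.fp z x} (he : FibCat.IsEquivOver e)
    {T T' : Over S} {u : T ⟶ U} {v : T ⟶ V} {u' : T' ⟶ U} {v' : T' ⟶ V} (i : Iso1 x u z v) (f : T' ⟶ T)
    (hu : f ≫ u = u') (hv : f ≫ v = v') :
    (AlgSp.yon S).map f ≫ (secObjOf i).sec he = (secObjOf (Iso1.pb h𝒳 i f hu hv)).sec he :=
  SecObj.sec_map he (secObjOf (Iso1.pb h𝒳 i f hu hv)) (secObjOf i) f hv (sl f hu)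
    (IsHomLift.map (FibCat.overCat U).p (sl f hu)) (by
      show z.map (sl f hv) ≫ i.iso.inv = (Iso1.pb h𝒳 i f hu hv).iso.inv ≫ x.map (sl f hu)
      rw [Iso.eq_inv_comp, ← Category.assoc, Iso.comp_inv_eq, Iso1.pb_spec])

/-- equal sections give equal isomorphisms -/
theorem eq_of_secObjOf_eq {x : FibCat.overCat U ⥤ᵇ 𝒳} {z : FibCat.overCat V ⥤ᵇ 𝒳}
    {F : AlgSp.Sp S} {e : AlgSt.ofSp F ⥤ᵇ FibCat.fp z x} (he : FibCat.IsEquivOver e)
    {T : Over S} {u₁ u₂ : T ⟶ U} {v : T ⟶ V} (i₁ : Iso1 x u₁ z v) (i₂ : Iso1 x u₂ z v)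
    (h : (secObjOf i₁).sec he = (secObjOf i₂).sec he) :
    ∃ hu : u₁ = u₂, i₁ = (Iso1.ofEq x hu).trans i₂ := by
  obtain ⟨b, hb, hbw⟩ := SecObj.exists_iso_of_sec_eq he _ _ h
  change Over.mk u₁ ⟶ Over.mk u₂ at b
  have hl : b.left = 𝟙 T := by
    haveI : (FibCat.overCat U).p.IsHomLift (𝟙 T) b := hb
    exact (IsHomLift.fac' (FibCat.overCat U).p (𝟙 T) b).trans (by simp; rfl)
  have hu : u₁ = u₂ := by
    have := Over.w b
    rw [hl] at this
    exact this.symm.trans (Category.id_comp _)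
  subst hu
  have hb1 : b = 𝟙 _ := Over.OverMorphism.ext hl
  subst hb1
  refine ⟨rfl, ?_⟩
  rw [Iso1.ofEq_rfl, Iso1.refl_trans]
  refine Iso1.ext (Iso.ext ?_)
  have h2 : i₂.iso.inv = i₁.iso.inv := by
    have : i₂.iso.inv = i₁.iso.inv ≫ x.map (𝟙 (Over.mk u₁)) := hbw
    rwa [CategoryTheory.Functor.map_id, Category.comp_id] at this
  have h3 : i₁.iso.symm = i₂.iso.symm := Iso.ext h2.symm
  exact congrArg (fun r => r.inv) h3

/-- lifts along an unramified chart are unique -/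
theorem eq_of_unramified (h𝒳 : FibCat.IsFibGrpd 𝒳.p) {x : FibCat.overCat U ⥤ᵇ 𝒳}
    (hx : AlgSt.RepByAlgSpWith (AlgSp.LocP @FormallyUnramified) x) {z : FibCat.overCat V ⥤ᵇ 𝒳}
    {A : CommRingCat.{u}} (I : Ideal A) (hI : I ^ 2 = ⊥) (str : Spec A ⟶ S) {u₁ u₂ : Over.mk str ⟶ U}
    {v : Over.mk str ⟶ V} (e₁ : Iso1 x u₁ z v) (e₂ : Iso1 x u₂ z v) (hu : thick I str ≫ u₁ = thick I str ≫ u₂)
    (he : Iso1.pb h𝒳 e₁ (thick I str) rfl rfl = Iso1.pb h𝒳 e₂ (thick I str) hu.symm rfl) :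
    ∃ h : u₁ = u₂, e₁ = (Iso1.ofEq x h).trans e₂ := by
  obtain ⟨F, e, hee, hP⟩ := hx V z
  have hF := AlgSpDescent.isFormallyUnramifiedMor_iff_locP F.property (AlgSp.IsAlgSpace.yon_obj V)
    (AlgSt.spMapOfOver (BasedFunctor.comp e (FibCat.fpFst z x)))
  let sq : AlgSp.InfSq (AlgSt.spMapOfOver (BasedFunctor.comp e (FibCat.fpFst z x))) :=
    ⟨A, I, hI, str, (secObjOf (Iso1.pb h𝒳 e₁ (thick I str) rfl rfl)).sec hee, (AlgSp.yon S).map v,
      ((secObjOf (Iso1.pb h𝒳 e₁ (thick I str) rfl rfl)).sec_comp hee).trans (Functor.map_comp _ _ _)⟩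
  refine eq_of_secObjOf_eq hee e₁ e₂ (hF.2 hP sq _ _ ?_ ?_ ?_ ?_)
  · exact secObjOf_pb h𝒳 hee e₁ (thick I str) rfl rfl
  · exact (secObjOf e₁).sec_comp hee
  · exact (secObjOf_pb h𝒳 hee e₂ (thick I str) hu.symm rfl).trans
      (congrArg (fun r => (secObjOf r).sec hee) he.symm)
  · exact (secObjOf e₂).sec_comp hee

theorem pair_isoToSelf (X Y : FibCat.overCat V ⥤ᵇ 𝒳) :
    Nonempty (BasedFunctor.comp X (FibCat.toSelf 𝒳) ≅ BasedFunctor.comp Y (FibCat.toSelf 𝒳)) :=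
  ⟨BasedNatIso.mkNatIso
    (NatIso.ofComponents (fun a => eqToIso ((X.w_obj a).trans (Y.w_obj a).symm)) fun {a b} φ => by
      show 𝒳.p.map (X.map φ) ≫ eqToHom ((X.w_obj b).trans (Y.w_obj b).symm) =
        eqToHom ((X.w_obj a).trans (Y.w_obj a).symm) ≫ 𝒳.p.map (Y.map φ)
      rw [FC16.map_heq X φ, FC16.map_heq Y φ]
      simp)
    (fun a => by
      refine IsHomLift.of_fac' _ _ _ ((X.w_obj a)) ((Y.w_obj a)) ?_
      show eqToHom ((X.w_obj a).trans (Y.w_obj a).symm) = _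
      simp)⟩

/-- isomorphisms are determined on schematically dense pieces, the diagonal being separated -/
theorem eq_of_dense (h𝒳 : FibCat.IsFibGrpd 𝒳.p)
    (hd : AlgSt.RepByAlgSpWith AlgSp.IsSeparatedMor (FibCat.diag (FibCat.toSelf 𝒳))) {A B W W' : Over S}
    [IsAffine W.left] {X : FibCat.overCat A ⥤ᵇ 𝒳} {Y : FibCat.overCat B ⥤ᵇ 𝒳} {g : W ⟶ A} {t : W ⟶ B}
    (q : W' ⟶ W) (hq : Function.Injective q.left.appTop) (e e' : Iso1 X g Y t)
    (h : Iso1.pb h𝒳 e q rfl rfl = Iso1.pb h𝒳 e' q rfl rfl) : e = e' := by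
  let X' := BasedFunctor.comp (AlgSt.overMap g) X
  let Y' := BasedFunctor.comp (AlgSt.overMap t) Y
  obtain ⟨i⟩ := pair_isoToSelf X' Y'
  let z := FibCat.fpLift X' Y' i
  obtain ⟨F, E, hE, hsep⟩ := hd W z
  let cx := Iso1.ofEq X (Category.id_comp g)
  let cy := Iso1.ofEq Y (Category.id_comp t).symm
  let full : Iso1 X g Y t → Iso1 X (𝟙 W ≫ g) Y (𝟙 W ≫ t) := fun d => (cx.trans d).trans cy
  let mk : ∀ {T : Over S} {v : T ⟶ W} (_ : Iso1 X (v ≫ g) Y (v ≫ t)),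
      SecObj z (FibCat.diag (FibCat.toSelf 𝒳)) v := fun {T v} d =>
    { obj := ⟨Y.obj (Over.mk (v ≫ t)), Y.w_obj _⟩
      iso := fpIsoMk d.iso (Iso.refl _) (by
        show 𝒳.p.map d.iso.hom ≫ 𝟙 _ = (appIso i (Over.mk v)).hom ≫ 𝒳.p.map (𝟙 _)
        haveI := d.lift
        haveI : (FibCat.selfOver (Over S)).p.IsHomLift (𝟙 T) (appIso i (Over.mk v)).hom :=
          isHomLift_appIso_hom i _ rfl
        rw [CategoryTheory.Functor.map_id, Category.comp_id]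
        have e1 : 𝒳.p.map d.iso.hom = eqToHom (X.w_obj (Over.mk (v ≫ g))) ≫ 𝟙 T ≫
            eqToHom (Y.w_obj (Over.mk (v ≫ t))).symm := IsHomLift.fac' 𝒳.p (𝟙 T) d.iso.hom
        have e2 : (appIso i (Over.mk v)).hom = eqToHom (X.w_obj (Over.mk (v ≫ g))) ≫ 𝟙 T ≫
            eqToHom (Y.w_obj (Over.mk (v ≫ t))).symm :=
          IsHomLift.fac' (FibCat.selfOver (Over S)).p (𝟙 T) (appIso i (Over.mk v)).hom
        exact e1.trans (e2.symm.trans (Category.comp_id _).symm))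
      lift := @isHomLift_of_fst _ _ _ _ _ _ _ _ _ _ _ _ _ d.lift }
  have hs : (mk (full e)).sec hE = (mk (full e')).sec hE := by
    refine eq_of_separated_dense hsep q hq _ _ ((SecObj.sec_comp hE _).trans (SecObj.sec_comp hE _).symm) ?_
    have key : ∀ d : Iso1 X g Y t, (AlgSp.yon S).map q ≫ (mk (full d)).sec hE =
        (mk (Iso1.pb h𝒳 d q rfl rfl)).sec hE := fun d =>
      SecObj.sec_map hE (mk (Iso1.pb h𝒳 d q rfl rfl)) (mk (full d)) q (Category.comp_id q)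
        (Y.map (sl q (show q ≫ 𝟙 W ≫ t = q ≫ t by rw [Category.id_comp]))) (map_sl_lift Y _ _) (by
          have hfull : Iso1.pb h𝒳 (full d) q (g' := q ≫ g) (t' := q ≫ t)
              (by rw [Category.id_comp]) (by rw [Category.id_comp]) = Iso1.pb h𝒳 d q rfl rfl := by
            simp only [full]
            rw [Iso1.pb_trans h𝒳 _ cy q (hs := by rw [Category.id_comp]) (ht := rfl),
              Iso1.pb_trans h𝒳 cx d q (hs := rfl) (ht := rfl), Iso1.pb_ofEq, Iso1.pb_ofEq,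
              Iso1.ofEq_rfl, Iso1.ofEq_rfl, Iso1.refl_trans, Iso1.trans_refl]
          have hspec := Iso1.pb_spec h𝒳 (full d) q (g' := q ≫ g) (t' := q ≫ t)
              (by rw [Category.id_comp]) (by rw [Category.id_comp])
          rw [hfull] at hspec
          refine fp_hom_ext ?_ ?_
          · show X.map _ ≫ (full d).iso.hom = (Iso1.pb h𝒳 d q rfl rfl).iso.hom ≫ Y.map _
            exact hspec.symm
          · show Y.map _ ≫ 𝟙 _ = 𝟙 _ ≫ Y.map _
            rw [Category.comp_id, Category.id_comp]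
            rfl)
    rw [key e, key e', h]
  obtain ⟨b, hb, hbw⟩ := SecObj.exists_iso_of_sec_eq hE _ _ hs
  have h2 : 𝟙 _ = 𝟙 _ ≫ b := congrArg (fun r => r.hom.snd) hbw
  rw [Category.id_comp] at h2
  subst h2
  have h1 : (full e').iso.hom = (full e).iso.hom ≫ 𝟙 _ := congrArg (fun r => r.hom.fst) hbw
  rw [Category.comp_id] at h1
  exact Iso1.trans_left_cancel cx (Iso1.trans_right_cancel cy (Iso1.ext (Iso.ext h1.symm)))

end Groth.Agent.IsoNat5
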