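import Groth.Agent.Lib.IsoNat5.Dbl
import Groth.Agent.Lib.IsoNat5.Unique
import Mathlib.Algebra.Polynomial.Eval.Coeff

/-!
Infinitesimal automorphisms and tangent injectivity of charts, and their transfer
along isomorphisms of presheaves of isomorphism classes.
-/

universe u

open CategoryTheory CategoryTheory.Functor CategoryTheory.Limits AlgebraicGeometry Opposite TrivSqZeroExt

set_option linter.style.haveILetI false
set_option linter.unusedSectionVars false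
set_option backward.isDefEq.respectTransparency false
set_option backward.isDefEq.respectTransparency.types false

namespace Groth.Agent.IsoNat5

open Groth.Agent.FC16 Groth.Agent.StAlg AlgSt

variable {S : Scheme.{u}} {K : Type u} [CommRing K] (str : Spec (CommRingCat.of K) ⟶ S)

theorem specK_comp_eq {B C C' D : Type u} [CommRing B] [CommRing C] [CommRing C'] [CommRing D] {f : K →+* B}
    {g : K →+* C} {g' : K →+* C'} {k : K →+* D} {φ : B →+* C} {h : φ.comp f = g} {ψ : C →+* D} {h' : ψ.comp g = k}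
    {φ' : B →+* C'} {h₂ : φ'.comp f = g'} {ψ' : C' →+* D} {h₂' : ψ'.comp g' = k} (e : ψ.comp φ = ψ'.comp φ') :
    specK str ψ h' ≫ specK str φ h = specK str ψ' h₂' ≫ specK str φ' h₂ := by
  rw [specK_comp, specK_comp]
  exact specK_congr str e _

theorem specK_comp_one {B C D : Type u} [CommRing B] [CommRing C] [CommRing D] {f : K →+* B}
    {g : K →+* C} {k : K →+* D} {φ : B →+* C} {h : φ.comp f = g} {ψ : C →+* D} {h' : ψ.comp g = k}
    {φ' : B →+* D} {h₂ : φ'.comp f = k} (e : ψ.comp φ = φ') : specK str ψ h' ≫ specK str φ h = specK str φ' h₂ := by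
  rw [specK_comp]
  exact specK_congr str e _

/-- `ε ↦ 0` on `Spec B[ε]` -/
noncomputable abbrev rho {B : Type u} [CommRing B] (f : K →+* B) : dualK str f ⟶ dualK str f :=
  specK str (mapD (RingHom.id B) 0) (RingHom.ext fun x => by ext <;> simp)

theorem rho_rho {B : Type u} [CommRing B] (f : K →+* B) : rho str f ≫ rho str f = rho str f :=
  specK_comp_one str (RingHom.ext fun x => by ext <;> simp)

/-- the point -/
noncomputable abbrev ptK : Over S := overK str (RingHom.id K)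

/-- the tangent vector to the point -/
noncomputable abbrev prK : dualK str (RingHom.id K) ⟶ ptK str :=
  specK str (cst (A := K)) rfl

/-- the closed point of the tangent vector -/
noncomputable abbrev i0K : ptK str ⟶ dualK str (RingHom.id K) :=
  specK str (red (A := K)) (RingHom.ext fun x => by simp)

theorem i0K_prK : i0K str ≫ prK str = 𝟙 _ := by
  rw [specK_comp]
  exact (specK_congr str (red_comp_cst) _).trans (specK_id str _)

theorem rho_eq : rho str (RingHom.id K) = prK str ≫ i0K str := by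
  symm
  exact specK_comp_one str cst_comp_red

theorem rho_prK : rho str (RingHom.id K) ≫ prK str = prK str := by
  rw [rho_eq, Category.assoc, i0K_prK, Category.comp_id]

theorem i0K_rho : i0K str ≫ rho str (RingHom.id K) = i0K str := by
  rw [rho_eq, ← Category.assoc, i0K_prK, Category.id_comp]

variable {𝒳 𝒴 : AlgSt.Cat S} {U : Over S}

theorem thick_rho {B : Type u} [CommRing B] (f : K →+* B) :
    thick (A := CommRingCat.of (DualNumber B)) (RingHom.ker (red (A := B)))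
        (Spec.map (CommRingCat.ofHom ((cst (A := B)).comp f)) ≫ str) ≫ rho str f =
      thick (A := CommRingCat.of (DualNumber B)) (RingHom.ker (red (A := B)))
        (Spec.map (CommRingCat.ofHom ((cst (A := B)).comp f)) ≫ str) := by
  apply Over.OverMorphism.ext
  show Spec.map _ ≫ Spec.map _ = Spec.map _
  rw [← Spec.map_comp]
  congr 1
  apply CommRingCat.hom_ext
  refine RingHom.ext fun r : DualNumber B => ?_
  refine Ideal.Quotient.eq.2 ?_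
  show (mapD (RingHom.id B) 0 r - r).fst = 0
  simp

theorem pb_eq_of_factor {T T₀ V : Over S} (h𝒳 : FibCat.IsFibGrpd 𝒳.p) {x : FibCat.overCat U ⥤ᵇ 𝒳}
    {z : FibCat.overCat V ⥤ᵇ 𝒳} {u₁ u₂ : T ⟶ U} {v : T ⟶ V} (e₁ : Iso1 x u₁ z v) (e₂ : Iso1 x u₂ z v)
    {u' : T ⟶ U} {v' : T ⟶ V} {ρ : T ⟶ T} (hu₁ : ρ ≫ u₁ = u') (hu₂ : ρ ≫ u₂ = u') (hv : ρ ≫ v = v')
    (he : Iso1.pb h𝒳 e₁ ρ hu₁ hv = Iso1.pb h𝒳 e₂ ρ hu₂ hv) {j : T₀ ⟶ T} (hj : j ≫ ρ = j) :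
    ∃ h : j ≫ u₁ = j ≫ u₂, Iso1.pb h𝒳 e₁ j rfl rfl = Iso1.pb h𝒳 e₂ j h.symm rfl := by
  have h1 : j ≫ u₁ = j ≫ u' := by conv_lhs => rw [← hj, Category.assoc, hu₁]
  have h2 : j ≫ u₂ = j ≫ u' := by conv_lhs => rw [← hj, Category.assoc, hu₂]
  have h3 : j ≫ v' = j ≫ v := by rw [← hv, ← Category.assoc, hj]
  refine ⟨h1.trans h2.symm, ?_⟩
  have key := congrArg (fun w => Iso1.pb h𝒳 w j h1.symm h3) he
  simp only [Iso1.pb_pb] at key
  exact (Iso1.pb_congr h𝒳 e₁ hj.symm rfl rfl).trans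
    (key.trans (Iso1.pb_congr h𝒳 e₂ hj (by rw [hj]; exact (h1.trans h2.symm).symm) (by rw [hj])))

theorem exists_normalised {T : Over S} (h𝒳 : FibCat.IsFibGrpd 𝒳.p) {x : FibCat.overCat U ⥤ᵇ 𝒳} {ρ : T ⟶ T}
    (hρρ : ρ ≫ ρ = ρ) {u : T ⟶ U} (e : Iso1 x u x (ρ ≫ u)) (hρ : ρ ≫ ρ ≫ u = ρ ≫ u) :
    ∃ e' : Iso1 x u x (ρ ≫ u),
      Iso1.pb h𝒳 e' ρ (g' := ρ ≫ u) (t' := ρ ≫ u) rfl hρ = Iso1.pb h𝒳 (Iso1.refl x (ρ ≫ u)) ρ hρ hρ := by
  let d := Iso1.pb h𝒳 e ρ (g' := ρ ≫ u) (t' := ρ ≫ u) rfl hρ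
  have hd : Iso1.pb h𝒳 d ρ hρ hρ = d := by
    simp only [d, Iso1.pb_pb]
    exact Iso1.pb_congr h𝒳 e hρρ _ _
  refine ⟨e.trans d.symm, ?_⟩
  rw [Iso1.pb_trans h𝒳 e d.symm ρ rfl hρ hρ, Iso1.pb_symm h𝒳 d ρ hρ hρ, hd, Iso1.pb_refl]
  exact Iso1.trans_symm d

/-- uniqueness of lifts, for dual numbers -/
theorem eq_of_unramified_rho (h𝒳 : FibCat.IsFibGrpd 𝒳.p) {x : FibCat.overCat U ⥤ᵇ 𝒳}
    (hx : AlgSt.RepByAlgSpWith (AlgSp.LocP @FormallyUnramified) x) {V : Over S} {z : FibCat.overCat V ⥤ᵇ 𝒳}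
    {B : Type u} [CommRing B] (f : K →+* B) {u₁ u₂ : dualK str f ⟶ U} {v : dualK str f ⟶ V}
    (e₁ : Iso1 x u₁ z v) (e₂ : Iso1 x u₂ z v) {u' : dualK str f ⟶ U} {v' : dualK str f ⟶ V}
    (hu₁ : rho str f ≫ u₁ = u') (hu₂ : rho str f ≫ u₂ = u') (hv : rho str f ≫ v = v')
    (he : Iso1.pb h𝒳 e₁ (rho str f) hu₁ hv = Iso1.pb h𝒳 e₂ (rho str f) hu₂ hv) :
    ∃ h : u₁ = u₂, e₁ = (Iso1.ofEq x h).trans e₂ := by
  let A : CommRingCat.{u} := CommRingCat.of (DualNumber B)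
  let I : Ideal A := RingHom.ker (red (A := B))
  let st : Spec A ⟶ S := Spec.map (CommRingCat.ofHom ((cst (A := B)).comp f)) ≫ str
  have hj : thick I st ≫ rho str f = thick I st := thick_rho str f
  obtain ⟨hu, hp⟩ := pb_eq_of_factor h𝒳 e₁ e₂ hu₁ hu₂ hv he hj
  exact eq_of_unramified h𝒳 hx I sq_ker_red st e₁ e₂ hu hp

/-- no infinitesimal automorphisms of the object of a chart at a point -/
def InfAut (h𝒳 : FibCat.IsFibGrpd 𝒳.p) (x : FibCat.overCat U ⥤ᵇ 𝒳) : Prop :=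
  ∀ (K : Type u) [Field K] (str : Spec (CommRingCat.of K) ⟶ S) (u₀ : ptK str ⟶ U)
    (a : Iso1 x (prK str ≫ u₀) x (prK str ≫ u₀)),
    Iso1.pb h𝒳 a (rho str (RingHom.id K)) (g' := prK str ≫ u₀) (t' := prK str ≫ u₀)
        (by rw [← Category.assoc, rho_prK]) (by rw [← Category.assoc, rho_prK]) = Iso1.refl x _ →
      a = Iso1.refl x _

/-- tangent vectors are seen on isomorphism classes -/
def DualInj (x : FibCat.overCat U ⥤ᵇ 𝒳) : Prop :=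
  ∀ (K : Type u) [Field K] (str : Spec (CommRingCat.of K) ⟶ S) (u : dualK str (RingHom.id K) ⟶ U),
    IsoNat.cls (⟨x.obj (Over.mk u), x.w_obj _⟩ : 𝒳.p.Fiber _) =
      IsoNat.cls (⟨x.obj (Over.mk (rho str (RingHom.id K) ≫ u)), x.w_obj _⟩ : 𝒳.p.Fiber _) →
    rho str (RingHom.id K) ≫ u = u

theorem eq_refl_of_unramified (h𝒳 : FibCat.IsFibGrpd 𝒳.p) {x : FibCat.overCat U ⥤ᵇ 𝒳}
    (hx : AlgSt.RepByAlgSpWith (AlgSp.LocP @FormallyUnramified) x) {B : Type u} [CommRing B] {f : K →+* B}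
    {g : dualK str f ⟶ U} (hg : rho str f ≫ g = g) (a : Iso1 x g x g)
    (ha : Iso1.pb h𝒳 a (rho str f) hg hg = Iso1.refl x g) : a = Iso1.refl x g := by
  obtain ⟨h, he⟩ := eq_of_unramified_rho str h𝒳 hx f a (Iso1.refl x g) hg hg hg (by rw [ha, Iso1.pb_refl])
  rwa [Iso1.ofEq_rfl, Iso1.refl_trans] at he

theorem infAut_of_unramified (h𝒳 : FibCat.IsFibGrpd 𝒳.p) {x : FibCat.overCat U ⥤ᵇ 𝒳}
    (hx : AlgSt.RepByAlgSpWith (AlgSp.LocP @FormallyUnramified) x) : InfAut h𝒳 x :=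
  fun _ _ str u₀ a ha => eq_refl_of_unramified str h𝒳 hx (by rw [← Category.assoc, rho_prK]) a ha

theorem dualInj_of_unramified (h𝒳 : FibCat.IsFibGrpd 𝒳.p) {x : FibCat.overCat U ⥤ᵇ 𝒳}
    (hx : AlgSt.RepByAlgSpWith (AlgSp.LocP @FormallyUnramified) x) : DualInj x := by
  intro K _ str u h
  obtain ⟨e⟩ := Iso1.nonempty_of_cls_eq h
  have hρ : rho str (RingHom.id K) ≫ rho str (RingHom.id K) ≫ u = rho str (RingHom.id K) ≫ u := by
    rw [← Category.assoc, rho_rho]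
  obtain ⟨e', he'⟩ := exists_normalised h𝒳 (rho_rho str _) e hρ
  obtain ⟨h, -⟩ := eq_of_unramified_rho str h𝒳 hx _ e' (Iso1.refl x _) rfl hρ hρ he'
  exact h.symm

theorem dualInj_transfer (h𝒴 : FibCat.IsFibGrpd 𝒴.p) (φ : IsoNat.FIso 𝒳 𝒴) {x : FibCat.overCat U ⥤ᵇ 𝒳}
    {y : FibCat.overCat U ⥤ᵇ 𝒴} (h : φ.toEquiv U (IsoNat.objCls x) = IsoNat.objCls y) (hx : DualInj x) : DualInj y :=
  fun K _ str u hu => hx K str u ((φ.toEquiv _).injective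
    ((cls_obj_eq φ h𝒴 h u).trans (hu.trans (cls_obj_eq φ h𝒴 h _).symm)))

theorem pb_refl_of {T T' V : Over S} (h𝒳 : FibCat.IsFibGrpd 𝒳.p) {X : FibCat.overCat V ⥤ᵇ 𝒳} {g : T ⟶ V}
    {a : Iso1 X g X g} (h : a = Iso1.refl X g) (f : T' ⟶ T) {g' : T' ⟶ V} (hg : f ≫ g = g') :
    Iso1.pb h𝒳 a f hg hg = Iso1.refl X g' := by
  subst h
  exact Iso1.pb_refl h𝒳 f hg

/-- the transfer of infinitesimal automorphisms, for abstract test schemes -/
theorem infAut_core (h𝒳 : IsAlgStack Scheme.fppfPrecoverage 𝒳) (h𝒴 : IsAlgStack Scheme.fppfPrecoverage 𝒴)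
    (hd : AlgSt.RepByAlgSpWith AlgSp.IsSeparatedMor (FibCat.diag (FibCat.toSelf 𝒴))) (φ : IsoNat.FIso 𝒳 𝒴)
    {x : FibCat.overCat U ⥤ᵇ 𝒳} {y : FibCat.overCat U ⥤ᵇ 𝒴}
    (hxy : φ.toEquiv U (IsoNat.objCls x) = IsoNat.objCls y)
    {P Q D Pt : Over S} (q : P ⟶ Q) [IsOpenImmersion q.left] [IsAffine Q.left]
    (hq : Function.Injective q.left.appTop) (pQ : Q ⟶ Pt) (pr : D ⟶ Pt) (σ : P ⟶ D) (σ0 : Q ⟶ D) (μ : Q ⟶ Q)
    (μP : P ⟶ P) (z0 : D ⟶ Q) (o : Pt ⟶ Q) (ρQ : Q ⟶ Q) (ρP : P ⟶ P) (ρD : D ⟶ D)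
    (hσp : σ ≫ pr = q ≫ pQ) (hρq : ρP ≫ q = q ≫ ρQ) (hρp : ρQ ≫ pQ = pQ) (hσ0p : σ0 ≫ pr = pQ)
    (hμp : μ ≫ pQ = pQ) (hμq : μP ≫ q = q ≫ μ) (hμσ : μP ≫ σ = q ≫ σ0) (hzσ : z0 ≫ σ0 = 𝟙 D)
    (hzμ : z0 ≫ μ = pr ≫ o) (hρσ : ρP ≫ σ ≫ ρD = ρP ≫ σ) (hρQQ : ρQ ≫ ρQ = ρQ) (hρpr : ρD ≫ pr = pr)
    (hX : ∀ (g : P ⟶ U) (hg : ρP ≫ g = g) (b : Iso1 x g x g),
      Iso1.pb h𝒳.isStack.1 b ρP hg hg = Iso1.refl x g → b = Iso1.refl x g)
    (u₀ : Pt ⟶ U) (a : Iso1 y (pr ≫ u₀) y (pr ≫ u₀))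
    (ha : Iso1.pb h𝒴.isStack.1 a ρD (g' := pr ≫ u₀) (t' := pr ≫ u₀) (by rw [← Category.assoc, hρpr])
      (by rw [← Category.assoc, hρpr]) = Iso1.refl y _) :
    a = Iso1.refl y _ := by
  have gX := h𝒳.isStack.1
  have gY := h𝒴.isStack.1
  -- the double
  let W := dbl q
  let t : W ⟶ U := dblDesc q (pQ ≫ u₀) (pQ ≫ u₀) rfl
  have hj₁ : j₁ q ≫ t = pQ ≫ u₀ := j₁_desc q _ _ _
  have hj₂ : j₂ q ≫ t = pQ ≫ u₀ := j₂_desc q _ _ _
  let ρW : W ⟶ W := dblDesc q (ρQ ≫ j₁ q) (ρQ ≫ j₂ q) (by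
    rw [← Category.assoc, ← hρq, Category.assoc, q_j, ← Category.assoc, hρq, Category.assoc])
  have hρ₁ : j₁ q ≫ ρW = ρQ ≫ j₁ q := j₁_desc q _ _ _
  have hρ₂ : j₂ q ≫ ρW = ρQ ≫ j₂ q := j₂_desc q _ _ _
  have hqt : q ≫ j₁ q ≫ t = σ ≫ pr ≫ u₀ := by rw [hj₁, reassoc_of% hσp]
  have hρt₁ : ρQ ≫ j₁ q ≫ t = j₁ q ≫ t := by rw [hj₁, reassoc_of% hρp]
  have hρt₂ : ρQ ≫ j₂ q ≫ t = j₂ q ≫ t := by rw [hj₂, reassoc_of% hρp]
  have hPt : ρP ≫ q ≫ j₁ q ≫ t = q ≫ j₁ q ≫ t := by rw [reassoc_of% hρq, hρt₁]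
  -- the twisted object
  let α : Iso1 y (q ≫ j₁ q ≫ t) y (q ≫ j₁ q ≫ t) := Iso1.pb gY a σ hqt.symm hqt.symm
  have hρα : Iso1.pb gY α ρP hPt hPt = Iso1.refl y _ := by
    simp only [α, Iso1.pb_pb]
    rw [Iso1.pb_congr gY a (hρσ.symm.trans (Category.assoc _ _ _).symm)]
    have := pb_refl_of gY ha (ρP ≫ σ) (g' := q ≫ j₁ q ≫ t) (by rw [Category.assoc, ← hqt, hPt])
    simp only [Iso1.pb_pb] at this
    exact this
  obtain ⟨η, e₁, e₂, hη⟩ := exists_twist_dbl q h𝒴.isStack t α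
  have hηρ : Nonempty (Iso1 η ρW y t) := by
    refine exists_iso1_dbl q h𝒴.isStack ρW t (Iso1.pb gY e₁ ρQ hρ₁.symm hρt₁) (Iso1.pb gY e₂ ρQ hρ₂.symm hρt₂) ?_
    have key := congrArg (fun w => Iso1.pb gY w ρP (g' := q ≫ j₁ q ≫ ρW) (t' := q ≫ j₁ q ≫ t)
      (by rw [reassoc_of% hρq, hρ₁]) hPt) hη
    rw [Iso1.pb_trans gY _ α ρP (ht := hPt), hρα, Iso1.trans_refl] at key
    simp only [Iso1.pb_pb] at key ⊢
    exact (Iso1.pb_congr gY e₁ hρq.symm _ _).trans (key.trans (Iso1.pb_congr gY e₂ hρq _ _))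
  -- the class in the other stack
  obtain ⟨ζ, hζ⟩ := exists_chart (symm gX gY φ) gX η
  have hζη : φ.toEquiv W (IsoNat.objCls ζ) = IsoNat.objCls η := ((Equiv.symm_apply_eq _).1 hζ).symm
  have tr : ∀ {T : Over S} (g : T ⟶ W) (g' : T ⟶ U) (_ : Iso1 η g y g'), Nonempty (Iso1 ζ g x g') := fun g g' e =>
    Iso1.nonempty_of_cls_eq ((φ.toEquiv _).injective
      ((cls_obj_eq φ gY hζη g).trans ((Iso1.cls_eq e).trans (cls_obj_eq φ gY hxy g').symm)))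
  obtain ⟨f₁⟩ := tr _ _ e₁
  obtain ⟨f₂⟩ := tr _ _ e₂
  obtain ⟨eW⟩ := hηρ
  obtain ⟨β⟩ := tr _ _ eW
  -- correcting the isomorphisms
  have hadj : ∀ (j : Q ⟶ W) (hρj : j ≫ ρW = ρQ ≫ j) (hρt : ρQ ≫ j ≫ t = j ≫ t) (f : Iso1 ζ j x (j ≫ t)),
      ∃ f' : Iso1 ζ j x (j ≫ t), Iso1.pb gX f' ρQ (g' := ρQ ≫ j) (t' := j ≫ t) rfl hρt =
        Iso1.pb gX β (ρQ ≫ j) (by rw [Category.assoc, hρj, ← Category.assoc, hρQQ])
          (by rw [Category.assoc, hρt]) := by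
    intro j hρj hρt f
    let βj := Iso1.pb gX β j (g' := ρQ ≫ j) (t' := j ≫ t) hρj rfl
    let fr := Iso1.pb gX f ρQ (g' := ρQ ≫ j) (t' := j ≫ t) rfl hρt
    refine ⟨f.trans (fr.symm.trans βj), ?_⟩
    have hρρ : ρQ ≫ ρQ ≫ j = ρQ ≫ j := by rw [← Category.assoc, hρQQ]
    have h1 : Iso1.pb gX fr ρQ hρρ hρt = fr := by
      simp only [fr, Iso1.pb_pb]
      exact Iso1.pb_congr gX f hρQQ _ _
    rw [Iso1.pb_trans gX f _ ρQ rfl hρt hρt, Iso1.pb_trans gX fr.symm βj ρQ hρt hρρ hρt,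
      Iso1.pb_symm gX fr ρQ hρρ hρt, h1]
    show fr.trans _ = _
    rw [← Iso1.trans_assoc, Iso1.trans_symm, Iso1.refl_trans]
    simp only [βj, Iso1.pb_pb]
  obtain ⟨f₁', hf₁⟩ := hadj (j₁ q) hρ₁ hρt₁ f₁
  obtain ⟨f₂', hf₂⟩ := hadj (j₂ q) hρ₂ hρt₂ f₂
  have hq₂ : q ≫ j₂ q ≫ t = q ≫ j₁ q ≫ t := by rw [← Category.assoc, ← q_j, Category.assoc]
  let F₁ := Iso1.pb gX f₁' q (g' := q ≫ j₁ q) (t' := q ≫ j₁ q ≫ t) rfl rfl
  let F₂ := Iso1.pb gX f₂' q (g' := q ≫ j₁ q) (t' := q ≫ j₁ q ≫ t) (q_j q).symm hq₂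
  have hF : F₁ = F₂ := by
    have hqj : ρP ≫ q ≫ j₁ q = q ≫ ρQ ≫ j₁ q := by rw [reassoc_of% hρq]
    have hqj₂ : q ≫ ρQ ≫ j₂ q = q ≫ ρQ ≫ j₁ q := by rw [← hρ₂, ← hρ₁, ← Category.assoc, ← q_j, Category.assoc]
    have key₁ := congrArg (fun w => Iso1.pb gX w q (g' := q ≫ ρQ ≫ j₁ q) (t' := q ≫ j₁ q ≫ t) rfl rfl) hf₁
    have key₂ := congrArg (fun w => Iso1.pb gX w q (g' := q ≫ ρQ ≫ j₁ q) (t' := q ≫ j₁ q ≫ t) hqj₂ hq₂) hf₂
    simp only [Iso1.pb_pb] at key₁ key₂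
    have e1 : Iso1.pb gX F₁ ρP hqj hPt = Iso1.pb gX F₂ ρP hqj hPt := by
      simp only [F₁, F₂, Iso1.pb_pb]
      refine (Iso1.pb_congr gX f₁' hρq _ _).trans (key₁.trans ?_)
      refine ((Iso1.pb_congr gX β (show q ≫ ρQ ≫ j₁ q = q ≫ ρQ ≫ j₂ q from hqj₂.symm) _ _).trans key₂.symm).trans ?_
      exact Iso1.pb_congr gX f₂' hρq.symm _ _
    refine Iso1.trans_left_cancel F₁.symm ?_
    rw [Iso1.symm_trans]
    refine (hX _ hPt (F₁.symm.trans F₂) ?_).symm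
    rw [Iso1.pb_trans gX F₁.symm F₂ ρP hPt hqj hPt, Iso1.pb_symm gX F₁ ρP hqj hPt, e1]
    exact Iso1.symm_trans _
  obtain ⟨Γ⟩ := exists_iso1_dbl q h𝒳.isStack (X := ζ) (𝟙 W) t
    ((Iso1.ofEq ζ (Category.comp_id (j₁ q))).trans f₁') ((Iso1.ofEq ζ (Category.comp_id (j₂ q))).trans f₂') (by
      rw [Iso1.pb_trans gX _ f₁' q (g' := q ≫ j₁ q ≫ 𝟙 W) (t' := q ≫ j₁ q) (hs := rfl) (hg := rfl) (ht := rfl),
        Iso1.pb_trans gX _ f₂' q (g' := q ≫ j₁ q ≫ 𝟙 W) (t' := q ≫ j₁ q) (hs := hq₂)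
          (hg := by rw [Category.comp_id, Category.comp_id, q_j]) (ht := (q_j q).symm),
        Iso1.pb_ofEq, Iso1.pb_ofEq]
      exact congrArg _ hF)
  -- back
  obtain ⟨γ⟩ : Nonempty (Iso1 η (𝟙 W) y t) := Iso1.nonempty_of_cls_eq
    ((cls_obj_eq φ gY hζη (𝟙 W)).symm.trans ((congrArg (φ.toEquiv W) (Iso1.cls_eq Γ)).trans (cls_obj_eq φ gY hxy t)))
  let h₁ := (e₁.symm.trans (Iso1.pb gY γ (j₁ q) (g' := j₁ q) (t' := j₁ q ≫ t) (Category.comp_id _) rfl))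
  let h₂ := (e₂.symm.trans (Iso1.pb gY γ (j₂ q) (g' := j₂ q) (t' := j₂ q ≫ t) (Category.comp_id _) rfl))
  let c₁ := Iso1.ofEq y hj₁.symm
  let c₂ := Iso1.ofEq y hj₂.symm
  let h : Iso1 y (pQ ≫ u₀) y (pQ ≫ u₀) :=
    ((c₁.trans h₁).trans c₁.symm).trans ((c₂.trans h₂).trans c₂.symm).symm
  have hqh : Iso1.pb gY h q (g' := q ≫ j₁ q ≫ t) (t' := q ≫ j₁ q ≫ t) (by rw [hj₁]) (by rw [hj₁]) = α := by
    let E₁ := Iso1.pb gY e₁ q (g' := q ≫ j₁ q) (t' := q ≫ j₁ q ≫ t) rfl rfl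
    let E₂ := Iso1.pb gY e₂ q (g' := q ≫ j₁ q) (t' := q ≫ j₁ q ≫ t) (q_j q).symm hq₂
    let G := Iso1.pb gY γ (q ≫ j₁ q) (g' := q ≫ j₁ q) (t' := q ≫ j₁ q ≫ t) (Category.comp_id _) (Category.assoc _ _ _)
    have k₁ : Iso1.pb gY h₁ q (g' := q ≫ j₁ q ≫ t) (t' := q ≫ j₁ q ≫ t) rfl rfl = E₁.symm.trans G := by
      simp only [h₁]
      rw [Iso1.pb_trans gY e₁.symm _ q (g' := q ≫ j₁ q ≫ t) (t' := q ≫ j₁ q) (hs := rfl) (ht := rfl) (hg := rfl),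
        Iso1.pb_symm gY e₁ q rfl rfl, Iso1.pb_pb]
    have k₂ : Iso1.pb gY h₂ q (g' := q ≫ j₁ q ≫ t) (t' := q ≫ j₁ q ≫ t) hq₂ hq₂ = E₂.symm.trans G := by
      simp only [h₂]
      rw [Iso1.pb_trans gY e₂.symm _ q (g' := q ≫ j₁ q ≫ t) (t' := q ≫ j₁ q) (hs := hq₂) (ht := (q_j q).symm)
          (hg := hq₂), Iso1.pb_symm gY e₂ q (q_j q).symm hq₂, Iso1.pb_pb]
      exact congrArg _ (Iso1.pb_congr gY γ (q_j q).symm _ _)
    have hd₁ : Iso1.pb gY ((c₁.trans h₁).trans c₁.symm) q (g' := q ≫ j₁ q ≫ t) (t' := q ≫ j₁ q ≫ t)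
        (by rw [hj₁]) (by rw [hj₁]) = E₁.symm.trans G := by
      rw [Iso1.pb_trans gY (c₁.trans h₁) c₁.symm q (ht := rfl), Iso1.pb_trans gY c₁ h₁ q (ht := rfl),
        Iso1.pb_symm gY c₁ q (by rw [hj₁]) rfl, Iso1.pb_ofEq, k₁]
      simp [Iso1.ofEq_rfl]
    have hd₂ : Iso1.pb gY ((c₂.trans h₂).trans c₂.symm) q (g' := q ≫ j₁ q ≫ t) (t' := q ≫ j₁ q ≫ t)
        (by rw [hj₁]) (by rw [hj₁]) = E₂.symm.trans G := by
      rw [Iso1.pb_trans gY (c₂.trans h₂) c₂.symm q (ht := hq₂), Iso1.pb_trans gY c₂ h₂ q (ht := hq₂),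
        Iso1.pb_symm gY c₂ q (by rw [hj₁]) hq₂, Iso1.pb_ofEq, k₂]
      simp [Iso1.ofEq_rfl]
    simp only [h]
    rw [Iso1.pb_trans gY _ (Iso1.symm _) q (ht := show q ≫ pQ ≫ u₀ = q ≫ j₁ q ≫ t by rw [hj₁]), Iso1.pb_symm gY ((c₂.trans h₂).trans c₂.symm) q (by rw [hj₁])
      (by rw [hj₁]), hd₁, hd₂]
    show (E₁.symm.trans G).trans (E₂.symm.trans G).symm = α
    have hE : E₁.trans α = E₂ := hη
    rw [← hE]
    refine Iso1.trans_right_cancel ((E₁.trans α).symm.trans G) ?_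
    rw [Iso1.trans_assoc, Iso1.symm_trans, Iso1.trans_refl]
    refine Iso1.trans_left_cancel E₁ ?_
    rw [← Iso1.trans_assoc, Iso1.trans_symm, Iso1.refl_trans, ← Iso1.trans_assoc, ← Iso1.trans_assoc,
      Iso1.trans_symm, Iso1.refl_trans]
  have hμu : μ ≫ pQ ≫ u₀ = pQ ≫ u₀ := by rw [reassoc_of% hμp]
  have hσu : σ0 ≫ pr ≫ u₀ = pQ ≫ u₀ := by rw [reassoc_of% hσ0p]
  have key : Iso1.pb gY h μ hμu hμu = Iso1.pb gY a σ0 hσu hσu := by
    refine eq_of_dense gY hd q hq _ _ ?_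
    simp only [Iso1.pb_pb]
    refine (Iso1.pb_congr gY h hμq.symm _ _).trans ?_
    have := congrArg (fun w => Iso1.pb gY w μP (g' := q ≫ pQ ≫ u₀) (t' := q ≫ pQ ≫ u₀)
      (by rw [hj₁, reassoc_of% hμq, hμu]) (by rw [hj₁, reassoc_of% hμq, hμu])) hqh
    simp only [α, Iso1.pb_pb] at this
    exact this.trans (Iso1.pb_congr gY a hμσ _ _)
  have hzu : z0 ≫ pQ ≫ u₀ = pr ≫ u₀ := by rw [← hσ0p, Category.assoc, reassoc_of% hzσ]
  have hou : (pr ≫ o) ≫ pQ ≫ u₀ = pr ≫ u₀ := by rw [← hzμ, Category.assoc, hμu, hzu]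
  have key2 : Iso1.pb gY h (pr ≫ o) hou hou = a := by
    have := congrArg (fun w => Iso1.pb gY w z0 (g' := pr ≫ u₀) (t' := pr ≫ u₀) hzu hzu) key
    simp only [Iso1.pb_pb] at this
    exact (Iso1.pb_congr gY h hzμ.symm _ _).trans (this.trans ((Iso1.pb_congr gY a hzσ _ _).trans (Iso1.pb_id gY a)))
  rw [← key2, ← ha, ← key2, Iso1.pb_pb]
  exact Iso1.pb_congr gY h (by rw [← Category.assoc, hρpr]) _ _

section Instance

set_option maxHeartbeats 1000000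

theorem infAut_dual (h𝒳 : IsAlgStack Scheme.fppfPrecoverage 𝒳) (h𝒴 : IsAlgStack Scheme.fppfPrecoverage 𝒴)
    (hd : AlgSt.RepByAlgSpWith AlgSp.IsSeparatedMor (FibCat.diag (FibCat.toSelf 𝒴))) (φ : IsoNat.FIso 𝒳 𝒴)
    {x : FibCat.overCat U ⥤ᵇ 𝒳} {y : FibCat.overCat U ⥤ᵇ 𝒴}
    (hxy : φ.toEquiv U (IsoNat.objCls x) = IsoNat.objCls y)
    (hx : AlgSt.RepByAlgSpWith (AlgSp.LocP @FormallyUnramified) x)
    {K A R : Type u} [CommRing K] [CommRing A] [CommRing R] [Algebra A R] (str : Spec (CommRingCat.of K) ⟶ S)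
    (fA : K →+* A) (tA : A) [IsLocalization.Away tA R] (hinj : Function.Injective (algebraMap A R)) (it : R)
    (hit : algebraMap A R tA * it = 1) (ev : A →+* K) (hev : ev.comp fA = RingHom.id K) (hev0 : ev tA = 0)
    (u₀ : ptK str ⟶ U) (a : Iso1 y (prK str ≫ u₀) y (prK str ≫ u₀))
    (ha : Iso1.pb h𝒴.isStack.1 a (rho str (RingHom.id K)) (g' := prK str ≫ u₀) (t' := prK str ≫ u₀)
        (by rw [← Category.assoc, rho_prK]) (by rw [← Category.assoc, rho_prK]) = Iso1.refl y _) :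
    a = Iso1.refl y _ := by
  have hev' : ∀ k, ev (fA k) = k := fun k => congrArg (fun r : K →+* K => r k) hev
  let q : dualK str ((algebraMap A R).comp fA) ⟶ dualK str fA :=
    specK str (mapD (algebraMap A R) 1) (RingHom.ext fun x => by ext <;> simp)
  haveI : IsOpenImmersion q.left := isOpenImmersion_specK_away str tA _
  haveI : IsAffine (dualK str fA).left := inferInstanceAs (IsAffine (Spec _))
  exact infAut_core h𝒳 h𝒴 hd φ hxy q (injective_appTop_specK str _ _ (injective_mapD_away hinj))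
    (specK str ((cst (A := A)).comp fA) rfl) (prK str)
    (specK str (mapD ((algebraMap A R).comp fA) it) (RingHom.ext fun x => by ext <;> simp))
    (specK str (mapD fA 1) (RingHom.ext fun x => by ext <;> simp))
    (specK str (mapD (RingHom.id A) tA) (RingHom.ext fun x => by ext <;> simp))
    (specK str (mapD (RingHom.id R) (algebraMap A R tA)) (RingHom.ext fun x => by ext <;> simp))
    (specK str (mapD ev 1) (RingHom.ext fun x => by ext <;> simp [hev']))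
    (specK str (ev.comp red) (RingHom.ext fun x => by simp [hev']))
    (rho str fA) (rho str _) (rho str (RingHom.id K))
    (specK_comp_eq str (RingHom.ext fun x => by ext <;> simp))
    (specK_comp_eq str (RingHom.ext fun x => by ext <;> simp))
    (specK_comp_one str (RingHom.ext fun x => by ext <;> simp))
    (specK_comp_one str (RingHom.ext fun x => by ext <;> simp))
    (specK_comp_one str (RingHom.ext fun x => by ext <;> simp))
    (specK_comp_eq str (RingHom.ext fun x => by ext <;> simp))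
    (specK_comp_eq str (RingHom.ext fun x => by
      ext
      · simp
      · simp [← mul_assoc, hit]))
    ((specK_comp_one str (RingHom.ext fun x => by ext <;> simp [hev'])).trans (specK_id str rfl))
    (specK_comp_eq str (RingHom.ext fun x => by ext <;> simp [hev0]))
    (by
      rw [← Category.assoc]
      have h₂ : (mapD ((algebraMap A R).comp fA) 0).comp (cst.comp (RingHom.id K)) =
          cst.comp ((algebraMap A R).comp fA) := RingHom.ext fun x => by ext <;> simp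
      have e1 : rho str ((algebraMap A R).comp fA) ≫ specK str (mapD ((algebraMap A R).comp fA) it)
          (RingHom.ext fun x => by ext <;> simp) = specK str (mapD ((algebraMap A R).comp fA) 0) h₂ :=
        specK_comp_one str (RingHom.ext fun x => by ext <;> simp)
      refine (congrArg (fun w => w ≫ rho str (RingHom.id K)) e1).trans ?_
      exact (specK_comp_one str (φ' := mapD ((algebraMap A R).comp fA) 0) (h₂ := h₂)
        (RingHom.ext fun x => by ext <;> simp)).trans e1.symm)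
    (rho_rho str _) (rho_prK str)
    (fun g hg b hb => eq_refl_of_unramified str h𝒳.isStack.1 hx hg b hb) u₀ a ha

open Polynomial in
/-- infinitesimal automorphisms are detected by the classes -/
theorem infAut_transfer (h𝒳 : IsAlgStack Scheme.fppfPrecoverage 𝒳) (h𝒴 : IsAlgStack Scheme.fppfPrecoverage 𝒴)
    (hd : AlgSt.RepByAlgSpWith AlgSp.IsSeparatedMor (FibCat.diag (FibCat.toSelf 𝒴))) (φ : IsoNat.FIso 𝒳 𝒴)
    {x : FibCat.overCat U ⥤ᵇ 𝒳} {y : FibCat.overCat U ⥤ᵇ 𝒴}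
    (hxy : φ.toEquiv U (IsoNat.objCls x) = IsoNat.objCls y)
    (hx : AlgSt.RepByAlgSpWith (AlgSp.LocP @FormallyUnramified) x) : InfAut h𝒴.isStack.1 y :=
  fun K _ str u₀ a ha => infAut_dual h𝒳 h𝒴 hd φ hxy hx (A := K[X]) (R := Localization.Away (X : K[X])) str C X
    (IsLocalization.injective _ (powers_le_nonZeroDivisors_of_noZeroDivisors Polynomial.X_ne_zero))
    (IsLocalization.Away.invSelf (X : K[X])) (IsLocalization.Away.mul_invSelf _) (evalRingHom 0)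
    (RingHom.ext fun k => by simp) (by simp) u₀ a ha

end Instance

end Groth.Agent.IsoNat5
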