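import Groth.Agent.Lib.IsoNat5.Points
import Groth.Agent.Lib.SmoothLift15.Space
import Groth.Agent.Lib.AlgSpace.Base

/-!
Formal smoothness of charts of stacks, read on objects.
-/

universe u

open CategoryTheory CategoryTheory.Functor CategoryTheory.Limits AlgebraicGeometry Opposite

set_option linter.style.haveILetI false
set_option linter.unusedSectionVars false
set_option backward.isDefEq.respectTransparency false
set_option backward.isDefEq.respectTransparency.types false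

namespace Groth.Agent.IsoNat5

open Groth.Agent.FC16 Groth.Agent.StAlg AlgSt

variable {S : Scheme.{u}} {𝒳 : AlgSt.Cat S} {U V : Over S}

/-- the closed subscheme `Spec (A ⧸ I)` of `Spec A` over `S` -/
noncomputable abbrev subT {A : CommRingCat.{u}} (I : Ideal A) (str : Spec A ⟶ S) : Over S :=
  Over.mk (Spec.map (CommRingCat.ofHom (Ideal.Quotient.mk I)) ≫ str)

/-- its inclusion -/
noncomputable abbrev thick {A : CommRingCat.{u}} (I : Ideal A) (str : Spec A ⟶ S) : subT I str ⟶ Over.mk str :=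
  Over.homMk (Spec.map (CommRingCat.ofHom (Ideal.Quotient.mk I))) rfl

/-- infinitesimal lifting for a chart, read on objects -/
def StLift (x : FibCat.overCat U ⥤ᵇ 𝒳) : Prop :=
  ∀ (A : CommRingCat.{u}) (I : Ideal A), I ^ 2 = ⊥ → ∀ (str : Spec A ⟶ S) (u : subT I str ⟶ U)
    (η : 𝒳.p.Fiber (Over.mk str)) (a : x.obj (Over.mk u) ⟶ η.1), 𝒳.p.IsHomLift (thick I str) a →
    ∃ (u' : Over.mk str ⟶ U) (hu : thick I str ≫ u' = u) (a' : x.obj (Over.mk u') ⟶ η.1),
      𝒳.p.IsHomLift (𝟙 (Over.mk str)) a' ∧ x.map (Over.homMk (thick I str) hu : Over.mk u ⟶ Over.mk u') ≫ a' = a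

section Rep

variable {F : AlgSp.Sp S} {z : FibCat.overCat V ⥤ᵇ 𝒳} {x : FibCat.overCat U ⥤ᵇ 𝒳}
  {e : AlgSt.ofSp F ⥤ᵇ FibCat.fp z x}

theorem exists_sec (he : FibCat.IsEquivOver e) {T : Over S} (ξ : (FibCat.fp z x).obj)
    (hξ : (FibCat.fp z x).p.obj ξ = T) :
    ∃ (s : F.obj.obj (op T)) (θ : e.obj ⟨T, s⟩ ≅ ξ), (FibCat.fp z x).p.IsHomLift (𝟙 T) θ.hom := by
  subst hξ
  obtain ⟨⟨B, s⟩, θ, hθ⟩ := essSurjOver_of_isEquivOver he ξ
  have hB : B = (FibCat.fp z x).p.obj ξ :=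
    (e.w_obj ⟨B, s⟩).symm.trans (@IsHomLift.domain_eq _ _ _ _ _ _ _ _ _ _ _ hθ)
  subst hB
  exact ⟨s, θ, hθ⟩

theorem left_eq_of_lift {T : Over S} {a b : (FibCat.overCat V).obj} (hb : b.left = T) (ha : a.left = T) (φ : a ⟶ b)
    (h : (FibCat.overCat V).p.IsHomLift (𝟙 T) φ) : φ.left = eqToHom (ha.trans hb.symm) :=
  (IsHomLift.fac' (FibCat.overCat V).p (𝟙 T) φ).trans (by simp)

theorem secHom_eq (a : (AlgSt.ofSp F).obj) (g : a.base ⟶ V) (ξ : (FibCat.fp z x).obj) (θ : e.obj a ≅ ξ)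
    (hθ : (FibCat.fp z x).p.IsHomLift (𝟙 a.base) θ.hom) (hl : ξ.obj.fst.left = a.base)
    (hg : ξ.obj.fst.hom = eqToHom hl ≫ g) :
    AlgSt.secHom (BasedFunctor.comp e (FibCat.fpFst z x)) a = g := by
  haveI := hθ
  have h1 := left_eq_of_lift (V := V) hl ((BasedFunctor.comp e (FibCat.fpFst z x)).w_obj a)
    ((FibCat.fpFst z x).map θ.hom) (BasedFunctor.preserves_isHomLift (FibCat.fpFst z x) (𝟙 a.base) θ.hom)
  have h2 : ((FibCat.fpFst z x).map θ.hom).left ≫ ξ.obj.fst.hom =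
      ((BasedFunctor.comp e (FibCat.fpFst z x)).obj a).hom := Over.w ((FibCat.fpFst z x).map θ.hom)
  rw [h1, hg] at h2
  show eqToHom _ ≫ _ = g
  rw [← h2]
  simp

/-- the first component of the object attached to a section -/
noncomputable def secFstIso (a : (AlgSt.ofSp F).obj) :
    Over.mk (AlgSt.secHom (BasedFunctor.comp e (FibCat.fpFst z x)) a) ≅ (e.obj a).obj.fst :=
  Over.isoMk (eqToIso (show a.base = (e.obj a).obj.fst.left from
    ((BasedFunctor.comp e (FibCat.fpFst z x)).w_obj a).symm)) rfl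

/-- the second component of the object attached to a section -/
noncomputable def secSnd (a : (AlgSt.ofSp F).obj) : a.base ⟶ U :=
  AlgSt.secHom (BasedFunctor.comp e (FibCat.fpSnd z x)) a

/-- its comparison with the object attached to a section -/
noncomputable def secSndIso (a : (AlgSt.ofSp F).obj) :
    Over.mk (secSnd (e := e) a) ≅ (e.obj a).obj.snd :=
  Over.isoMk (eqToIso (show a.base = (e.obj a).obj.snd.left from
    ((BasedFunctor.comp e (FibCat.fpSnd z x)).w_obj a).symm)) rfl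

instance secFstIso_lift (a : (AlgSt.ofSp F).obj) :
    (FibCat.overCat V).p.IsHomLift (𝟙 a.base) (secFstIso (e := e) a).hom :=
  IsHomLift.of_fac' _ _ _ rfl ((BasedFunctor.comp e (FibCat.fpFst z x)).w_obj a) (by
    simp [secFstIso]; rfl)

instance secSndIso_lift (a : (AlgSt.ofSp F).obj) :
    (FibCat.overCat U).p.IsHomLift (𝟙 a.base) (secSndIso (e := e) a).hom :=
  IsHomLift.of_fac' _ _ _ rfl ((BasedFunctor.comp e (FibCat.fpSnd z x)).w_obj a) (by
    simp [secSndIso]; rfl)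

theorem sect_comp {T : Over S} (t : (AlgSp.yon S).obj T ⟶ F) (g : T ⟶ V) :
    t ≫ AlgSt.spMapOfOver (BasedFunctor.comp e (FibCat.fpFst z x)) = (AlgSp.yon S).map g ↔
      AlgSt.secHom (BasedFunctor.comp e (FibCat.fpFst z x)) ⟨T, AlgSpace.sect t⟩ = g := by
  rw [← AlgSpace.sect.apply_eq_iff_eq]
  rw [show AlgSpace.sect (t ≫ AlgSt.spMapOfOver (BasedFunctor.comp e (FibCat.fpFst z x))) =
      (AlgSt.spMapOfOver (BasedFunctor.comp e (FibCat.fpFst z x))).hom.app (op T) (AlgSpace.sect t) from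
    GrothendieckTopology.uliftYonedaEquiv_comp _ _ _, AlgSt.spMapOfOver_app,
    show AlgSpace.sect ((AlgSp.yon S).map g) = ULift.up g from
      GrothendieckTopology.uliftYonedaEquiv_uliftYoneda_map _ _]
  exact ULift.up_inj

/-- formal smoothness of the representing map gives lifts of objects -/
theorem exists_lift_of_formallySmooth (he : FibCat.IsEquivOver e)
    (hf : AlgSp.IsFormallySmoothMor (AlgSt.spMapOfOver (BasedFunctor.comp e (FibCat.fpFst z x))))
    (h𝒳 : FibCat.IsFibGrpd 𝒳.p) {A : CommRingCat.{u}} (I : Ideal A) (hI : I ^ 2 = ⊥) (str : Spec A ⟶ S)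
    (u : subT I str ⟶ U) (v' : Over.mk str ⟶ V) (a : x.obj (Over.mk u) ⟶ z.obj (Over.mk v'))
    (ha : 𝒳.p.IsHomLift (thick I str) a) :
    ∃ (u' : Over.mk str ⟶ U) (hu : thick I str ≫ u' = u) (a' : x.obj (Over.mk u') ⟶ z.obj (Over.mk v')),
      𝒳.p.IsHomLift (𝟙 (Over.mk str)) a' ∧
        x.map (Over.homMk (thick I str) hu : Over.mk u ⟶ Over.mk u') ≫ a' = a := by
  haveI := ha
  let j := thick I str
  let m₀ : (Over.mk (j ≫ v') : (FibCat.overCat V).obj) ⟶ Over.mk v' := Over.homMk j rfl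
  haveI : (FibCat.overCat V).p.IsHomLift j m₀ := IsHomLift.map (FibCat.overCat V).p m₀
  haveI : 𝒳.p.IsHomLift j (z.map m₀) := BasedFunctor.preserves_isHomLift z j m₀
  obtain ⟨θ, hθ, hθe⟩ := exists_iso_of_lifts h𝒳 j (z.map m₀) a
  let ξ : (FibCat.fp z x).obj := ⟨{ fst := Over.mk (j ≫ v'), snd := Over.mk u, iso := θ }, hθ⟩
  obtain ⟨s, θs, hθs⟩ := exists_sec he ξ (T := subT I str) rfl
  let top := AlgSpace.sect.symm s
  have htop : top ≫ AlgSt.spMapOfOver (BasedFunctor.comp e (FibCat.fpFst z x)) =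
      (AlgSp.yon S).map (j ≫ v') := by
    rw [sect_comp, Equiv.apply_symm_apply]
    exact secHom_eq ⟨_, s⟩ _ ξ θs hθs rfl (Category.id_comp _).symm
  obtain ⟨l, hl₁, hl₂⟩ := hf ⟨A, I, hI, str, top, (AlgSp.yon S).map v', htop.trans (Functor.map_comp _ _ _)⟩
  let a₁ : (AlgSt.ofSp F).obj := ⟨Over.mk str, AlgSpace.sect l⟩
  let a₀ : (AlgSt.ofSp F).obj := ⟨subT I str, s⟩
  have hsec : F.obj.map j.op (AlgSpace.sect l) = s := by
    rw [GrothendieckTopology.uliftYonedaEquiv_naturality]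
    exact (congrArg AlgSpace.sect hl₁).trans (AlgSpace.sect.apply_symm_apply s)
  let μ : a₀ ⟶ a₁ := ⟨j, hsec⟩
  haveI : (AlgSt.ofSp F).p.IsHomLift j μ := IsHomLift.map (AlgSt.ofSp F).p μ
  haveI := hθs
  let ν : ξ ⟶ e.obj a₁ := θs.inv ≫ e.map μ
  haveI hν : (FibCat.fp z x).p.IsHomLift j ν := by
    have : (FibCat.fp z x).p.IsHomLift (𝟙 _ ≫ j) ν :=
      haveI := BasedFunctor.preserves_isHomLift e j μ
      inferInstance
    rwa [Category.id_comp] at this
  have hv : AlgSt.secHom (BasedFunctor.comp e (FibCat.fpFst z x)) a₁ = v' := (sect_comp l v').1 hl₂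
  let o1 : Over.mk v' ≅ (e.obj a₁).obj.fst :=
    eqToIso (congrArg Over.mk hv.symm) ≪≫ secFstIso (e := e) a₁
  let o2 := secSndIso (e := e) a₁
  haveI ho2 : (FibCat.overCat U).p.IsHomLift (𝟙 (Over.mk str)) o2.hom := secSndIso_lift (e := e) a₁
  haveI ho1 : (FibCat.overCat V).p.IsHomLift (𝟙 (Over.mk str)) o1.hom := by
    refine IsHomLift.of_fac' _ _ _ rfl ((BasedFunctor.comp e (FibCat.fpFst z x)).w_obj a₁) ?_
    show (eqToHom (congrArg Over.mk hv.symm) ≫ (secFstIso (e := e) a₁).hom).left = _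
    rw [Over.comp_left, Over.eqToHom_left]
    simp [secFstIso]
  have hj' : ((FibCat.fpFst z x).map ν ≫ o1.inv).left = j := by
    haveI := BasedFunctor.preserves_isHomLift (FibCat.fpFst z x) j ν
    haveI : (FibCat.overCat V).p.IsHomLift j ((FibCat.fpFst z x).map ν ≫ o1.inv) := inferInstance
    exact (IsHomLift.fac' (FibCat.overCat V).p j ((FibCat.fpFst z x).map ν ≫ o1.inv)).trans (by simp)
  have hj'' : ((FibCat.fpSnd z x).map ν ≫ o2.inv).left = j := by
    haveI := BasedFunctor.preserves_isHomLift (FibCat.fpSnd z x) j ν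
    haveI : (FibCat.overCat U).p.IsHomLift j ((FibCat.fpSnd z x).map ν ≫ o2.inv) := inferInstance
    exact (IsHomLift.fac' (FibCat.overCat U).p j ((FibCat.fpSnd z x).map ν ≫ o2.inv)).trans (by simp)
  have hu : j ≫ secSnd (e := e) a₁ = u := by
    conv_lhs => rw [← hj'']
    exact Over.w ((FibCat.fpSnd z x).map ν ≫ o2.inv)
  refine ⟨secSnd (e := e) a₁, hu, x.map o2.hom ≫ (e.obj a₁).obj.iso.inv ≫ z.map o1.inv, ?_, ?_⟩
  · haveI := BasedFunctor.preserves_isHomLift x (𝟙 (Over.mk str)) o2.hom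
    haveI := iso_lift (e.obj a₁) (U := Over.mk str) ((BasedFunctor.comp e (FibCat.fpFst z x)).w_obj a₁)
    haveI := BasedFunctor.preserves_isHomLift z (𝟙 (Over.mk str)) o1.inv
    infer_instance
  · have e1 : (Over.homMk j hu : Over.mk u ⟶ Over.mk (secSnd (e := e) a₁)) ≫ o2.hom = (FibCat.fpSnd z x).map ν := by
      rw [← Iso.eq_comp_inv]
      exact Over.OverMorphism.ext hj''.symm
    have e2 : (FibCat.fpFst z x).map ν ≫ o1.inv = m₀ := Over.OverMorphism.ext hj'
    have hw : z.map ((FibCat.fpFst z x).map ν) ≫ (e.obj a₁).obj.iso.hom = θ.hom ≫ x.map ((FibCat.fpSnd z x).map ν) :=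
      fp_w ν
    rw [← Category.assoc, ← Functor.map_comp, e1, ← cancel_epi θ.hom, ← Category.assoc, ← hw, hθe]
    simp only [Category.assoc, Iso.hom_inv_id_assoc]
    rw [← Functor.map_comp, e2]

/-- lifts of objects give formal smoothness of the representing map -/
theorem formallySmooth_of_stLift (he : FibCat.IsEquivOver e) (h𝒳 : FibCat.IsFibGrpd 𝒳.p) (hx : StLift x) :
    AlgSp.IsFormallySmoothMor (AlgSt.spMapOfOver (BasedFunctor.comp e (FibCat.fpFst z x))) := by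
  intro sq
  let A : CommRingCat.{u} := CommRingCat.of sq.A
  let j := thick (A := A) sq.I sq.str
  obtain ⟨v', hbot⟩ := (AlgSp.yon S).map_surjective sq.bot
  let a₀ : (AlgSt.ofSp F).obj := ⟨subT (A := A) sq.I sq.str, AlgSpace.sect sq.top⟩
  have hv : AlgSt.secHom (BasedFunctor.comp e (FibCat.fpFst z x)) a₀ = j ≫ v' := by
    refine (sect_comp sq.top _).1 ?_
    rw [Functor.map_comp, hbot]
    exact sq.comm
  let o1 : Over.mk (j ≫ v') ≅ (e.obj a₀).obj.fst := eqToIso (congrArg Over.mk hv.symm) ≪≫ secFstIso (e := e) a₀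
  haveI ho1 : (FibCat.overCat V).p.IsHomLift (𝟙 a₀.base) o1.hom := by
    refine IsHomLift.of_fac' _ _ _ rfl ((BasedFunctor.comp e (FibCat.fpFst z x)).w_obj a₀) ?_
    show (eqToHom (congrArg Over.mk hv.symm) ≫ (secFstIso (e := e) a₀).hom).left = _
    rw [Over.comp_left, Over.eqToHom_left]
    simp [secFstIso]
  let o2 := secSndIso (e := e) a₀
  haveI ho2 : (FibCat.overCat U).p.IsHomLift (𝟙 a₀.base) o2.hom := secSndIso_lift (e := e) a₀
  haveI := iso_lift (e.obj a₀) (U := a₀.base) ((BasedFunctor.comp e (FibCat.fpFst z x)).w_obj a₀)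
  let m₀ : (Over.mk (j ≫ v') : (FibCat.overCat V).obj) ⟶ Over.mk v' := Over.homMk j rfl
  haveI : (FibCat.overCat V).p.IsHomLift j m₀ := IsHomLift.map (FibCat.overCat V).p m₀
  haveI := BasedFunctor.preserves_isHomLift z j m₀
  haveI := BasedFunctor.preserves_isHomLift x (𝟙 a₀.base) o2.hom
  haveI := BasedFunctor.preserves_isHomLift z (𝟙 a₀.base) o1.inv
  let a : x.obj (Over.mk (secSnd (e := e) a₀)) ⟶ z.obj (Over.mk v') :=
    (x.map o2.hom ≫ (e.obj a₀).obj.iso.inv ≫ z.map o1.inv) ≫ z.map m₀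
  have ha : 𝒳.p.IsHomLift j a := by
    have : 𝒳.p.IsHomLift (𝟙 a₀.base ≫ j) a := inferInstance
    rwa [Category.id_comp] at this
  obtain ⟨u', hu, a', ha', hae⟩ :=
    hx A sq.I sq.sq_zero sq.str (secSnd (e := e) a₀) ⟨z.obj (Over.mk v'), z.w_obj _⟩ a ha
  haveI := ha'
  haveI : IsIso a' := isIso_of_isHomLift h𝒳 (𝟙 (Over.mk sq.str)) a'
  let ξ' : (FibCat.fp z x).obj := ⟨{ fst := Over.mk v', snd := Over.mk u', iso := (asIso a').symm }, by
    show 𝒳.p.IsHomLift (𝟙 (Over.mk sq.str)) (inv a')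
    infer_instance⟩
  obtain ⟨s', θ', hθ'⟩ := exists_sec he ξ' (T := Over.mk sq.str) rfl
  let hj : (Over.mk (secSnd (e := e) a₀) : (FibCat.overCat U).obj) ⟶ Over.mk u' := Over.homMk j hu
  let ν : e.obj a₀ ⟶ ξ' := ObjectProperty.homMk
    { fst := o1.inv ≫ m₀
      snd := o2.inv ≫ hj
      w := by
        show z.map (o1.inv ≫ m₀) ≫ inv a' = (e.obj a₀).obj.iso.hom ≫ x.map (o2.inv ≫ hj)
        rw [IsIso.comp_inv_eq, Category.assoc, Functor.map_comp x.toFunctor, Category.assoc, hae]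
        simp [a] }
  haveI hν : (FibCat.fp z x).p.IsHomLift j ν := by
    refine @isHomLift_of_fst _ _ _ _ _ _ _ _ _ _ _ _ _ ?_
    have : (FibCat.overCat V).p.IsHomLift (𝟙 a₀.base ≫ j) (o1.inv ≫ m₀) := inferInstance
    rwa [Category.id_comp] at this
  haveI := hθ'
  haveI := isEquivalence_of_isEquivOver he
  obtain ⟨μ, hμ⟩ := e.toFunctor.map_surjective (ν ≫ θ'.inv)
  haveI hμ' : (AlgSt.ofSp F).p.IsHomLift j μ := by
    rw [← BasedFunctor.isHomLift_iff e, hμ]
    have : (FibCat.fp z x).p.IsHomLift (j ≫ 𝟙 _) (ν ≫ θ'.inv) := inferInstance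
    rwa [Category.comp_id] at this
  have hμj : μ.hom = j := (IsHomLift.fac' (AlgSt.ofSp F).p j μ).trans (by simp)
  refine ⟨AlgSpace.sect.symm s', ?_, ?_⟩
  · apply AlgSpace.sect.injective
    show _ = AlgSpace.sect sq.top
    rw [← GrothendieckTopology.uliftYonedaEquiv_naturality, Equiv.apply_symm_apply]
    exact (congrArg (fun q : subT (A := A) sq.I sq.str ⟶ Over.mk sq.str => F.obj.map q.op s') hμj).symm.trans μ.map_sec
  · rw [← hbot, sect_comp, Equiv.apply_symm_apply]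
    exact secHom_eq ⟨_, s'⟩ _ ξ' θ' hθ' rfl (Category.id_comp _).symm

end Rep

/-- smooth charts have the infinitesimal lifting property -/
theorem stLift_of_smooth (h𝒳 : FibCat.IsFibGrpd 𝒳.p) {x : FibCat.overCat U ⥤ᵇ 𝒳}
    (hx : AlgSt.RepByAlgSpWith (AlgSp.LocP @Smooth) x) : StLift x := by
  intro A I hI str u η a ha
  haveI := FC16.isFibered h𝒳
  let z : FibCat.overCat (Over.mk str) ⥤ᵇ 𝒳 := ofObj η.2
  obtain ⟨F, e, he, hP⟩ := hx (Over.mk str) z
  haveI := ha
  haveI := ofObjIso_lift η.2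
  have ha₂ : 𝒳.p.IsHomLift (thick I str) (a ≫ (ofObjIso η.2).inv) := inferInstance
  obtain ⟨u', hu, a', ha', hae⟩ := exists_lift_of_formallySmooth he
    (SmoothLift15.isFormallySmoothMor_of_locP_smooth F.property (AlgSp.IsAlgSpace.yon_obj _) _ hP)
    h𝒳 I hI str u (𝟙 _) (a ≫ (ofObjIso η.2).inv) ha₂
  haveI := ha'
  refine ⟨u', hu, a' ≫ (ofObjIso η.2).hom, inferInstance, ?_⟩
  rw [← Category.assoc, hae, Category.assoc, Iso.inv_hom_id, Category.comp_id]

end Groth.Agent.IsoNat5
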