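import Groth.Agent.Lib.IsoNat5.Glue2
import Groth.Agent.Lib.IsoNat5.Points

/-!
Lifting of isomorphisms from an open subscheme, read from the classes on the double.
-/

universe u

open CategoryTheory CategoryTheory.Functor CategoryTheory.Limits AlgebraicGeometry Opposite

set_option linter.style.haveILetI false
set_option linter.unusedSectionVars false
set_option backward.isDefEq.respectTransparency false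
set_option backward.isDefEq.respectTransparency.types false

namespace Groth.Agent.IsoNat5

open Groth.Agent.FC16 Groth.Agent.StAlg Groth.Agent.StAlg16 AlgSt

variable {S : Scheme.{u}} {𝒳 𝒴 𝒳' 𝒴' : AlgSt.Cat S} {P Q : Over S}

/-- isomorphisms on `P` whose images extend to `Q` do so themselves -/
def LiftIso (g𝒳 : FibCat.IsFibGrpd 𝒳.p) (g𝒴 : FibCat.IsFibGrpd 𝒴.p) (f : 𝒳 ⥤ᵇ 𝒴) (q : P ⟶ Q) : Prop :=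
  ∀ (x₁ x₂ : FibCat.overCat Q ⥤ᵇ 𝒳) (a : Iso1 x₁ q x₂ q),
    (∃ b : Iso1 (BasedFunctor.comp x₁ f) (𝟙 Q) (BasedFunctor.comp x₂ f) (𝟙 Q),
      Iso1.pb g𝒴 b q (Category.comp_id q) (Category.comp_id q) = Iso1.map f a) →
    ∃ γ : Iso1 x₁ (𝟙 Q) x₂ (𝟙 Q), Iso1.pb g𝒳 γ q (Category.comp_id q) (Category.comp_id q) = a

theorem LiftIso.apply {g𝒳 : FibCat.IsFibGrpd 𝒳.p} {g𝒴 : FibCat.IsFibGrpd 𝒴.p} {f : 𝒳 ⥤ᵇ 𝒴} {q : P ⟶ Q}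
    (h : LiftIso g𝒳 g𝒴 f q) (x₁ x₂ : FibCat.overCat Q ⥤ᵇ 𝒳) (g : Q ⟶ Q) (hg : g = 𝟙 Q)
    (a : Iso1 x₁ (q ≫ g) x₂ (q ≫ g)) (b : Iso1 (BasedFunctor.comp x₁ f) g (BasedFunctor.comp x₂ f) g)
    (hb : Iso1.pb g𝒴 b q rfl rfl = Iso1.map f a) :
    ∃ γ : Iso1 x₁ g x₂ g, Iso1.pb g𝒳 γ q rfl rfl = a := by
  subst hg
  let a' : Iso1 x₁ q x₂ q := Iso1.pb g𝒳 a (𝟙 P)
    ((Category.id_comp _).trans (Category.comp_id q)) ((Category.id_comp _).trans (Category.comp_id q))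
  obtain ⟨γ, hγ⟩ := h x₁ x₂ a' ⟨b, by
    simp only [a']
    rw [← Iso1.pb_map f g𝒳 g𝒴 a (𝟙 P), ← hb, Iso1.pb_pb]
    exact (Iso1.pb_congr g𝒴 b (Category.id_comp q) _ _).symm⟩
  refine ⟨γ, ?_⟩
  have h2 := congrArg (fun w => Iso1.pb g𝒳 w (𝟙 P) (g' := q ≫ 𝟙 Q) (t' := q ≫ 𝟙 Q)
    ((Category.id_comp q).trans (Category.comp_id q).symm) ((Category.id_comp q).trans (Category.comp_id q).symm)) hγ
  simp only [a', Iso1.pb_pb] at h2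
  exact (Iso1.pb_congr g𝒳 γ (Category.id_comp q).symm _ _).trans
    (h2.trans ((Iso1.pb_congr g𝒳 a (Category.id_comp (𝟙 P)) _ _).trans (Iso1.pb_id g𝒳 a)))

theorem sq_cls {f : 𝒳 ⥤ᵇ 𝒴} {f' : 𝒳' ⥤ᵇ 𝒴'} (ψ : IsoNat.FIsoSq f f') (g𝒳' : FibCat.IsFibGrpd 𝒳'.p)
    {U U' V : Over S} {x : FibCat.overCat U ⥤ᵇ 𝒳} {x' : FibCat.overCat U ⥤ᵇ 𝒳'}
    (hx : ψ.src.toEquiv U (IsoNat.objCls x) = IsoNat.objCls x')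
    {z : FibCat.overCat V ⥤ᵇ 𝒳} {z' : FibCat.overCat V ⥤ᵇ 𝒳'}
    (hz : ψ.src.toEquiv V (IsoNat.objCls z) = IsoNat.objCls z') (g : U' ⟶ U) (t : U' ⟶ V) :
    (IsoNat.cls (⟨(BasedFunctor.comp x f).obj (Over.mk g), (BasedFunctor.comp x f).w_obj _⟩ : 𝒴.p.Fiber U') =
      IsoNat.cls ⟨(BasedFunctor.comp z f).obj (Over.mk t), (BasedFunctor.comp z f).w_obj _⟩) ↔
    (IsoNat.cls (⟨(BasedFunctor.comp x' f').obj (Over.mk g), (BasedFunctor.comp x' f').w_obj _⟩ : 𝒴'.p.Fiber U') =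
      IsoNat.cls ⟨(BasedFunctor.comp z' f').obj (Over.mk t), (BasedFunctor.comp z' f').w_obj _⟩) := by
  have h1 : ψ.tgt.toEquiv U' (IsoNat.cls ⟨(BasedFunctor.comp x f).obj (Over.mk g), (BasedFunctor.comp x f).w_obj _⟩) =
      IsoNat.cls ⟨(BasedFunctor.comp x' f').obj (Over.mk g), (BasedFunctor.comp x' f').w_obj _⟩ :=
    (ψ.comm U' (IsoNat.cls ⟨x.obj (Over.mk g), x.w_obj _⟩)).trans
      (congrArg (IsoNat.mapCls f' U') (cls_obj_eq ψ.src g𝒳' hx g))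
  have h2 : ψ.tgt.toEquiv U' (IsoNat.cls ⟨(BasedFunctor.comp z f).obj (Over.mk t), (BasedFunctor.comp z f).w_obj _⟩) =
      IsoNat.cls ⟨(BasedFunctor.comp z' f').obj (Over.mk t), (BasedFunctor.comp z' f').w_obj _⟩ :=
    (ψ.comm U' (IsoNat.cls ⟨z.obj (Over.mk t), z.w_obj _⟩)).trans
      (congrArg (IsoNat.mapCls f' U') (cls_obj_eq ψ.src g𝒳' hz t))
  rw [← h1, ← h2]
  exact (ψ.tgt.toEquiv U').apply_eq_iff_eq.symm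

/-- lifting of isomorphisms is read from the classes on the double -/
theorem liftIso_transfer (q : P ⟶ Q) [IsOpenImmersion q.left]
    (h𝒳 : Stk.IsStack (QuotSh.J Scheme.fppfPrecoverage S) 𝒳) (g𝒴 : FibCat.IsFibGrpd 𝒴.p)
    (h𝒳' : Stk.IsStack (QuotSh.J Scheme.fppfPrecoverage S) 𝒳')
    (h𝒴' : Stk.IsStack (QuotSh.J Scheme.fppfPrecoverage S) 𝒴')
    {f : 𝒳 ⥤ᵇ 𝒴} {f' : 𝒳' ⥤ᵇ 𝒴'} (ψ : IsoNat.FIsoSq f f')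
    (hX : LiftIso h𝒳.1 g𝒴 f q) : LiftIso h𝒳'.1 h𝒴'.1 f' q := by
  rintro x₁' x₂' a' ⟨b', hb'⟩
  let t : dbl q ⟶ Q := dblDesc q (𝟙 Q) (𝟙 Q) rfl
  have ht₁ : j₁ q ≫ t = 𝟙 Q := j₁_desc _ _ _ _
  have ht₂ : j₂ q ≫ t = 𝟙 Q := j₂_desc _ _ _ _
  have ht₁₂ : j₂ q ≫ t = j₁ q ≫ t := ht₂.trans ht₁.symm
  have hqt : q ≫ j₁ q ≫ t = q := by rw [ht₁, Category.comp_id]
  have hqt₂ : q ≫ j₂ q ≫ t = q ≫ j₁ q ≫ t := by rw [ht₁₂]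
  let a₀ : Iso1 x₁' (q ≫ j₁ q ≫ t) x₂' (q ≫ j₁ q ≫ t) :=
    Iso1.pb h𝒳'.1 a' (𝟙 P) ((Category.id_comp q).trans hqt.symm) ((Category.id_comp q).trans hqt.symm)
  obtain ⟨η', e₁, e₂, he⟩ := exists_glue_dbl q h𝒳' t t a₀
  -- the image is trivial
  let b₂ : Iso1 (BasedFunctor.comp x₂' f') (j₂ q ≫ t) (BasedFunctor.comp x₁' f') (j₂ q ≫ t) :=
    Iso1.pb h𝒴'.1 b'.symm (j₂ q ≫ t) (Category.comp_id _) (Category.comp_id _)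
  have hbp : Iso1.pb h𝒴'.1 b₂ q hqt₂ hqt₂ = (Iso1.map f' a₀).symm := by
    simp only [b₂, a₀, Iso1.pb_pb]
    rw [← Iso1.pb_map f' h𝒳'.1 h𝒴'.1 a', ← hb', Iso1.pb_pb, ← Iso1.pb_symm h𝒴'.1 b']
    exact Iso1.pb_congr h𝒴'.1 _ (by rw [ht₂, Category.comp_id, Category.id_comp]) _ _
  obtain ⟨τ'⟩ := exists_iso1_dbl q (X := BasedFunctor.comp η' f') (Y := BasedFunctor.comp x₁' f') h𝒴' (𝟙 (dbl q)) t
    (Iso1.pb h𝒴'.1 (Iso1.map f' e₁) (𝟙 Q) ((Category.id_comp _).trans (Category.comp_id _).symm) (Category.id_comp _))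
    (Iso1.pb h𝒴'.1 ((Iso1.map f' e₂).trans b₂) (𝟙 Q) ((Category.id_comp _).trans (Category.comp_id _).symm)
      (Category.id_comp _))
    (by
      have hb : Iso1.pb h𝒴'.1 ((Iso1.map f' e₂).trans b₂) q (q_j q).symm hqt₂ =
          Iso1.pb h𝒴'.1 (Iso1.map f' e₁) q rfl rfl := by
        rw [Iso1.pb_trans h𝒴'.1 (Iso1.map f' e₂) b₂ q (q_j q).symm hqt₂ hqt₂, hbp,
          Iso1.pb_map f' h𝒳'.1 h𝒴'.1 e₂ q _ _, ← he, Iso1.map_trans, Iso1.trans_assoc, Iso1.trans_symm,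
          Iso1.trans_refl, Iso1.pb_map f' h𝒳'.1 h𝒴'.1 e₁ q _ _]
      simp only [Iso1.pb_pb, Category.comp_id]
      have h3 := congrArg (fun w => Iso1.pb h𝒴'.1 w (𝟙 P) (g' := q ≫ j₁ q ≫ 𝟙 (dbl q)) (t' := q ≫ j₁ q ≫ t)
        (by simp) (by simp)) hb.symm
      simp only [Iso1.pb_pb] at h3
      exact (Iso1.pb_congr h𝒴'.1 _ (by simp) _ _).trans (h3.trans (Iso1.pb_congr h𝒴'.1 _ (by simp) _ _)))
  -- pass to the other square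
  obtain ⟨x₁, hx₁⟩ := exists_chart (symm h𝒳.1 h𝒳'.1 ψ.src) h𝒳.1 x₁'
  obtain ⟨x₂, hx₂⟩ := exists_chart (symm h𝒳.1 h𝒳'.1 ψ.src) h𝒳.1 x₂'
  obtain ⟨ξ, hξ⟩ := exists_chart (symm h𝒳.1 h𝒳'.1 ψ.src) h𝒳.1 η'
  have cx₁ : ψ.src.toEquiv Q (IsoNat.objCls x₁) = IsoNat.objCls x₁' := ((Equiv.symm_apply_eq _).1 hx₁).symm
  have cξ : ψ.src.toEquiv _ (IsoNat.objCls ξ) = IsoNat.objCls η' := ((Equiv.symm_apply_eq _).1 hξ).symm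
  obtain ⟨τ⟩ : Nonempty (Iso1 (BasedFunctor.comp ξ f) (𝟙 (dbl q)) (BasedFunctor.comp x₁ f) t) :=
    Iso1.nonempty_of_cls_eq ((sq_cls ψ h𝒳'.1 cξ cx₁ (𝟙 (dbl q)) t).2 τ'.cls_eq)
  obtain ⟨f₁⟩ : Nonempty (Iso1 ξ (j₁ q) x₁ (j₁ q ≫ t)) := Iso1.nonempty_of_cls_eq
    ((cls_obj_eq _ h𝒳.1 hξ (j₁ q)).symm.trans
      ((congrArg ((symm h𝒳.1 h𝒳'.1 ψ.src).toEquiv _) e₁.cls_eq).trans (cls_obj_eq _ h𝒳.1 hx₁ (j₁ q ≫ t))))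
  obtain ⟨f₂⟩ : Nonempty (Iso1 ξ (j₂ q) x₂ (j₂ q ≫ t)) := Iso1.nonempty_of_cls_eq
    ((cls_obj_eq _ h𝒳.1 hξ (j₂ q)).symm.trans
      ((congrArg ((symm h𝒳.1 h𝒳'.1 ψ.src).toEquiv _) e₂.cls_eq).trans (cls_obj_eq _ h𝒳.1 hx₂ (j₂ q ≫ t))))
  let p₁ : Iso1 ξ (q ≫ j₁ q) x₁ (q ≫ j₁ q ≫ t) := Iso1.pb h𝒳.1 f₁ q rfl rfl
  let p₂ : Iso1 ξ (q ≫ j₁ q) x₂ (q ≫ j₁ q ≫ t) := Iso1.pb h𝒳.1 f₂ q (q_j q).symm hqt₂
  let τ₁ : Iso1 (BasedFunctor.comp ξ f) (j₁ q) (BasedFunctor.comp x₁ f) (j₁ q ≫ t) :=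
    Iso1.pb g𝒴 τ (j₁ q) (Category.comp_id _) rfl
  let τ₂ : Iso1 (BasedFunctor.comp ξ f) (j₂ q) (BasedFunctor.comp x₁ f) (j₂ q ≫ t) :=
    Iso1.pb g𝒴 τ (j₂ q) (Category.comp_id _) rfl
  let σ₁ : Iso1 (BasedFunctor.comp x₁ f) (j₁ q ≫ t) (BasedFunctor.comp x₁ f) (j₁ q ≫ t) :=
    (Iso1.map f f₁).symm.trans τ₁
  let σ₂ : Iso1 (BasedFunctor.comp x₁ f) (j₁ q ≫ t) (BasedFunctor.comp x₂ f) (j₁ q ≫ t) :=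
    Iso1.pb g𝒴 (τ₂.symm.trans (Iso1.map f f₂)) (𝟙 Q) ((Category.id_comp _).trans ht₁₂) ((Category.id_comp _).trans ht₁₂)
  have hσ : Iso1.pb g𝒴 (σ₁.trans σ₂) q rfl rfl = Iso1.map f (p₁.symm.trans p₂) := by
    have k : Iso1.pb g𝒴 τ₁ q rfl rfl = Iso1.pb g𝒴 τ₂ q (q_j q).symm hqt₂ := by
      simp only [τ₁, τ₂, Iso1.pb_pb]
      exact Iso1.pb_congr g𝒴 τ (q_j q) _ _
    have k₂ : Iso1.pb g𝒴 σ₂ q rfl rfl = Iso1.pb g𝒴 (τ₂.symm.trans (Iso1.map f f₂)) q hqt₂ hqt₂ := by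
      simp only [σ₂, Iso1.pb_pb]
      exact Iso1.pb_congr g𝒴 _ (Category.comp_id q) _ _
    rw [Iso1.pb_trans g𝒴 σ₁ σ₂ q rfl rfl rfl, k₂,
      Iso1.pb_trans g𝒴 τ₂.symm (Iso1.map f f₂) q hqt₂ (q_j q).symm hqt₂,
      Iso1.pb_symm g𝒴 τ₂ q (q_j q).symm hqt₂,
      show Iso1.pb g𝒴 σ₁ q rfl rfl = (Iso1.pb g𝒴 (Iso1.map f f₁).symm q rfl rfl).trans (Iso1.pb g𝒴 τ₁ q rfl rfl) from
        Iso1.pb_trans g𝒴 (Iso1.map f f₁).symm τ₁ q rfl rfl rfl,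
      Iso1.pb_symm g𝒴 (Iso1.map f f₁) q rfl rfl, k, Iso1.pb_map f h𝒳.1 g𝒴 f₁ q rfl rfl,
      Iso1.pb_map f h𝒳.1 g𝒴 f₂ q (q_j q).symm hqt₂, Iso1.map_trans, Iso1.map_symm, Iso1.trans_assoc]
    congr 1
    rw [← Iso1.trans_assoc, Iso1.trans_symm, Iso1.refl_trans]
  obtain ⟨γ, hγ⟩ := hX.apply x₁ x₂ (j₁ q ≫ t) ht₁ (p₁.symm.trans p₂) (σ₁.trans σ₂) hσ
  obtain ⟨ρ⟩ := exists_iso1_dbl q (X := ξ) (Y := x₂) h𝒳 (𝟙 (dbl q)) t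
    (Iso1.pb h𝒳.1 (f₁.trans γ) (𝟙 Q) ((Category.id_comp _).trans (Category.comp_id _).symm) (Category.id_comp _))
    (Iso1.pb h𝒳.1 f₂ (𝟙 Q) ((Category.id_comp _).trans (Category.comp_id _).symm) (Category.id_comp _))
    (by
      have hb : Iso1.pb h𝒳.1 (f₁.trans γ) q rfl rfl = p₂ := by
        rw [Iso1.pb_trans h𝒳.1 f₁ γ q rfl rfl rfl, hγ]
        show p₁.trans (p₁.symm.trans p₂) = p₂
        rw [← Iso1.trans_assoc, Iso1.trans_symm, Iso1.refl_trans]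
      simp only [Iso1.pb_pb, Category.comp_id]
      have h3 := congrArg (fun w => Iso1.pb h𝒳.1 w (𝟙 P) (g' := q ≫ j₁ q ≫ 𝟙 (dbl q)) (t' := q ≫ j₁ q ≫ t)
        (by simp) (by simp)) hb
      simp only [p₂, Iso1.pb_pb] at h3
      exact (Iso1.pb_congr h𝒳.1 _ (by simp) _ _).trans (h3.trans (Iso1.pb_congr h𝒳.1 _ (by simp) _ _)))
  obtain ⟨E⟩ : Nonempty (Iso1 η' (𝟙 (dbl q)) x₂' t) := Iso1.nonempty_of_cls_eq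
    (((symm h𝒳.1 h𝒳'.1 ψ.src).toEquiv _).injective
      ((cls_obj_eq _ h𝒳.1 hξ (𝟙 (dbl q))).trans (ρ.cls_eq.trans (cls_obj_eq _ h𝒳.1 hx₂ t).symm)))
  -- hence the isomorphism extends
  let E₁ : Iso1 η' (j₁ q) x₂' (j₁ q ≫ t) := Iso1.pb h𝒳'.1 E (j₁ q) (Category.comp_id _) rfl
  let E₂ : Iso1 η' (j₂ q) x₂' (j₂ q ≫ t) := Iso1.pb h𝒳'.1 E (j₂ q) (Category.comp_id _) rfl
  let d₁ : Iso1 x₁' (j₁ q ≫ t) x₂' (j₁ q ≫ t) := e₁.symm.trans E₁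
  let d₂ : Iso1 x₂' (j₁ q ≫ t) x₂' (j₁ q ≫ t) := Iso1.pb h𝒳'.1 (E₂.symm.trans e₂) (𝟙 Q)
    ((Category.id_comp _).trans ht₁₂) ((Category.id_comp _).trans ht₁₂)
  refine ⟨Iso1.pb h𝒳'.1 (d₁.trans d₂) (𝟙 Q) ((Category.id_comp _).trans ht₁) ((Category.id_comp _).trans ht₁), ?_⟩
  have h4 : Iso1.pb h𝒳'.1 (d₁.trans d₂) q rfl rfl = a₀ := by
    have k : Iso1.pb h𝒳'.1 E₁ q rfl rfl = Iso1.pb h𝒳'.1 E₂ q (q_j q).symm hqt₂ := by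
      simp only [E₁, E₂, Iso1.pb_pb]
      exact Iso1.pb_congr h𝒳'.1 E (q_j q) _ _
    have k₂ : Iso1.pb h𝒳'.1 d₂ q rfl rfl = Iso1.pb h𝒳'.1 (E₂.symm.trans e₂) q hqt₂ hqt₂ := by
      simp only [d₂, Iso1.pb_pb]
      exact Iso1.pb_congr h𝒳'.1 _ (Category.comp_id q) _ _
    rw [Iso1.pb_trans h𝒳'.1 d₁ d₂ q rfl rfl rfl, k₂,
      Iso1.pb_trans h𝒳'.1 E₂.symm e₂ q hqt₂ (q_j q).symm hqt₂,
      Iso1.pb_symm h𝒳'.1 E₂ q (q_j q).symm hqt₂,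
      show Iso1.pb h𝒳'.1 d₁ q rfl rfl = (Iso1.pb h𝒳'.1 e₁.symm q rfl rfl).trans (Iso1.pb h𝒳'.1 E₁ q rfl rfl) from
        Iso1.pb_trans h𝒳'.1 e₁.symm E₁ q rfl rfl rfl,
      Iso1.pb_symm h𝒳'.1 e₁ q rfl rfl, k, ← he]
    simp only [Iso1.trans_assoc]
    rw [← Iso1.trans_assoc (Iso1.pb h𝒳'.1 E₂ q (q_j q).symm hqt₂), Iso1.trans_symm, Iso1.refl_trans,
      ← Iso1.trans_assoc, Iso1.symm_trans, Iso1.refl_trans]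
  have h5 := congrArg (fun w => Iso1.pb h𝒳'.1 w (𝟙 P) (g' := q) (t' := q)
    ((Category.id_comp _).trans hqt) ((Category.id_comp _).trans hqt)) h4
  simp only [a₀, Iso1.pb_pb] at h5 ⊢
  exact (Iso1.pb_congr h𝒳'.1 _ (by simp) _ _).trans
    (h5.trans ((Iso1.pb_congr h𝒳'.1 a' (Category.id_comp _) _ _).trans (Iso1.pb_id h𝒳'.1 a')))

end Groth.Agent.IsoNat5
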