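import Groth.Agent.Lib.IsoNat5.Abel
import Groth.Agent.Lib.IsoNat5.AbelMain

/-!
An abelian automorphism group as a set of classes on the double of a node.
-/

universe u

open CategoryTheory CategoryTheory.Functor CategoryTheory.Limits AlgebraicGeometry Opposite

set_option linter.style.haveILetI false
set_option linter.unusedSectionVars false
set_option backward.isDefEq.respectTransparency false
set_option backward.isDefEq.respectTransparency.types false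

namespace Groth.Agent.IsoNat5

open Groth.Agent.FC16 Groth.Agent.StAlg Groth.Agent.StAlg16 AlgSt

variable {S : Scheme.{u}} {𝒳 : AlgSt.Cat S}

/-- factoring through a map -/
def Through {V W : Over S} (i : W ⟶ V) (z : Over V) : Prop := ∃ u : z.left ⟶ W, u ≫ i = z.hom

theorem down_through {V W : Over S} (i : W ⟶ V) : Down (Through i) := fun _ _ φ ⟨u, hu⟩ =>
  ⟨φ.left ≫ u, by rw [Category.assoc, hu, Over.w φ]⟩

theorem mem_J_through {V V₁ V₂ : Over S} (i₁ : V₁ ⟶ V) (i₂ : V₂ ⟶ V) [IsOpenImmersion i₁.left] [IsOpenImmersion i₂.left]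
    (hc : ∀ v : V.left, (∃ a, i₁.left a = v) ∨ ∃ a, i₂.left a = v) :
    twoSieve (Through i₁) (Through i₂) (down_through i₁) (down_through i₂) ∈ QuotSh.J Scheme.fppfPrecoverage S V := by
  let W : ULift.{u} Bool → Over S := fun b => bif b.down then V₁ else V₂
  let π : ∀ b : ULift.{u} Bool, W b ⟶ V := fun b => match b with
    | ⟨true⟩ => i₁
    | ⟨false⟩ => i₂
  refine GrothendieckTopology.superset_covering _ ?_ (AlgSpace.mem_J_of_openImmersions (κ := ULift.{u} Bool)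
    (T' := W) π (fun b => ?_) fun t => ?_)
  · rintro Z _ ⟨_, g, _, ⟨b⟩, rfl⟩
    rcases b with ⟨_ | _⟩
    · exact Or.inr ⟨g, rfl⟩
    · exact Or.inl ⟨g, rfl⟩
  · rcases b with ⟨_ | _⟩
    · exact ‹IsOpenImmersion i₂.left›
    · exact ‹IsOpenImmersion i₁.left›
  · rcases hc t with ⟨a, ha⟩ | ⟨a, ha⟩
    · exact ⟨⟨true⟩, a, ha⟩
    · exact ⟨⟨false⟩, a, ha⟩

section Pieces

variable {A B V V₁ V₂ : Over S} {X : FibCat.overCat A ⥤ᵇ 𝒳} {Y : FibCat.overCat B ⥤ᵇ 𝒳} (i₁ : V₁ ⟶ V) (i₂ : V₂ ⟶ V)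
  [IsOpenImmersion i₁.left] [IsOpenImmersion i₂.left]

/-- isomorphisms on disjoint open pieces glue -/
theorem exists_iso1_disjoint (h𝒳 : Stk.IsStack (QuotSh.J Scheme.fppfPrecoverage S) 𝒳)
    (hc : ∀ v : V.left, (∃ a, i₁.left a = v) ∨ ∃ a, i₂.left a = v) (hd : ∀ a b, i₁.left a ≠ i₂.left b)
    (g : V ⟶ A) (t : V ⟶ B) {g₁ : V₁ ⟶ A} {t₁ : V₁ ⟶ B} {g₂ : V₂ ⟶ A} {t₂ : V₂ ⟶ B}
    (hg₁ : i₁ ≫ g = g₁) (ht₁ : i₁ ≫ t = t₁) (hg₂ : i₂ ≫ g = g₂) (ht₂ : i₂ ≫ t = t₂)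
    (a : Iso1 X g₁ Y t₁) (b : Iso1 X g₂ Y t₂) :
    ∃ e : Iso1 X g Y t, Iso1.pb h𝒳.1 e i₁ hg₁ ht₁ = a ∧ Iso1.pb h𝒳.1 e i₂ hg₂ ht₂ = b := by
  subst hg₁ ht₁ hg₂ ht₂
  haveI : Mono i₁ := Over.mono_of_mono_left _
  haveI : Mono i₂ := Over.mono_of_mono_left _
  choose u hu using fun (z : Over V) (h : Through i₁ z) => h
  choose v hv using fun (z : Over V) (h : Through i₂ z) => h
  let X' := BasedFunctor.comp (AlgSt.overMap g) X
  let Y' := BasedFunctor.comp (AlgSt.overMap t) Y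
  let p₁ : ∀ (z : Over V) (h : Through i₁ z), Iso1 X (z.hom ≫ g) Y (z.hom ≫ t) := fun z h =>
    Iso1.pb h𝒳.1 a (u z h) (by rw [← Category.assoc, hu]) (by rw [← Category.assoc, hu])
  let p₂ : ∀ (z : Over V) (h : Through i₂ z), Iso1 X (z.hom ≫ g) Y (z.hom ≫ t) := fun z h =>
    Iso1.pb h𝒳.1 b (v z h) (by rw [← Category.assoc, hv]) (by rw [← Category.assoc, hv])
  let Ea : LIso (Through i₁) X' Y' :=
    { app := fun z h => (p₁ z h).iso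
      lift := fun z h => (p₁ z h).lift
      nat := fun {z z'} φ h h' => by
        have e : u z h = φ.left ≫ u z' h' := by
          rw [← cancel_mono i₁, hu, Category.assoc, hu]; exact (Over.w φ).symm
        have key : Iso1.pb h𝒳.1 (p₁ z' h') φ.left (g' := z.hom ≫ g) (t' := z.hom ≫ t)
            (by rw [← Category.assoc, Over.w φ]) (by rw [← Category.assoc, Over.w φ]) = p₁ z h := by
          rw [Iso1.pb_pb]; exact (Iso1.pb_congr h𝒳.1 a e.symm _ _)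
        have h2 := Iso1.pb_spec h𝒳.1 (p₁ z' h') φ.left (g' := z.hom ≫ g) (t' := z.hom ≫ t)
            (by rw [← Category.assoc, Over.w φ]) (by rw [← Category.assoc, Over.w φ])
        rw [key] at h2
        exact h2.symm }
  let Eb : LIso (Through i₂) X' Y' :=
    { app := fun z h => (p₂ z h).iso
      lift := fun z h => (p₂ z h).lift
      nat := fun {z z'} φ h h' => by
        have e : v z h = φ.left ≫ v z' h' := by
          rw [← cancel_mono i₂, hv, Category.assoc, hv]; exact (Over.w φ).symm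
        have key : Iso1.pb h𝒳.1 (p₂ z' h') φ.left (g' := z.hom ≫ g) (t' := z.hom ≫ t)
            (by rw [← Category.assoc, Over.w φ]) (by rw [← Category.assoc, Over.w φ]) = p₂ z h := by
          rw [Iso1.pb_pb]; exact (Iso1.pb_congr h𝒳.1 b e.symm _ _)
        have h2 := Iso1.pb_spec h𝒳.1 (p₂ z' h') φ.left (g' := z.hom ≫ g) (t' := z.hom ≫ t)
            (by rw [← Category.assoc, Over.w φ]) (by rw [← Category.assoc, Over.w φ])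
        rw [key] at h2
        exact h2.symm }
  have hab : ∀ z (h₁ : Through i₁ z) (h₂ : Through i₂ z), Ea.app z h₁ = Eb.app z h₂ := fun z h₁ h₂ => by
    haveI : IsEmpty z.left.left := ⟨fun s => hd ((u z h₁).left s) ((v z h₂).left s)
      ((congrArg (fun w => w.left s) (hu z h₁)).trans (congrArg (fun w => w.left s) (hv z h₂)).symm)⟩
    exact congrArg Iso1.iso (iso1_eq_of_isEmpty h𝒳 (p₁ z h₁) (p₂ z h₂))
  obtain ⟨β, hβ⟩ : ∃ β : X' ≅ Y', (∀ z (h : Through i₁ z), appIso β z = Ea.app z h) ∧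
      ∀ z (h : Through i₂ z), appIso β z = Eb.app z h :=
    exists_iso_of_liso' h𝒳 (mem_J_through i₁ i₂ hc) Ea Eb hab
  let e : Iso1 X g Y t := ((Iso1.ofEq X (Category.id_comp g).symm).trans
    (⟨appIso β (Over.mk (𝟙 _)), isHomLift_appIso_hom β _ rfl⟩ : Iso1 X (𝟙 _ ≫ g) Y (𝟙 _ ≫ t))).trans
      (Iso1.ofEq Y (Category.id_comp t))
  have hres : ∀ {G : Over S} (m : G ⟶ V), Iso1.pb h𝒳.1 e m (g' := m ≫ g) (t' := m ≫ t) rfl rfl =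
      ⟨appIso β (Over.mk m), isHomLift_appIso_hom β _ rfl⟩ := fun {G} m => by
    simp only [e]
    rw [Iso1.pb_trans h𝒳.1 _ (Iso1.ofEq Y _) m (ht := show m ≫ 𝟙 _ ≫ t = m ≫ t by rw [Category.id_comp]),
      Iso1.pb_trans h𝒳.1 (Iso1.ofEq X _) _ m (ht := show m ≫ 𝟙 _ ≫ g = m ≫ g by rw [Category.id_comp]),
      Iso1.pb_ofEq, Iso1.pb_ofEq, Iso1.ofEq_rfl, Iso1.ofEq_rfl, Iso1.refl_trans, Iso1.trans_refl]
    refine Iso1.pb_unique h𝒳.1 _ ?_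
    exact (β.hom.toNatTrans.naturality (sl m (Category.comp_id m))).symm
  have hu₁ : u (Over.mk i₁) ⟨𝟙 _, Category.id_comp _⟩ = 𝟙 _ := by
    rw [← cancel_mono i₁, hu, Category.id_comp]; rfl
  have hv₂ : v (Over.mk i₂) ⟨𝟙 _, Category.id_comp _⟩ = 𝟙 _ := by
    rw [← cancel_mono i₂, hv, Category.id_comp]; rfl
  refine ⟨e, (hres i₁).trans ((Iso1.ext (hβ.1 (Over.mk i₁) ⟨𝟙 _, Category.id_comp _⟩)).trans ?_),
    (hres i₂).trans ((Iso1.ext (hβ.2 (Over.mk i₂) ⟨𝟙 _, Category.id_comp _⟩)).trans ?_)⟩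
  · show Iso1.pb h𝒳.1 a _ _ _ = a
    rw [Iso1.pb_congr h𝒳.1 a hu₁]
    exact Iso1.pb_id h𝒳.1 a
  · show Iso1.pb h𝒳.1 b _ _ _ = b
    rw [Iso1.pb_congr h𝒳.1 b hv₂]
    exact Iso1.pb_id h𝒳.1 b

/-- isomorphisms are determined on two pieces -/
theorem iso1_eq_of_two (h𝒳 : Stk.IsStack (QuotSh.J Scheme.fppfPrecoverage S) 𝒳)
    (hc : ∀ v : V.left, (∃ a, i₁.left a = v) ∨ ∃ a, i₂.left a = v) {g : V ⟶ A} {t : V ⟶ B} (e e' : Iso1 X g Y t)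
    {g₁ : V₁ ⟶ A} {t₁ : V₁ ⟶ B} {g₂ : V₂ ⟶ A} {t₂ : V₂ ⟶ B}
    (hg₁ : i₁ ≫ g = g₁) (ht₁ : i₁ ≫ t = t₁) (hg₂ : i₂ ≫ g = g₂) (ht₂ : i₂ ≫ t = t₂)
    (h₁ : Iso1.pb h𝒳.1 e i₁ hg₁ ht₁ = Iso1.pb h𝒳.1 e' i₁ hg₁ ht₁)
    (h₂ : Iso1.pb h𝒳.1 e i₂ hg₂ ht₂ = Iso1.pb h𝒳.1 e' i₂ hg₂ ht₂) : e = e' := by
  subst hg₁ ht₁ hg₂ ht₂
  refine iso1_eq_of_cover h𝒳 e e' (mem_J_through i₁ i₂ hc) ?_
  intro W f hf
  rcases hf with ⟨u, hu⟩ | ⟨u, hu⟩
  · change u ≫ i₁ = f at hu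
    have h := congrArg (fun w => Iso1.pb h𝒳.1 w u (g' := f ≫ g) (t' := f ≫ t)
      (by rw [← hu, Category.assoc]) (by rw [← hu, Category.assoc])) h₁
    simp only [Iso1.pb_pb] at h
    exact (Iso1.pb_congr h𝒳.1 e hu.symm _ _).trans (h.trans (Iso1.pb_congr h𝒳.1 e' hu _ _))
  · change u ≫ i₂ = f at hu
    have h := congrArg (fun w => Iso1.pb h𝒳.1 w u (g' := f ≫ g) (t' := f ≫ t)
      (by rw [← hu, Category.assoc]) (by rw [← hu, Category.assoc])) h₂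
    simp only [Iso1.pb_pb] at h
    exact (Iso1.pb_congr h𝒳.1 e hu.symm _ _).trans (h.trans (Iso1.pb_congr h𝒳.1 e' hu _ _))

/-- an object twisted by an automorphism on the overlap of two open pieces -/
theorem exists_twist_two (h𝒳 : Stk.IsStack (QuotSh.J Scheme.fppfPrecoverage S) 𝒳) {P : Over S}
    (k₁ : P ⟶ V₁) (k₂ : P ⟶ V₂) (hk : k₁ ≫ i₁ = k₂ ≫ i₂) (hki : IsOpenImmersion k₁.left)
    (hc : ∀ v : V.left, (∃ a, i₁.left a = v) ∨ ∃ a, i₂.left a = v)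
    (hov : ∀ a b, i₁.left a = i₂.left b → a ∈ Set.range k₁.left)
    (t : V ⟶ B) (α : Iso1 Y (k₁ ≫ i₁ ≫ t) Y (k₁ ≫ i₁ ≫ t)) :
    ∃ (η : FibCat.overCat V ⥤ᵇ 𝒳) (e₁ : Iso1 η i₁ Y (i₁ ≫ t)) (e₂ : Iso1 η i₂ Y (i₂ ≫ t)),
      (Iso1.pb h𝒳.1 e₁ k₁ rfl rfl).trans α =
        Iso1.pb h𝒳.1 e₂ k₂ hk.symm (by rw [← Category.assoc, ← hk, Category.assoc]) := by
  haveI := hki
  haveI hii : IsOpenImmersion (k₁ ≫ i₁).left := inferInstanceAs (IsOpenImmersion (k₁.left ≫ i₁.left))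
  haveI : Mono (k₁ ≫ i₁) := Over.mono_of_mono_left _
  haveI : Mono i₁ := Over.mono_of_mono_left _
  haveI : Mono i₂ := Over.mono_of_mono_left _
  choose l hl using fun (z : Over V) (h : Through i₁ z ∧ Through i₂ z) =>
    (show ∃ l : z.left ⟶ P, l ≫ k₁ ≫ i₁ = z.hom from by
      obtain ⟨⟨u, hu⟩, ⟨v, hv⟩⟩ := h
      have hr : Set.range u.left ⊆ Set.range k₁.left := by
        rintro _ ⟨s, rfl⟩
        exact hov _ _ (congrArg (fun w : z.left ⟶ V => w.left s) (hu.trans hv.symm))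
      let l : z.left ⟶ P := Over.homMk (IsOpenImmersion.lift k₁.left u.left hr) (by
        rw [← Over.w k₁, ← Category.assoc, IsOpenImmersion.lift_fac]
        exact Over.w u)
      have hl : l ≫ k₁ = u := Over.OverMorphism.ext (IsOpenImmersion.lift_fac _ _ _)
      exact ⟨l, by rw [reassoc_of% hl, hu]⟩)
  let Y' := BasedFunctor.comp (AlgSt.overMap t) Y
  let α' : ∀ (z : Over V) (h : Through i₁ z ∧ Through i₂ z), Iso1 Y (z.hom ≫ t) Y (z.hom ≫ t) := fun z h =>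
    Iso1.pb h𝒳.1 α (l z h) (by rw [← hl z h]; simp only [Category.assoc]) (by rw [← hl z h]; simp only [Category.assoc])
  let β : LIso (fun z => Through i₁ z ∧ Through i₂ z) Y' Y' :=
    { app := fun z h => (α' z h).iso
      lift := fun z h => (α' z h).lift
      nat := fun {z z'} φ h h' => by
        have e : l z h = φ.left ≫ l z' h' := by
          rw [← cancel_mono (k₁ ≫ i₁), hl, Category.assoc, hl]; exact (Over.w φ).symm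
        have key : Iso1.pb h𝒳.1 (α' z' h') φ.left (g' := z.hom ≫ t) (t' := z.hom ≫ t)
            (by rw [← Category.assoc, Over.w φ]) (by rw [← Category.assoc, Over.w φ]) = α' z h := by
          rw [Iso1.pb_pb]; exact (Iso1.pb_congr h𝒳.1 α e.symm _ _)
        have h2 := Iso1.pb_spec h𝒳.1 (α' z' h') φ.left (g' := z.hom ≫ t) (t' := z.hom ≫ t)
            (by rw [← Category.assoc, Over.w φ]) (by rw [← Category.assoc, Over.w φ])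
        rw [key] at h2
        exact h2.symm }
  obtain ⟨η, Ea, Eb, hab⟩ := exists_twist h𝒳 (mem_J_through i₁ i₂ hc) Y' β
  have h₁ : Through i₁ (Over.mk i₁) := ⟨𝟙 _, Category.id_comp _⟩
  have h₂ : Through i₂ (Over.mk i₂) := ⟨𝟙 _, Category.id_comp _⟩
  let e₁ : Iso1 η i₁ Y (i₁ ≫ t) := ⟨Ea.app _ h₁, Ea.lift _ h₁⟩
  let e₂ : Iso1 η i₂ Y (i₂ ≫ t) := ⟨Eb.app _ h₂, Eb.lift _ h₂⟩
  refine ⟨η, e₁, e₂, ?_⟩
  let zP : Over V := Over.mk (k₁ ≫ i₁)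
  have hA : Through i₁ zP := ⟨k₁, rfl⟩
  have hB : Through i₂ zP := ⟨k₂, hk.symm⟩
  have q₁ : Iso1.pb h𝒳.1 e₁ k₁ rfl (t' := k₁ ≫ i₁ ≫ t) rfl = ⟨Ea.app zP hA, by
      exact Ea.lift zP hA⟩ := Iso1.pb_unique h𝒳.1 _ (by
    have := Ea.nat (z := zP) (z' := Over.mk i₁) (Over.homMk k₁ rfl) hA h₁
    exact this.symm)
  have q₂ : Iso1.pb h𝒳.1 e₂ k₂ hk.symm (t' := k₁ ≫ i₁ ≫ t)
      (by rw [← Category.assoc, ← hk, Category.assoc]) = ⟨Eb.app zP hB, by exact Eb.lift zP hB⟩ :=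
    Iso1.pb_unique h𝒳.1 _ (by
      have := Eb.nat (z := zP) (z' := Over.mk i₂) (Over.homMk k₂ hk.symm) hB h₂
      exact this.symm)
  have hl0 : l zP ⟨hA, hB⟩ = 𝟙 _ := by
    rw [← cancel_mono (k₁ ≫ i₁), hl, Category.id_comp]
    rfl
  have kα : (α' zP ⟨hA, hB⟩) = α := by
    show Iso1.pb h𝒳.1 α _ _ _ = _
    rw [Iso1.pb_congr h𝒳.1 α hl0]
    exact Iso1.pb_id h𝒳.1 α
  rw [q₁, q₂]
  refine Iso1.ext ?_
  show Ea.app zP hA ≪≫ α.iso = Eb.app zP hB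
  rw [← hab zP hA hB]
  exact congrArg (fun w => Ea.app zP hA ≪≫ w) (congrArg Iso1.iso kα).symm

end Pieces

/-- two lines through a point, with their punctured parts and retractions -/
structure NodeSys (T : Over S) where
  /-- the node -/
  Q : Over S
  /-- the punctured node -/
  P : Over S
  /-- the first line -/
  La : Over S
  /-- the second line -/
  Lb : Over S
  /-- the first punctured line -/
  Ga : Over S
  /-- the second punctured line -/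
  Gb : Over S
  /-- the inclusion of the punctured node -/
  q : P ⟶ Q
  /-- the projection -/
  pQ : Q ⟶ T
  /-- the first branch -/
  la : La ⟶ Q
  /-- the second branch -/
  lb : Lb ⟶ Q
  /-- puncturing the first line -/
  qa : Ga ⟶ La
  /-- puncturing the second line -/
  qb : Gb ⟶ Lb
  /-- the first piece -/
  ma : Ga ⟶ P
  /-- the second piece -/
  mb : Gb ⟶ P
  /-- the origin of the first line -/
  oa : T ⟶ La
  /-- the origin of the second line -/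
  ob : T ⟶ Lb
  /-- retraction to the first line -/
  ra : Q ⟶ La
  /-- retraction to the second line -/
  rb : Q ⟶ Lb
  q_imm : IsOpenImmersion q.left
  qa_imm : IsOpenImmersion qa.left
  qb_imm : IsOpenImmersion qb.left
  ma_imm : IsOpenImmersion ma.left
  mb_imm : IsOpenImmersion mb.left
  cover : ∀ v : P.left, (∃ a, ma.left a = v) ∨ ∃ a, mb.left a = v
  disj : ∀ a b, ma.left a ≠ mb.left b
  sqa : ma ≫ q = qa ≫ la
  sqb : mb ≫ q = qb ≫ lb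
  origin : oa ≫ la = ob ≫ lb
  hop : oa ≫ la ≫ pQ = 𝟙 T
  la_ra : la ≫ ra = 𝟙 La
  lb_ra : lb ≫ ra = lb ≫ pQ ≫ oa
  ra_p : ra ≫ la ≫ pQ = pQ
  lb_rb : lb ≫ rb = 𝟙 Lb
  la_rb : la ≫ rb = la ≫ pQ ≫ ob
  rb_p : rb ≫ lb ≫ pQ = pQ

attribute [instance] NodeSys.q_imm NodeSys.qa_imm NodeSys.qb_imm NodeSys.ma_imm NodeSys.mb_imm

namespace NodeSys

variable {T : Over S} (N : NodeSys T)

theorem hob : N.ob ≫ N.lb ≫ N.pQ = 𝟙 T := by rw [← reassoc_of% N.origin, N.hop]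

/-- the double -/
noncomputable abbrev D : Over S := dbl N.q

/-- the map of the double to the base -/
noncomputable def t : N.D ⟶ T := dblDesc N.q N.pQ N.pQ rfl

theorem j₁_t : j₁ N.q ≫ N.t = N.pQ := j₁_desc _ _ _ _
theorem j₂_t : j₂ N.q ≫ N.t = N.pQ := j₂_desc _ _ _ _

theorem da_cond : N.qa ≫ N.la ≫ j₁ N.q = N.qa ≫ N.la ≫ j₂ N.q := by
  rw [← reassoc_of% N.sqa, ← reassoc_of% N.sqa, q_j]

theorem db_cond : N.qb ≫ N.lb ≫ j₁ N.q = N.qb ≫ N.lb ≫ j₂ N.q := by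
  rw [← reassoc_of% N.sqb, ← reassoc_of% N.sqb, q_j]

/-- the double of the first line -/
noncomputable def da : dbl N.qa ⟶ N.D := dblDesc N.qa (N.la ≫ j₁ N.q) (N.la ≫ j₂ N.q) N.da_cond

/-- the double of the second line -/
noncomputable def db : dbl N.qb ⟶ N.D := dblDesc N.qb (N.lb ≫ j₁ N.q) (N.lb ≫ j₂ N.q) N.db_cond

theorem j₁_da : j₁ N.qa ≫ N.da = N.la ≫ j₁ N.q := j₁_desc _ _ _ _
theorem j₂_da : j₂ N.qa ≫ N.da = N.la ≫ j₂ N.q := j₂_desc _ _ _ _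
theorem j₁_db : j₁ N.qb ≫ N.db = N.lb ≫ j₁ N.q := j₁_desc _ _ _ _
theorem j₂_db : j₂ N.qb ≫ N.db = N.lb ≫ j₂ N.q := j₂_desc _ _ _ _

/-- automorphisms on the lines are determined on the punctured lines -/
def Dense (𝒳 : AlgSt.Cat S) {U : Over S} (c : FibCat.overCat U ⥤ᵇ 𝒳) : Prop :=
  ∀ (h𝒳 : FibCat.IsFibGrpd 𝒳.p),
    (∀ (g : N.La ⟶ U) (h h' : Iso1 c g c g),
      Iso1.pb h𝒳 h N.qa rfl rfl = Iso1.pb h𝒳 h' N.qa rfl rfl → h = h') ∧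
    ∀ (g : N.Lb ⟶ U) (h h' : Iso1 c g c g),
      Iso1.pb h𝒳 h N.qb rfl rfl = Iso1.pb h𝒳 h' N.qb rfl rfl → h = h'

variable {y : FibCat.overCat T ⥤ᵇ 𝒳}

theorem ma_p : N.ma ≫ N.q ≫ N.pQ = N.qa ≫ N.la ≫ N.pQ := by rw [reassoc_of% N.sqa]

theorem mb_p : N.mb ≫ N.q ≫ N.pQ = N.qb ≫ N.lb ≫ N.pQ := by rw [reassoc_of% N.sqb]

/-- the twist of an automorphism: it on the first piece, the identity on the second -/
def Pieces (gX : FibCat.IsFibGrpd 𝒳.p) (γ : Iso1 y (𝟙 T) y (𝟙 T))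
    (α : Iso1 y (N.q ≫ N.pQ) y (N.q ≫ N.pQ)) : Prop :=
  Iso1.pb gX α N.ma N.ma_p N.ma_p = Iso1.pb gX γ (N.qa ≫ N.la ≫ N.pQ) (Category.comp_id _) (Category.comp_id _) ∧
    Iso1.pb gX α N.mb N.mb_p N.mb_p = Iso1.refl y (N.qb ≫ N.lb ≫ N.pQ)

theorem exists_pieces (h𝒳 : Stk.IsStack (QuotSh.J Scheme.fppfPrecoverage S) 𝒳) (γ : Iso1 y (𝟙 T) y (𝟙 T)) :
    ∃ α, N.Pieces h𝒳.1 γ α :=
  exists_iso1_disjoint N.ma N.mb h𝒳 N.cover N.disj _ _ N.ma_p N.ma_p N.mb_p N.mb_p _ _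

/-- the object `C` is, along `d`, the twist by `γ` -/
def Tw {V : Over S} (gX : FibCat.IsFibGrpd 𝒳.p) (C : FibCat.overCat V ⥤ᵇ 𝒳) (d : N.D ⟶ V)
    (γ : Iso1 y (𝟙 T) y (𝟙 T)) : Prop :=
  ∃ (e₁ : Iso1 C (j₁ N.q ≫ d) y N.pQ) (e₂ : Iso1 C (j₂ N.q ≫ d) y N.pQ) (α : Iso1 y (N.q ≫ N.pQ) y (N.q ≫ N.pQ)),
    N.Pieces gX γ α ∧ (Iso1.pb gX e₁ N.q rfl rfl).trans α =
      Iso1.pb gX e₂ N.q (by rw [← Category.assoc, ← q_j, Category.assoc]) rfl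

/-- the classes attached to automorphisms -/
def InK {V : Over S} (C : FibCat.overCat V ⥤ᵇ 𝒳) (d : N.D ⟶ V) (y : FibCat.overCat T ⥤ᵇ 𝒳) : Prop :=
  Nonempty (Iso1 C (j₁ N.q ≫ d) y N.pQ) ∧ Nonempty (Iso1 C (j₂ N.q ≫ d) y N.pQ) ∧
    Nonempty (Iso1 C (N.da ≫ d) y (N.da ≫ N.t)) ∧ Nonempty (Iso1 C (N.db ≫ d) y (N.db ≫ N.t))

theorem exists_tw (h𝒳 : Stk.IsStack (QuotSh.J Scheme.fppfPrecoverage S) 𝒳) (γ : Iso1 y (𝟙 T) y (𝟙 T)) :
    ∃ η : FibCat.overCat N.D ⥤ᵇ 𝒳, N.Tw h𝒳.1 η (𝟙 _) γ := by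
  have gX := h𝒳.1
  obtain ⟨α, hα⟩ := N.exists_pieces h𝒳 γ
  let α' : Iso1 y (N.q ≫ j₁ N.q ≫ N.t) y (N.q ≫ j₁ N.q ≫ N.t) :=
    Iso1.pb gX α (𝟙 _) (by rw [Category.id_comp, j₁_t]) (by rw [Category.id_comp, j₁_t])
  obtain ⟨η, e₁, e₂, he⟩ := exists_twist_dbl N.q h𝒳 N.t α'
  refine ⟨η, Iso1.pb gX e₁ (𝟙 _) (by rw [Category.id_comp, Category.comp_id]) (by rw [Category.id_comp, j₁_t]),
    Iso1.pb gX e₂ (𝟙 _) (by rw [Category.id_comp, Category.comp_id]) (by rw [Category.id_comp, j₂_t]), α, hα, ?_⟩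
  let g' := N.q ≫ j₁ N.q ≫ 𝟙 N.D
  have hg : 𝟙 N.P ≫ N.q ≫ j₁ N.q = g' := by simp [g']
  have ht : 𝟙 N.P ≫ N.q ≫ j₁ N.q ≫ N.t = N.q ≫ N.pQ := by rw [Category.id_comp, j₁_t]
  have h := congrArg (fun r => Iso1.pb gX r (𝟙 N.P) (g' := g') (t' := N.q ≫ N.pQ) hg ht) he
  rw [Iso1.pb_trans gX _ α' (𝟙 N.P) (ht := ht)] at h
  simp only [α', Iso1.pb_pb] at h ⊢
  rw [Iso1.pb_congr gX α (Category.comp_id (𝟙 N.P)), Iso1.pb_id] at h
  exact (congrArg (fun r : Iso1 η g' y (N.q ≫ N.pQ) => r.trans α)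
    (Iso1.pb_congr gX e₁ ((Category.comp_id _).trans (Category.id_comp _).symm) _ _)).trans
      (h.trans (Iso1.pb_congr gX e₂ ((Category.id_comp _).trans (Category.comp_id _).symm) _ _))

theorem tw_congr {V V' : Over S} (gX : FibCat.IsFibGrpd 𝒳.p) {C : FibCat.overCat V ⥤ᵇ 𝒳} {d : N.D ⟶ V}
    {C' : FibCat.overCat V' ⥤ᵇ 𝒳} {d' : N.D ⟶ V'} {γ : Iso1 y (𝟙 T) y (𝟙 T)} (i : Iso1 C' d' C d)
    (h : N.Tw gX C d γ) : N.Tw gX C' d' γ := by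
  obtain ⟨e₁, e₂, α, hα, he⟩ := h
  refine ⟨(Iso1.pb gX i (j₁ N.q) rfl rfl).trans e₁, (Iso1.pb gX i (j₂ N.q) rfl rfl).trans e₂, α, hα, ?_⟩
  have hd' : N.q ≫ j₂ N.q ≫ d' = N.q ≫ j₁ N.q ≫ d' := by rw [← Category.assoc, ← q_j, Category.assoc]
  have hd : N.q ≫ j₂ N.q ≫ d = N.q ≫ j₁ N.q ≫ d := by rw [← Category.assoc, ← q_j, Category.assoc]
  rw [Iso1.pb_trans gX _ e₁ N.q (ht := show N.q ≫ j₁ N.q ≫ d = N.q ≫ j₁ N.q ≫ d from rfl),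
    Iso1.pb_trans gX _ e₂ N.q (ht := hd), Iso1.trans_assoc, he]
  simp only [Iso1.pb_pb]
  rw [Iso1.pb_congr gX i (q_j N.q)]

theorem la_eq (gX : FibCat.IsFibGrpd 𝒳.p) (hD : N.Dense 𝒳 y) (h : Iso1 y N.pQ y N.pQ)
    (a : Iso1 y (N.la ≫ N.pQ) y (N.la ≫ N.pQ))
    (ha : Iso1.pb gX (Iso1.pb gX h N.q rfl rfl) N.ma N.ma_p N.ma_p = Iso1.pb gX a N.qa rfl rfl) :
    Iso1.pb gX h N.la rfl rfl = a := by
  refine (hD gX).1 _ _ _ ?_
  rw [Iso1.pb_pb] at ha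
  rw [← ha, Iso1.pb_pb]
  exact Iso1.pb_congr gX h N.sqa.symm _ _

theorem lb_eq (gX : FibCat.IsFibGrpd 𝒳.p) (hD : N.Dense 𝒳 y) (h : Iso1 y N.pQ y N.pQ)
    (b : Iso1 y (N.lb ≫ N.pQ) y (N.lb ≫ N.pQ))
    (hb : Iso1.pb gX (Iso1.pb gX h N.q rfl rfl) N.mb N.mb_p N.mb_p = Iso1.pb gX b N.qb rfl rfl) :
    Iso1.pb gX h N.lb rfl rfl = b := by
  refine (hD gX).2 _ _ _ ?_
  rw [Iso1.pb_pb] at hb
  rw [← hb, Iso1.pb_pb]
  exact Iso1.pb_congr gX h N.sqb.symm _ _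

/-- a twist determines the automorphism -/
theorem tw_inj (gX : FibCat.IsFibGrpd 𝒳.p) (hD : N.Dense 𝒳 y) (hc : PbComm y) {V : Over S}
    {C : FibCat.overCat V ⥤ᵇ 𝒳} {d : N.D ⟶ V} {γ δ : Iso1 y (𝟙 T) y (𝟙 T)} (h₁ : N.Tw gX C d γ)
    (h₂ : N.Tw gX C d δ) : γ = δ := by
  obtain ⟨e₁, e₂, α, ⟨hαa, hαb⟩, he⟩ := h₁
  obtain ⟨f₁, f₂, β, ⟨hβa, hβb⟩, hf⟩ := h₂
  let h := (e₁.symm.trans f₁).trans (e₂.symm.trans f₂).symm
  have hP : Iso1.pb gX h N.q rfl rfl = α.trans β.symm := by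
    simp only [h]
    have hd : N.q ≫ j₂ N.q ≫ d = N.q ≫ j₁ N.q ≫ d := by rw [← Category.assoc, ← q_j, Category.assoc]
    rw [Iso1.pb_trans gX _ (Iso1.symm _) N.q (ht := show N.q ≫ N.pQ = N.q ≫ N.pQ from rfl),
      Iso1.pb_symm gX (e₂.symm.trans f₂) N.q rfl rfl,
      Iso1.pb_trans gX e₁.symm f₁ N.q (ht := show N.q ≫ j₁ N.q ≫ d = N.q ≫ j₁ N.q ≫ d from rfl),
      Iso1.pb_trans gX e₂.symm f₂ N.q (ht := hd),
      Iso1.pb_symm gX e₁ N.q rfl rfl, Iso1.pb_symm gX e₂ N.q hd rfl, ← he, ← hf]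
    let E₁ := Iso1.pb gX e₁ N.q (g' := N.q ≫ j₁ N.q ≫ d) (t' := N.q ≫ N.pQ) rfl rfl
    let F₁ := Iso1.pb gX f₁ N.q (g' := N.q ≫ j₁ N.q ≫ d) (t' := N.q ≫ N.pQ) rfl rfl
    show (E₁.symm.trans F₁).trans ((E₁.trans α).symm.trans (F₁.trans β)).symm = α.trans β.symm
    have hcomm := hc _ _ (E₁.symm.trans F₁) β.symm
    have e : ((E₁.trans α).symm.trans (F₁.trans β)).symm = β.symm.trans ((E₁.symm.trans F₁).symm.trans α) := by
      refine Iso1.ext (Iso.ext ?_)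
      simp [Iso1.trans, Iso1.symm]
    rw [e, ← Iso1.trans_assoc, hcomm, Iso1.trans_assoc, ← Iso1.trans_assoc (E₁.symm.trans F₁), Iso1.trans_symm,
      Iso1.refl_trans]
    exact hc _ _ _ _
  have hA : Iso1.pb gX h N.la rfl rfl =
      Iso1.pb gX (γ.trans δ.symm) (N.la ≫ N.pQ) (Category.comp_id _) (Category.comp_id _) := by
    refine N.la_eq gX hD h _ ?_
    rw [hP, Iso1.pb_trans gX α β.symm N.ma (ht := N.ma_p), Iso1.pb_symm gX β N.ma N.ma_p N.ma_p, hαa, hβa,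
      Iso1.pb_pb, Iso1.pb_trans gX γ δ.symm _ (ht := Category.comp_id (N.qa ≫ N.la ≫ N.pQ)),
      Iso1.pb_symm gX δ _ (Category.comp_id (N.qa ≫ N.la ≫ N.pQ)) (Category.comp_id (N.qa ≫ N.la ≫ N.pQ))]
  have hB : Iso1.pb gX h N.lb rfl rfl = Iso1.refl y (N.lb ≫ N.pQ) := by
    refine N.lb_eq gX hD h _ ?_
    rw [hP, Iso1.pb_trans gX α β.symm N.mb (ht := N.mb_p), Iso1.pb_symm gX β N.mb N.mb_p N.mb_p, hαb, hβb,
      Iso1.refl_symm, Iso1.trans_refl, Iso1.pb_refl]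
  have h1 := congrArg (fun w => Iso1.pb gX w N.oa (g' := 𝟙 T) (t' := 𝟙 T) N.hop N.hop) hA
  have h2 := congrArg (fun w => Iso1.pb gX w N.ob (g' := 𝟙 T) (t' := 𝟙 T) N.hob N.hob) hB
  simp only [Iso1.pb_pb, Iso1.pb_refl] at h1 h2
  rw [Iso1.pb_congr gX _ N.hop, Iso1.pb_id, Iso1.pb_congr gX h N.origin, h2] at h1
  exact Iso1.trans_right_cancel δ.symm (h1.symm.trans (Iso1.trans_symm δ).symm)

/-- twists are in the set of attached classes -/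
theorem inK_of_tw (h𝒳 : Stk.IsStack (QuotSh.J Scheme.fppfPrecoverage S) 𝒳) {V : Over S}
    {C : FibCat.overCat V ⥤ᵇ 𝒳} {d : N.D ⟶ V} {γ : Iso1 y (𝟙 T) y (𝟙 T)} (h : N.Tw h𝒳.1 C d γ) :
    N.InK C d y := by
  have gX := h𝒳.1
  obtain ⟨e₁, e₂, α, ⟨hαa, hαb⟩, he⟩ := h
  refine ⟨⟨e₁⟩, ⟨e₂⟩, ?_, ?_⟩
  · let f₁ : Iso1 C (N.la ≫ j₁ N.q ≫ d) y (N.la ≫ N.pQ) :=
      (Iso1.pb gX e₁ N.la rfl rfl).trans (Iso1.pb gX γ (N.la ≫ N.pQ) (Category.comp_id _) (Category.comp_id _))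
    let f₂ : Iso1 C (N.la ≫ j₂ N.q ≫ d) y (N.la ≫ N.pQ) := Iso1.pb gX e₂ N.la rfl rfl
    refine exists_iso1_dbl N.qa h𝒳 (N.da ≫ d) (N.da ≫ N.t)
      (Iso1.pb gX f₁ (𝟙 _) (by rw [Category.id_comp, reassoc_of% N.j₁_da]) (by rw [Category.id_comp, reassoc_of% N.j₁_da, j₁_t]))
      (Iso1.pb gX f₂ (𝟙 _) (by rw [Category.id_comp, reassoc_of% N.j₂_da]) (by rw [Category.id_comp, reassoc_of% N.j₂_da, j₂_t])) ?_
    let g' := N.qa ≫ j₁ N.qa ≫ N.da ≫ d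
    let t' := N.qa ≫ j₁ N.qa ≫ N.da ≫ N.t
    have hg : N.qa ≫ N.la ≫ j₁ N.q ≫ d = g' := by simp only [g', reassoc_of% N.j₁_da]
    have ht : N.qa ≫ N.la ≫ N.pQ = t' := by simp only [t', reassoc_of% N.j₁_da, j₁_t]
    rw [Iso1.pb_pb, Iso1.pb_pb, Iso1.pb_congr gX f₁ (Category.comp_id N.qa),
      Iso1.pb_congr gX f₂ (Category.comp_id N.qa)]
    simp only [f₁, f₂]
    rw [Iso1.pb_trans gX _ (Iso1.pb gX γ _ _ _) N.qa (g' := g') (s' := t') (t' := t') (ht := ht), Iso1.pb_pb, Iso1.pb_pb, Iso1.pb_pb]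
    have h2 := congrArg (fun r => Iso1.pb gX r N.ma (g' := g') (t' := t')
      (by rw [reassoc_of% N.sqa, hg]) (by rw [reassoc_of% N.sqa, ht])) he
    rw [Iso1.pb_trans gX _ α N.ma (ht := show N.ma ≫ N.q ≫ N.pQ = t' by rw [reassoc_of% N.sqa, ht])] at h2
    simp only [Iso1.pb_pb] at h2
    rw [Iso1.pb_congr gX e₁ N.sqa, Iso1.pb_congr gX e₂ N.sqa] at h2
    refine Eq.trans ?_ h2
    congr 1
    have h3 := congrArg (fun r => Iso1.pb gX r (𝟙 N.Ga) (g' := t') (t' := t') (by rw [Category.id_comp, ht])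
      (by rw [Category.id_comp, ht])) hαa
    simp only [Iso1.pb_pb] at h3
    exact (Iso1.pb_congr gX γ (Category.id_comp _).symm _ _).trans
      (h3.symm.trans (Iso1.pb_congr gX α (Category.id_comp _) _ _))
  · let f₁ : Iso1 C (N.lb ≫ j₁ N.q ≫ d) y (N.lb ≫ N.pQ) := Iso1.pb gX e₁ N.lb rfl rfl
    let f₂ : Iso1 C (N.lb ≫ j₂ N.q ≫ d) y (N.lb ≫ N.pQ) := Iso1.pb gX e₂ N.lb rfl rfl
    refine exists_iso1_dbl N.qb h𝒳 (N.db ≫ d) (N.db ≫ N.t)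
      (Iso1.pb gX f₁ (𝟙 _) (by rw [Category.id_comp, reassoc_of% N.j₁_db]) (by rw [Category.id_comp, reassoc_of% N.j₁_db, j₁_t]))
      (Iso1.pb gX f₂ (𝟙 _) (by rw [Category.id_comp, reassoc_of% N.j₂_db]) (by rw [Category.id_comp, reassoc_of% N.j₂_db, j₂_t])) ?_
    let g' := N.qb ≫ j₁ N.qb ≫ N.db ≫ d
    let t' := N.qb ≫ j₁ N.qb ≫ N.db ≫ N.t
    have hg : N.qb ≫ N.lb ≫ j₁ N.q ≫ d = g' := by simp only [g', reassoc_of% N.j₁_db]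
    have ht : N.qb ≫ N.lb ≫ N.pQ = t' := by simp only [t', reassoc_of% N.j₁_db, j₁_t]
    rw [Iso1.pb_pb gX f₁, Iso1.pb_pb gX f₂, Iso1.pb_congr gX f₁ (Category.comp_id N.qb),
      Iso1.pb_congr gX f₂ (Category.comp_id N.qb)]
    simp only [f₁, f₂]
    rw [Iso1.pb_pb, Iso1.pb_pb]
    have h2 := congrArg (fun r => Iso1.pb gX r N.mb (g' := g') (t' := t')
      (by rw [reassoc_of% N.sqb, hg]) (by rw [reassoc_of% N.sqb, ht])) he
    rw [Iso1.pb_trans gX _ α N.mb (ht := show N.mb ≫ N.q ≫ N.pQ = t' by rw [reassoc_of% N.sqb, ht])] at h2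
    simp only [Iso1.pb_pb] at h2
    rw [Iso1.pb_congr gX e₁ N.sqb, Iso1.pb_congr gX e₂ N.sqb] at h2
    refine Eq.trans ?_ h2
    have h3 := congrArg (fun r => Iso1.pb gX r (𝟙 N.Gb) (g' := t') (t' := t') (by rw [Category.id_comp, ht])
      (by rw [Category.id_comp, ht])) hαb
    simp only [Iso1.pb_pb, Iso1.pb_refl] at h3
    rw [Iso1.pb_congr gX α (Category.id_comp _)] at h3
    rw [h3, Iso1.trans_refl]

/-- the attached classes are twists -/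
theorem exists_tw_of_inK (h𝒳 : Stk.IsStack (QuotSh.J Scheme.fppfPrecoverage S) 𝒳) (hc : PbComm y) {V : Over S}
    {C : FibCat.overCat V ⥤ᵇ 𝒳} {d : N.D ⟶ V} (h : N.InK C d y) : ∃ γ : Iso1 y (𝟙 T) y (𝟙 T), N.Tw h𝒳.1 C d γ := by
  have gX := h𝒳.1
  obtain ⟨⟨e₁⟩, ⟨e₂⟩, ⟨A⟩, ⟨B⟩⟩ := h
  have hd : N.q ≫ j₂ N.q ≫ d = N.q ≫ j₁ N.q ≫ d := by rw [← Category.assoc, ← q_j, Category.assoc]
  let E₁ := Iso1.pb gX e₁ N.q (g' := N.q ≫ j₁ N.q ≫ d) (t' := N.q ≫ N.pQ) rfl rfl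
  let E₂ := Iso1.pb gX e₂ N.q (g' := N.q ≫ j₁ N.q ≫ d) (t' := N.q ≫ N.pQ) hd rfl
  let A₁ : Iso1 C (N.la ≫ j₁ N.q ≫ d) y (N.la ≫ N.pQ) :=
    Iso1.pb gX A (j₁ N.qa) (by rw [reassoc_of% N.j₁_da]) (by rw [reassoc_of% N.j₁_da, j₁_t])
  let A₂ : Iso1 C (N.la ≫ j₂ N.q ≫ d) y (N.la ≫ N.pQ) :=
    Iso1.pb gX A (j₂ N.qa) (by rw [reassoc_of% N.j₂_da]) (by rw [reassoc_of% N.j₂_da, j₂_t])
  let B₁ : Iso1 C (N.lb ≫ j₁ N.q ≫ d) y (N.lb ≫ N.pQ) :=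
    Iso1.pb gX B (j₁ N.qb) (by rw [reassoc_of% N.j₁_db]) (by rw [reassoc_of% N.j₁_db, j₁_t])
  let B₂ : Iso1 C (N.lb ≫ j₂ N.q ≫ d) y (N.lb ≫ N.pQ) :=
    Iso1.pb gX B (j₂ N.qb) (by rw [reassoc_of% N.j₂_db]) (by rw [reassoc_of% N.j₂_db, j₂_t])
  let fa := ((Iso1.pb gX e₁ N.la rfl rfl).symm.trans A₁).trans ((Iso1.pb gX e₂ N.la rfl rfl).symm.trans A₂).symm
  let fb := ((Iso1.pb gX e₁ N.lb rfl rfl).symm.trans B₁).trans ((Iso1.pb gX e₂ N.lb rfl rfl).symm.trans B₂).symm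
  let αab := E₁.symm.trans E₂
  -- the two lines
  have hfa : Iso1.pb gX fa N.qa rfl rfl = Iso1.pb gX αab N.ma N.ma_p N.ma_p := by
    let g' := N.qa ≫ N.la ≫ j₁ N.q ≫ d
    let t' := N.qa ≫ N.la ≫ N.pQ
    have hg₂ : N.qa ≫ N.la ≫ j₂ N.q ≫ d = g' := by simp only [g', reassoc_of% N.da_cond]
    have hm : N.ma ≫ N.q ≫ j₁ N.q ≫ d = g' := by simp only [g', reassoc_of% N.sqa]
    simp only [fa, αab]
    rw [Iso1.pb_trans gX _ (Iso1.symm _) N.qa (ht := show N.qa ≫ N.la ≫ N.pQ = t' from rfl),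
      Iso1.pb_symm gX (Iso1.trans _ A₂) N.qa (g' := t') (t' := t') rfl rfl,
      Iso1.pb_trans gX _ A₁ N.qa (ht := show N.qa ≫ N.la ≫ j₁ N.q ≫ d = g' from rfl),
      Iso1.pb_trans gX _ A₂ N.qa (ht := hg₂),
      Iso1.pb_symm gX (Iso1.pb gX e₁ N.la rfl rfl) N.qa (g' := g') (t' := t') rfl rfl,
      Iso1.pb_symm gX (Iso1.pb gX e₂ N.la rfl rfl) N.qa (g' := g') (t' := t') hg₂ rfl,
      Iso1.pb_trans gX E₁.symm E₂ N.ma (ht := hm), Iso1.pb_symm gX E₁ N.ma hm N.ma_p]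
    simp only [A₁, A₂, E₁, E₂, Iso1.pb_pb]
    rw [Iso1.pb_congr gX A (q_j N.qa).symm, Iso1.pb_congr gX e₁ N.sqa, Iso1.pb_congr gX e₂ N.sqa]
    refine Iso1.ext (Iso.ext ?_)
    simp [Iso1.trans, Iso1.symm]
  have hfb : Iso1.pb gX fb N.qb rfl rfl = Iso1.pb gX αab N.mb N.mb_p N.mb_p := by
    let g' := N.qb ≫ N.lb ≫ j₁ N.q ≫ d
    let t' := N.qb ≫ N.lb ≫ N.pQ
    have hg₂ : N.qb ≫ N.lb ≫ j₂ N.q ≫ d = g' := by simp only [g', reassoc_of% N.db_cond]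
    have hm : N.mb ≫ N.q ≫ j₁ N.q ≫ d = g' := by simp only [g', reassoc_of% N.sqb]
    simp only [fb, αab]
    rw [Iso1.pb_trans gX _ (Iso1.symm _) N.qb (ht := show N.qb ≫ N.lb ≫ N.pQ = t' from rfl),
      Iso1.pb_symm gX (Iso1.trans _ B₂) N.qb (g' := t') (t' := t') rfl rfl,
      Iso1.pb_trans gX _ B₁ N.qb (ht := show N.qb ≫ N.lb ≫ j₁ N.q ≫ d = g' from rfl),
      Iso1.pb_trans gX _ B₂ N.qb (ht := hg₂),
      Iso1.pb_symm gX (Iso1.pb gX e₁ N.lb rfl rfl) N.qb (g' := g') (t' := t') rfl rfl,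
      Iso1.pb_symm gX (Iso1.pb gX e₂ N.lb rfl rfl) N.qb (g' := g') (t' := t') hg₂ rfl,
      Iso1.pb_trans gX E₁.symm E₂ N.mb (ht := hm), Iso1.pb_symm gX E₁ N.mb hm N.mb_p]
    simp only [B₁, B₂, E₁, E₂, Iso1.pb_pb]
    rw [Iso1.pb_congr gX B (q_j N.qb).symm, Iso1.pb_congr gX e₁ N.sqb, Iso1.pb_congr gX e₂ N.sqb]
    refine Iso1.ext (Iso.ext ?_)
    simp [Iso1.trans, Iso1.symm]
  let fa₀ : Iso1 y (𝟙 T) y (𝟙 T) := Iso1.pb gX fa N.oa N.hop N.hop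
  let fb₀ : Iso1 y (𝟙 T) y (𝟙 T) := Iso1.pb gX fb N.ob N.hob N.hob
  let γ := fa₀.trans fb₀.symm
  obtain ⟨α, hα⟩ := N.exists_pieces h𝒳 γ
  let h : Iso1 y N.pQ y N.pQ := (Iso1.pb gX fa N.ra N.ra_p N.ra_p).trans
    ((Iso1.pb gX fb N.rb N.rb_p N.rb_p).trans (Iso1.pb gX fa₀.symm N.pQ (Category.comp_id _) (Category.comp_id _)))
  refine ⟨γ, e₁.trans h, e₂, α, hα, ?_⟩
  rw [Iso1.pb_trans gX e₁ h N.q (ht := show N.q ≫ N.pQ = N.q ≫ N.pQ from rfl), Iso1.trans_assoc]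
  show E₁.trans ((Iso1.pb gX h N.q rfl rfl).trans α) = E₂
  have key : (Iso1.pb gX h N.q rfl rfl).trans α = αab := by
    refine iso1_eq_of_two N.ma N.mb h𝒳 N.cover _ _ N.ma_p N.ma_p N.mb_p N.mb_p ?_ ?_
    · rw [← hfa, Iso1.pb_trans gX _ α N.ma (ht := N.ma_p), hα.1, Iso1.pb_pb]
      let t' := N.qa ≫ N.la ≫ N.pQ
      have hh : Iso1.pb gX h (N.ma ≫ N.q) (g' := t') (t' := t') (by rw [Category.assoc, N.ma_p]) (by rw [Category.assoc, N.ma_p]) =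
          (Iso1.pb gX fa N.qa rfl rfl).trans
            (Iso1.pb gX γ.symm t' (Category.comp_id _) (Category.comp_id _)) := by
        simp only [h]
        rw [Iso1.pb_trans gX _ _ (N.ma ≫ N.q) (ht := show (N.ma ≫ N.q) ≫ N.pQ = t' by rw [Category.assoc, N.ma_p]),
          Iso1.pb_trans gX _ _ (N.ma ≫ N.q) (ht := show (N.ma ≫ N.q) ≫ N.pQ = t' by rw [Category.assoc, N.ma_p])]
        have e2 : fb₀.trans fa₀.symm = γ.symm := by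
          refine Iso1.ext (Iso.ext ?_)
          simp [γ, Iso1.trans, Iso1.symm]
        rw [← e2, Iso1.pb_trans gX fb₀ fa₀.symm t' (ht := Category.comp_id t')]
        simp only [fb₀, Iso1.pb_pb]
        rw [Iso1.pb_congr gX fa (show (N.ma ≫ N.q) ≫ N.ra = N.qa by
            rw [N.sqa, Category.assoc, N.la_ra, Category.comp_id]),
          Iso1.pb_congr gX fb (show (N.ma ≫ N.q) ≫ N.rb = t' ≫ N.ob by
            simp only [t']; rw [N.sqa, Category.assoc, N.la_rb, Category.assoc, Category.assoc]),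
          Iso1.pb_congr gX fa₀.symm (show (N.ma ≫ N.q) ≫ N.pQ = t' by rw [Category.assoc, N.ma_p])]
      rw [hh, Iso1.trans_assoc,
        Iso1.pb_symm gX γ t' (Category.comp_id _) (Category.comp_id _), Iso1.symm_trans, Iso1.trans_refl]
    · rw [← hfb, Iso1.pb_trans gX _ α N.mb (ht := N.mb_p), hα.2, Iso1.trans_refl, Iso1.pb_pb]
      let t' := N.qb ≫ N.lb ≫ N.pQ
      have ht : (N.mb ≫ N.q) ≫ N.pQ = t' := by rw [Category.assoc, N.mb_p]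
      simp only [h]
      rw [Iso1.pb_trans gX _ _ (N.mb ≫ N.q) (ht := ht), Iso1.pb_trans gX _ _ (N.mb ≫ N.q) (ht := ht)]
      simp only [Iso1.pb_pb]
      rw [Iso1.pb_congr gX fa (show (N.mb ≫ N.q) ≫ N.ra = t' ≫ N.oa by
            simp only [t']; rw [N.sqb, Category.assoc, N.lb_ra, Category.assoc, Category.assoc]),
        Iso1.pb_congr gX fb (show (N.mb ≫ N.q) ≫ N.rb = N.qb by rw [N.sqb, Category.assoc, N.lb_rb, Category.comp_id]),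
        Iso1.pb_congr gX fa₀.symm ht, Iso1.pb_symm gX fa₀ t' (Category.comp_id _) (Category.comp_id _)]
      simp only [fa₀, Iso1.pb_pb]
      rw [← Iso1.trans_assoc, hc _ _ _ (Iso1.pb gX fb N.qb rfl rfl), Iso1.trans_assoc, Iso1.trans_symm, Iso1.trans_refl]
  rw [key]
  simp only [αab]
  rw [← Iso1.trans_assoc, Iso1.trans_symm, Iso1.refl_trans]

section Triple

/-- the first copy of the triple over the second edge -/
theorem triple_cond : N.q ≫ j₁ N.q ≫ j₁ (j₂ N.q) = (N.q ≫ j₂ N.q) ≫ j₂ (j₂ N.q) := by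
  rw [edge_cond, ← Category.assoc, q_j]

/-- twists compose along the third edge -/
theorem tw_edge (gX : FibCat.IsFibGrpd 𝒳.p) (hc : PbComm y) {C : FibCat.overCat (dbl (j₂ N.q)) ⥤ᵇ 𝒳}
    {γ δ : Iso1 y (𝟙 T) y (𝟙 T)} (h₁ : N.Tw gX C (j₁ (j₂ N.q)) γ) (h₂ : N.Tw gX C (j₂ (j₂ N.q)) δ) :
    N.Tw gX C (edge N.q) (γ.trans δ.symm) := by
  obtain ⟨e₁, e₂, α, hα, he⟩ := h₁
  obtain ⟨f₁, f₂, β, hβ, hf⟩ := h₂
  let c := N.q ≫ j₁ N.q ≫ j₁ (j₂ N.q)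
  let p := N.q ≫ N.pQ
  have c₂ : N.q ≫ j₂ N.q ≫ j₁ (j₂ N.q) = c := by simp only [c, ← Category.assoc, ← q_j]
  have c₃ : N.q ≫ j₁ N.q ≫ j₂ (j₂ N.q) = c := (edge_cond N.q).symm
  have c₄ : N.q ≫ j₂ N.q ≫ j₂ (j₂ N.q) = c := by rw [← q_j (j₂ N.q), c₂]
  let u : Iso1 y N.pQ y N.pQ :=
    (Iso1.pb gX f₂ (𝟙 _) (g' := j₂ N.q ≫ j₁ (j₂ N.q)) (t' := N.pQ) (by rw [Category.id_comp, q_j]) (Category.id_comp _)).symm.trans e₂
  refine ⟨Iso1.pb gX e₁ (𝟙 _) (by rw [Category.id_comp, j₁_edge]) (Category.id_comp _),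
    Iso1.pb gX (f₁.trans u) (𝟙 _) (by rw [Category.id_comp, j₂_edge]) (Category.id_comp _), α.trans β.symm,
    ⟨?_, ?_⟩, ?_⟩
  · rw [Iso1.pb_trans gX α β.symm N.ma (ht := N.ma_p), Iso1.pb_symm gX β N.ma N.ma_p N.ma_p, hα.1, hβ.1,
      Iso1.pb_trans gX γ δ.symm _ (ht := Category.comp_id (N.qa ≫ N.la ≫ N.pQ)),
      Iso1.pb_symm gX δ _ (Category.comp_id (N.qa ≫ N.la ≫ N.pQ)) (Category.comp_id (N.qa ≫ N.la ≫ N.pQ))]
  · rw [Iso1.pb_trans gX α β.symm N.mb (ht := N.mb_p), Iso1.pb_symm gX β N.mb N.mb_p N.mb_p, hα.2, hβ.2,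
      Iso1.refl_symm, Iso1.trans_refl]
  · let c' := N.q ≫ j₁ N.q ≫ edge N.q
    have hc' : c = c' := by simp only [c, c', j₁_edge]
    let E₁ := Iso1.pb gX e₁ N.q (g' := c') (t' := p) hc' rfl
    let F₁ := Iso1.pb gX f₁ N.q (g' := c') (t' := p) (c₃.trans hc') rfl
    let E₂ := Iso1.pb gX e₂ N.q (g' := c') (t' := p) (c₂.trans hc') rfl
    let F₂ := Iso1.pb gX f₂ N.q (g' := c') (t' := p) (c₄.trans hc') rfl
    have he' : E₁.trans α = E₂ := by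
      have h := congrArg (fun r => Iso1.pb gX r (𝟙 _) (g' := c') (t' := p)
        ((Category.id_comp _).trans hc') (Category.id_comp _)) he
      rw [Iso1.pb_trans gX _ α (𝟙 _) (ht := Category.id_comp p), Iso1.pb_id gX α] at h
      simp only [Iso1.pb_pb] at h
      simp only [E₁, E₂]
      rw [Iso1.pb_congr gX e₁ (Category.id_comp N.q).symm, Iso1.pb_congr gX e₂ (Category.id_comp N.q).symm]
      exact h
    have hf' : F₁.trans β = F₂ := by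
      have h := congrArg (fun r => Iso1.pb gX r (𝟙 _) (g' := c') (t' := p)
        ((Category.id_comp _).trans (c₃.trans hc')) (Category.id_comp _)) hf
      rw [Iso1.pb_trans gX _ β (𝟙 _) (ht := Category.id_comp p), Iso1.pb_id gX β] at h
      simp only [Iso1.pb_pb] at h
      simp only [F₁, F₂]
      rw [Iso1.pb_congr gX f₁ (Category.id_comp N.q).symm, Iso1.pb_congr gX f₂ (Category.id_comp N.q).symm]
      exact h
    simp only [Iso1.pb_pb]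
    rw [Iso1.pb_congr gX e₁ (Category.comp_id N.q), Iso1.pb_congr gX (f₁.trans u) (Category.comp_id N.q),
      Iso1.pb_trans gX f₁ u N.q (ht := show N.q ≫ N.pQ = p from rfl)]
    simp only [u]
    rw [Iso1.pb_trans gX _ e₂ N.q (ht := c₂.trans hc'),
      Iso1.pb_symm gX (Iso1.pb gX f₂ _ _ _) N.q (g' := c') (t' := p) (c₂.trans hc') rfl, Iso1.pb_pb,
      Iso1.pb_congr gX f₂ (Category.comp_id N.q)]
    show E₁.trans (α.trans β.symm) = F₁.trans (F₂.symm.trans E₂)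
    rw [← hf', ← he']
    have hcm := hc _ _ (F₁.symm.trans (E₁.trans (α.trans β.symm))) β.symm
    have e : F₁.trans ((F₁.trans β).symm.trans (E₁.trans α)) =
        F₁.trans ((β.symm.trans (F₁.symm.trans (E₁.trans (α.trans β.symm)))).trans β) := by
      refine Iso1.ext (Iso.ext ?_)
      simp [Iso1.trans, Iso1.symm]
    rw [e, ← hcm]
    refine Iso1.ext (Iso.ext ?_)
    simp [Iso1.trans, Iso1.symm]

/-- two given twists are the first two edges of a triple -/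
theorem exists_tw_triple (h𝒳 : Stk.IsStack (QuotSh.J Scheme.fppfPrecoverage S) 𝒳) (γ δ : Iso1 y (𝟙 T) y (𝟙 T)) :
    ∃ C : FibCat.overCat (dbl (j₂ N.q)) ⥤ᵇ 𝒳,
      N.Tw h𝒳.1 C (j₁ (j₂ N.q)) γ ∧ N.Tw h𝒳.1 C (j₂ (j₂ N.q)) δ := by
  have gX := h𝒳.1
  obtain ⟨α, hα⟩ := N.exists_pieces h𝒳 γ
  obtain ⟨η, hη⟩ := N.exists_tw h𝒳 δ
  obtain ⟨d₁, d₂, β, hβ, hd⟩ := hη
  let J₁ := j₁ (j₂ N.q)
  let J₂ := j₂ (j₂ N.q)
  let i₁ : N.Q ⟶ dbl (j₂ N.q) := j₁ N.q ≫ J₁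
  haveI : IsOpenImmersion i₁.left := inferInstanceAs (IsOpenImmersion ((j₁ N.q).left ≫ J₁.left))
  let r₀ : N.D ⟶ N.D := dblDesc N.q (j₂ N.q) (j₂ N.q) rfl
  let r : dbl (j₂ N.q) ⟶ N.D := dblDesc (j₂ N.q) r₀ (𝟙 _) (by rw [Category.comp_id, j₂_desc])
  have hr₁ : i₁ ≫ r = j₂ N.q := by simp only [i₁, J₁, r, r₀, Category.assoc, j₁_desc]
  have hr₂ : J₂ ≫ r = 𝟙 _ := j₂_desc _ _ _ _
  let d₂' : Iso1 η (j₂ N.q) y N.pQ := Iso1.pb gX d₂ (𝟙 _) (by rw [Category.id_comp, Category.comp_id]) (Category.id_comp _)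
  let dP : Iso1 η (N.q ≫ i₁ ≫ r) y (N.q ≫ N.pQ) := Iso1.pb gX d₂' N.q (by rw [hr₁]) rfl
  obtain ⟨C, A, B, hAB⟩ := exists_twist_two i₁ J₂ h𝒳 N.q (N.q ≫ j₂ N.q) N.triple_cond N.q_imm
    (fun v => by
      rcases dbl_cases (j₂ N.q) v with ⟨a, ha⟩ | ⟨a, ha⟩
      · rcases dbl_cases N.q a with ⟨b, hb⟩ | ⟨b, hb⟩
        · exact Or.inl ⟨b, show J₁.left ((j₁ N.q).left b) = v by rw [hb]; exact ha⟩
        · refine Or.inr ⟨(j₂ N.q).left b, ?_⟩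
          rw [← ha, ← hb]
          exact (congrArg (fun w => w.left b) (q_j (j₂ N.q))).symm
      · exact Or.inr ⟨a, ha⟩)
    (fun a b h => by
      obtain ⟨c, hc⟩ := mem_range_of_eq (j₂ N.q) (show J₁.left ((j₁ N.q).left a) = J₂.left b from h)
      exact mem_range_of_eq N.q hc.symm)
    r (Y := η) (dP.trans (α.trans dP.symm))
  let B' : Iso1 C J₂ η (𝟙 _) := Iso1.pb gX B (𝟙 _) (Category.id_comp _) (by rw [Category.id_comp, hr₂])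
  let A' : Iso1 C i₁ η (j₂ N.q) := Iso1.pb gX A (𝟙 _) (Category.id_comp _) (by rw [Category.id_comp, hr₁])
  refine ⟨C, ⟨A'.trans d₂', (Iso1.pb gX B' (j₂ N.q) (q_j (j₂ N.q)).symm (Category.comp_id _)).trans d₂', α, hα, ?_⟩,
    (Iso1.pb gX B' (j₁ N.q) rfl (Category.comp_id _)).trans (Iso1.pb gX d₁ (𝟙 _) (by rw [Category.id_comp, Category.comp_id]) (Category.id_comp _)),
    (Iso1.pb gX B' (j₂ N.q) rfl (Category.comp_id _)).trans d₂', β, hβ, ?_⟩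
  · let c := N.q ≫ j₁ N.q ≫ J₁
    let e := N.q ≫ j₂ N.q
    have hce : N.q ≫ j₂ N.q ≫ J₁ = c := by simp only [c, ← Category.assoc, ← q_j]
    rw [Iso1.pb_trans gX A' d₂' N.q (ht := show N.q ≫ j₂ N.q = e from rfl),
      Iso1.pb_trans gX _ d₂' N.q (ht := show N.q ≫ j₂ N.q = e from rfl), Iso1.pb_pb]
    have h := congrArg (fun w => Iso1.pb gX w (𝟙 N.P) (g' := c) (t' := e) (Category.id_comp _)
      (by rw [Category.id_comp, hr₁])) hAB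
    rw [Iso1.pb_trans gX _ (Iso1.trans dP _) (𝟙 N.P) (ht := show 𝟙 N.P ≫ N.q ≫ i₁ ≫ r = e by rw [Category.id_comp, hr₁]),
      Iso1.pb_trans gX dP _ (𝟙 N.P) (ht := Category.id_comp (N.q ≫ N.pQ)),
      Iso1.pb_trans gX α _ (𝟙 N.P) (ht := Category.id_comp (N.q ≫ N.pQ)), Iso1.pb_id gX α,
      Iso1.pb_symm gX dP (𝟙 N.P) (g' := e) (t' := N.q ≫ N.pQ) (by rw [Category.id_comp, hr₁]) (Category.id_comp _)] at h
    simp only [dP, Iso1.pb_pb] at h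
    rw [Iso1.pb_congr gX d₂' (Category.id_comp N.q)] at h
    simp only [A', B', Iso1.pb_pb]
    rw [Iso1.pb_congr gX A (show N.q ≫ 𝟙 _ = 𝟙 N.P ≫ N.q by simp),
      Iso1.pb_congr gX B (show N.q ≫ j₂ N.q ≫ 𝟙 _ = 𝟙 N.P ≫ N.q ≫ j₂ N.q by simp), ← h]
    refine Iso1.ext (Iso.ext ?_)
    simp [Iso1.trans, Iso1.symm]
  · let c := N.q ≫ j₁ N.q ≫ J₂
    let e := N.q ≫ j₁ N.q
    have hce : N.q ≫ j₂ N.q ≫ J₂ = c := by simp only [c, ← Category.assoc, ← q_j]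
    rw [Iso1.pb_trans gX _ (Iso1.pb gX d₁ _ _ _) N.q (ht := show N.q ≫ j₁ N.q = e from rfl),
      Iso1.pb_trans gX _ d₂' N.q (ht := show N.q ≫ j₂ N.q = e from (q_j N.q).symm), Iso1.trans_assoc]
    simp only [d₂', Iso1.pb_pb]
    rw [Iso1.pb_congr gX B' (q_j N.q).symm, Iso1.pb_congr gX d₁ (Category.comp_id N.q),
      Iso1.pb_congr gX d₂ (Category.comp_id N.q)]
    refine congrArg _ ?_
    have h := congrArg (fun w => Iso1.pb gX w (𝟙 N.P) (g' := e) (t' := N.q ≫ N.pQ)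
      (by rw [Category.id_comp, Category.comp_id]) (Category.id_comp _)) hd
    rw [Iso1.pb_trans gX _ β (𝟙 N.P) (ht := Category.id_comp _), Iso1.pb_id gX β] at h
    simp only [Iso1.pb_pb] at h
    rw [Iso1.pb_congr gX d₁ (Category.id_comp N.q), Iso1.pb_congr gX d₂ (Category.id_comp N.q)] at h
    exact h

end Triple

end NodeSys

end Groth.Agent.IsoNat5
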