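import Groth.Agent.Lib.IsoNat5.NodeSys
import Groth.Agent.Lib.FibreLocus.Constr
import Mathlib.AlgebraicGeometry.Limits

/-!
The node over an arbitrary scheme.
-/

universe u

open CategoryTheory CategoryTheory.Functor CategoryTheory.Limits AlgebraicGeometry Opposite

set_option linter.style.haveILetI false
set_option linter.unusedSectionVars false
set_option backward.isDefEq.respectTransparency false
set_option backward.isDefEq.respectTransparency.types false

namespace Groth.Agent.IsoNat5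

open Groth.Agent.FC16 Groth.Agent.StAlg Groth.Agent.StAlg16 AlgSt

/-- the integers -/
abbrev ZU : Type u := ULift.{u} ℤ

/-- the map to the spectrum of the integers -/
noncomputable abbrev toZ (X : Scheme.{u}) : X ⟶ Spec (CommRingCat.of (ZU.{u})) := specULiftZIsTerminal.from X

theorem toZ_hom_ext {X : Scheme.{u}} (f g : X ⟶ Spec (CommRingCat.of (ZU.{u}))) : f = g :=
  specULiftZIsTerminal.hom_ext f g

variable {S : Scheme.{u}} {T T' : Over S}

/-- the product with an affine scheme -/
noncomputable def prodR (T : Over S) (R : Type u) [CommRing R] : Over S :=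
  Over.mk (pullback.fst (toZ T.left) (toZ (Spec (CommRingCat.of R))) ≫ T.hom)

/-- the projection -/
noncomputable def prR (T : Over S) (R : Type u) [CommRing R] : prodR T R ⟶ T :=
  Over.homMk (pullback.fst (toZ T.left) (toZ (Spec (CommRingCat.of R)))) rfl

/-- the other projection -/
noncomputable def sndR (T : Over S) (R : Type u) [CommRing R] : (prodR T R).left ⟶ Spec (CommRingCat.of R) :=
  pullback.snd (toZ T.left) (toZ (Spec (CommRingCat.of R)))

theorem prodR_ext {W : Over S} {R : Type u} [CommRing R] {a b : W ⟶ prodR T R} (h₁ : a ≫ prR T R = b ≫ prR T R)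
    (h₂ : a.left ≫ sndR T R = b.left ≫ sndR T R) : a = b :=
  Over.OverMorphism.ext (pullback.hom_ext (congrArg (fun w => w.left) h₁) h₂)

/-- lifting to the product -/
noncomputable def liftR {W : Over S} {R : Type u} [CommRing R] (f : W ⟶ T)
    (g : W.left ⟶ Spec (CommRingCat.of R)) : W ⟶ prodR T R :=
  Over.homMk (pullback.lift f.left g (toZ_hom_ext _ _)) (by
    show pullback.lift _ _ _ ≫ pullback.fst _ _ ≫ T.hom = W.hom
    rw [pullback.lift_fst_assoc]
    exact Over.w f)

@[reassoc (attr := simp)]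
theorem liftR_pr {W : Over S} {R : Type u} [CommRing R] (f : W ⟶ T) (g : W.left ⟶ Spec (CommRingCat.of R)) :
    liftR f g ≫ prR T R = f := Over.OverMorphism.ext (pullback.lift_fst _ _ _)

@[reassoc (attr := simp)]
theorem liftR_snd {W : Over S} {R : Type u} [CommRing R] (f : W ⟶ T) (g : W.left ⟶ Spec (CommRingCat.of R)) :
    (liftR f g).left ≫ sndR T R = g := pullback.lift_snd _ _ _

variable (T) in
/-- functoriality in the ring -/
noncomputable def mapR {R R' : Type u} [CommRing R] [CommRing R'] (e : R →+* R') : prodR T R' ⟶ prodR T R :=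
  liftR (prR T R') (sndR T R' ≫ Spec.map (CommRingCat.ofHom e))

@[reassoc (attr := simp)]
theorem mapR_pr {R R' : Type u} [CommRing R] [CommRing R'] (e : R →+* R') : mapR T e ≫ prR T R = prR T R' :=
  liftR_pr _ _

@[reassoc (attr := simp)]
theorem mapR_snd {R R' : Type u} [CommRing R] [CommRing R'] (e : R →+* R') :
    (mapR T e).left ≫ sndR T R = sndR T R' ≫ Spec.map (CommRingCat.ofHom e) := liftR_snd _ _

theorem mapR_comp {R R' R'' : Type u} [CommRing R] [CommRing R'] [CommRing R''] (e : R →+* R') (e' : R' →+* R'') :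
    mapR T e' ≫ mapR T e = mapR T (e'.comp e) := by
  refine prodR_ext (by simp) ?_
  rw [Over.comp_left, Category.assoc, mapR_snd, mapR_snd_assoc, mapR_snd, ← Spec.map_comp, CommRingCat.ofHom_comp]

theorem mapR_id {R : Type u} [CommRing R] : mapR T (RingHom.id R) = 𝟙 _ := by
  refine prodR_ext (by simp) ?_
  rw [mapR_snd, CommRingCat.ofHom_id, Spec.map_id, Category.comp_id, Over.id_left, Category.id_comp]

variable (T) in
/-- the section of a point -/
noncomputable def secR {R : Type u} [CommRing R] (ev : R →+* ZU.{u}) : T ⟶ prodR T R :=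
  liftR (𝟙 T) (toZ T.left ≫ Spec.map (CommRingCat.ofHom ev))

@[reassoc (attr := simp)]
theorem secR_pr {R : Type u} [CommRing R] (ev : R →+* ZU.{u}) : secR T ev ≫ prR T R = 𝟙 T := liftR_pr _ _

theorem secR_snd {R : Type u} [CommRing R] (ev : R →+* ZU.{u}) :
    (secR T ev).left ≫ sndR T R = toZ T.left ≫ Spec.map (CommRingCat.ofHom ev) := liftR_snd _ _

theorem secR_mapR {R R' : Type u} [CommRing R] [CommRing R'] (e : R →+* R') (ev : R' →+* ZU.{u}) :
    secR T ev ≫ mapR T e = secR T (ev.comp e) := by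
  refine prodR_ext (by simp) ?_
  rw [Over.comp_left, Category.assoc, mapR_snd, ← Category.assoc, secR_snd, secR_snd, Category.assoc,
    ← Spec.map_comp, CommRingCat.ofHom_comp]

theorem pr_secR {R R' : Type u} [CommRing R] [CommRing R'] (ev : R →+* ZU.{u}) (c : ZU.{u} →+* R') :
    prR T R' ≫ secR T ev = mapR T (c.comp ev) := by
  refine prodR_ext (by simp) ?_
  rw [Over.comp_left, Category.assoc, secR_snd, mapR_snd, ← Category.assoc, CommRingCat.ofHom_comp, Spec.map_comp,
    ← Category.assoc]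
  exact congrArg (· ≫ Spec.map (CommRingCat.ofHom ev)) (toZ_hom_ext _ _)

theorem isPullback_mapR {R R' : Type u} [CommRing R] [CommRing R'] (e : R →+* R') :
    IsPullback (mapR T e).left (sndR T R') (sndR T R) (Spec.map (CommRingCat.ofHom e)) := by
  refine IsPullback.of_right (h₁₂ := (prR T R).left) (v₁₃ := toZ T.left)
    (h₂₂ := toZ (Spec (CommRingCat.of R))) ?_ (mapR_snd e) (IsPullback.of_hasPullback _ _)
  rw [← Over.comp_left, mapR_pr, toZ_hom_ext (Spec.map (CommRingCat.ofHom e) ≫ toZ _) (toZ _)]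
  exact IsPullback.of_hasPullback _ _

section Rings

open Polynomial

/-- the node over the integers -/
noncomputable abbrev Nd : Subring ((ZU.{u})[X] × (ZU.{u})[X]) := node ZU.{u}

/-- the punctured line over the integers -/
abbrev LP : Type u := Localization.Away (X : (ZU.{u})[X])

/-- the first branch -/
noncomputable def eA : Nd.{u} →+* (ZU.{u})[X] := (RingHom.fst _ _).comp Nd.subtype

/-- the second branch -/
noncomputable def eB : Nd.{u} →+* (ZU.{u})[X] := (RingHom.snd _ _).comp Nd.subtype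

/-- the origin -/
noncomputable def ev0 : (ZU.{u})[X] →+* ZU.{u} := evalRingHom 0

/-- the first retraction -/
noncomputable def rA : (ZU.{u})[X] →+* Nd.{u} :=
  (RingHom.prod (RingHom.id _) (C.comp ev0)).codRestrict Nd fun p => by
    show eval 0 p = eval 0 (C (eval 0 p))
    rw [eval_C]

/-- the second retraction -/
noncomputable def rB : (ZU.{u})[X] →+* Nd.{u} :=
  (RingHom.prod (C.comp ev0) (RingHom.id _)).codRestrict Nd fun p => by
    show eval 0 (C (eval 0 p)) = eval 0 p
    rw [eval_C]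

theorem eA_rA : eA.{u}.comp rA = RingHom.id _ := rfl
theorem eB_rB : eB.{u}.comp rB = RingHom.id _ := rfl
theorem eB_rA : eB.{u}.comp rA = C.comp ev0 := rfl
theorem eA_rB : eA.{u}.comp rB = C.comp ev0 := rfl
theorem ev0_eA : ev0.{u}.comp eA = ev0.comp eB := RingHom.ext fun r => r.2

/-- the coordinate of the first branch -/
noncomputable def xN : Nd.{u} := ⟨(X, 0), by show eval 0 X = eval 0 0; simp⟩

/-- the coordinate of the second branch -/
noncomputable def yN : Nd.{u} := ⟨(0, X), by show eval 0 0 = eval 0 X; simp⟩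

/-- the first punctured branch -/
noncomputable def puncA : Nd.{u} →+* LP.{u} := (algebraMap _ _).comp eA

/-- the second punctured branch -/
noncomputable def puncB : Nd.{u} →+* LP.{u} := (algebraMap _ _).comp eB

theorem isLocalization_puncA :
    letI := puncA.{u}.toAlgebra
    IsLocalization.Away xN.{u} LP.{u} := by
  letI := puncA.{u}.toAlgebra
  refine IsLocalization.Away.mk _ (IsLocalization.Away.algebraMap_isUnit (X : (ZU.{u})[X])) (fun z => ?_)
    fun a b h => ⟨1, ?_⟩
  · obtain ⟨n, p, hp⟩ := IsLocalization.Away.surj (X : (ZU.{u})[X]) z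
    refine ⟨n, rA p, ?_⟩
    show z * (algebraMap (ZU.{u})[X] LP.{u}) X ^ n = algebraMap (ZU.{u})[X] LP.{u} p
    exact hp
  · have h1 : a.1.1 = b.1.1 :=
      IsLocalization.injective LP.{u} (Submonoid.powers_le.2 monic_X.mem_nonZeroDivisors) h
    refine Subtype.ext (Prod.ext ?_ ?_)
    · show (X ^ 1) * a.1.1 = (X ^ 1) * b.1.1
      rw [h1]
    · show (0 ^ 1) * a.1.2 = (0 ^ 1) * b.1.2
      simp

theorem isLocalization_puncB :
    letI := puncB.{u}.toAlgebra
    IsLocalization.Away yN.{u} LP.{u} := by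
  letI := puncB.{u}.toAlgebra
  refine IsLocalization.Away.mk _ (IsLocalization.Away.algebraMap_isUnit (X : (ZU.{u})[X])) (fun z => ?_)
    fun a b h => ⟨1, ?_⟩
  · obtain ⟨n, p, hp⟩ := IsLocalization.Away.surj (X : (ZU.{u})[X]) z
    refine ⟨n, rB p, ?_⟩
    show z * (algebraMap (ZU.{u})[X] LP.{u}) X ^ n = algebraMap (ZU.{u})[X] LP.{u} p
    exact hp
  · have h1 : a.1.2 = b.1.2 :=
      IsLocalization.injective LP.{u} (Submonoid.powers_le.2 monic_X.mem_nonZeroDivisors) h
    refine Subtype.ext (Prod.ext ?_ ?_)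
    · show (0 ^ 1) * a.1.1 = (0 ^ 1) * b.1.1
      simp
    · show (X ^ 1) * a.1.2 = (X ^ 1) * b.1.2
      rw [h1]

theorem isOpenImmersion_punc :
    (IsOpenImmersion (Spec.map (CommRingCat.ofHom puncA.{u})) ∧
      Set.range (Spec.map (CommRingCat.ofHom puncA.{u})) = (PrimeSpectrum.basicOpen xN.{u} : Set (PrimeSpectrum Nd.{u}))) ∧
    (IsOpenImmersion (Spec.map (CommRingCat.ofHom puncB.{u})) ∧
      Set.range (Spec.map (CommRingCat.ofHom puncB.{u})) = (PrimeSpectrum.basicOpen yN.{u} : Set (PrimeSpectrum Nd.{u}))) ∧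
    IsOpenImmersion (Spec.map (CommRingCat.ofHom (algebraMap (ZU.{u})[X] LP.{u}))) := by
  refine ⟨?_, ?_, IsOpenImmersion.of_isLocalization (X : (ZU.{u})[X])⟩
  · letI := puncA.{u}.toAlgebra
    haveI := isLocalization_puncA.{u}
    exact ⟨IsOpenImmersion.of_isLocalization (S := LP.{u}) xN.{u},
      PrimeSpectrum.localization_away_comap_range LP.{u} xN.{u}⟩
  · letI := puncB.{u}.toAlgebra
    haveI := isLocalization_puncB.{u}
    exact ⟨IsOpenImmersion.of_isLocalization (S := LP.{u}) yN.{u},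
      PrimeSpectrum.localization_away_comap_range LP.{u} yN.{u}⟩

variable (T) in
/-- the punctured node over `T` -/
noncomputable def puncOpen : (prodR T Nd.{u}).left.Opens :=
  sndR T Nd.{u} ⁻¹ᵁ (PrimeSpectrum.basicOpen xN.{u} ⊔ PrimeSpectrum.basicOpen yN.{u})

theorem mapR_range {R R' : Type u} [CommRing R] [CommRing R'] (e : R →+* R') :
    Set.range (mapR T e).left = sndR T R ⁻¹' Set.range (Spec.map (CommRingCat.ofHom e)) :=
  FibreLocus.range_eq_preimage_of_isPullback (isPullback_mapR e)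

theorem isOpenImmersion_mapR {R R' : Type u} [CommRing R] [CommRing R'] (e : R →+* R')
    [IsOpenImmersion (Spec.map (CommRingCat.ofHom e))] : IsOpenImmersion (mapR T e).left :=
  MorphismProperty.of_isPullback (isPullback_mapR e).flip ‹_›

variable (T) in
/-- the first piece of the punctured node -/
noncomputable def pieceA : prodR T LP.{u} ⟶ openPart (puncOpen T) :=
  Over.homMk (IsOpenImmersion.lift (puncOpen T).ι (mapR T puncA).left (by
    rw [mapR_range, isOpenImmersion_punc.1.2]
    exact (Set.preimage_mono (SetLike.coe_subset_coe.2 le_sup_left)).trans (Scheme.Opens.range_ι (puncOpen T)).ge)) (by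
    show _ ≫ (puncOpen T).ι ≫ _ = _
    rw [IsOpenImmersion.lift_fac_assoc]
    exact Over.w (mapR T puncA))

variable (T) in
/-- the second piece of the punctured node -/
noncomputable def pieceB : prodR T LP.{u} ⟶ openPart (puncOpen T) :=
  Over.homMk (IsOpenImmersion.lift (puncOpen T).ι (mapR T puncB).left (by
    rw [mapR_range, isOpenImmersion_punc.2.1.2]
    exact (Set.preimage_mono (SetLike.coe_subset_coe.2 le_sup_right)).trans (Scheme.Opens.range_ι (puncOpen T)).ge)) (by
    show _ ≫ (puncOpen T).ι ≫ _ = _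
    rw [IsOpenImmersion.lift_fac_assoc]
    exact Over.w (mapR T puncB))

theorem pieceA_incl : pieceA T ≫ openIncl (puncOpen T) = mapR T puncA :=
  Over.OverMorphism.ext (IsOpenImmersion.lift_fac _ _ _)

theorem pieceB_incl : pieceB T ≫ openIncl (puncOpen T) = mapR T puncB :=
  Over.OverMorphism.ext (IsOpenImmersion.lift_fac _ _ _)

theorem pieceA_ι (a : (prodR T LP.{u}).left) : (puncOpen T).ι ((pieceA T).left a) = (mapR T puncA).left a :=
  congrArg (fun w => w.left a) pieceA_incl

theorem pieceB_ι (a : (prodR T LP.{u}).left) : (puncOpen T).ι ((pieceB T).left a) = (mapR T puncB).left a :=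
  congrArg (fun w => w.left a) pieceB_incl

variable (T) in
/-- the node over `T` -/
noncomputable def nodeSys : NodeSys T where
  Q := prodR T Nd.{u}
  P := openPart (puncOpen T)
  La := prodR T (ZU.{u})[X]
  Lb := prodR T (ZU.{u})[X]
  Ga := prodR T LP.{u}
  Gb := prodR T LP.{u}
  q := openIncl (puncOpen T)
  pQ := prR T _
  la := mapR T eA
  lb := mapR T eB
  qa := mapR T (algebraMap _ _)
  qb := mapR T (algebraMap _ _)
  ma := pieceA T
  mb := pieceB T
  oa := secR T ev0
  ob := secR T ev0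
  ra := mapR T rA
  rb := mapR T rB
  q_imm := inferInstanceAs (IsOpenImmersion (puncOpen T).ι)
  qa_imm := haveI := isOpenImmersion_punc.{u}.2.2; isOpenImmersion_mapR _
  qb_imm := haveI := isOpenImmersion_punc.{u}.2.2; isOpenImmersion_mapR _
  ma_imm := by
    haveI := isOpenImmersion_punc.{u}.1.1
    haveI : IsOpenImmersion ((pieceA T).left ≫ (puncOpen T).ι) := by
      rw [show (pieceA T).left ≫ (puncOpen T).ι = (mapR T puncA).left from congrArg (fun w : prodR T LP.{u} ⟶ prodR T Nd.{u} => w.left) pieceA_incl]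
      exact isOpenImmersion_mapR _
    exact IsOpenImmersion.of_comp _ (puncOpen T).ι
  mb_imm := by
    haveI := isOpenImmersion_punc.{u}.2.1.1
    haveI : IsOpenImmersion ((pieceB T).left ≫ (puncOpen T).ι) := by
      rw [show (pieceB T).left ≫ (puncOpen T).ι = (mapR T puncB).left from congrArg (fun w : prodR T LP.{u} ⟶ prodR T Nd.{u} => w.left) pieceB_incl]
      exact isOpenImmersion_mapR _
    exact IsOpenImmersion.of_comp _ (puncOpen T).ι
  cover := fun v => by
    obtain ⟨v, hv⟩ := v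
    rcases hv with h | h
    · obtain ⟨a, ha⟩ : v ∈ Set.range (mapR T puncA.{u}).left := by
        rw [mapR_range, isOpenImmersion_punc.1.2]; exact h
      exact Or.inl ⟨a, (puncOpen T).ι.injective ((pieceA_ι a).trans ha)⟩
    · obtain ⟨a, ha⟩ : v ∈ Set.range (mapR T puncB.{u}).left := by
        rw [mapR_range, isOpenImmersion_punc.2.1.2]; exact h
      exact Or.inr ⟨a, (puncOpen T).ι.injective ((pieceB_ι a).trans ha)⟩
  disj := fun a b h => by
    have ha : (mapR T puncA).left a ∈ Set.range (mapR T puncA.{u}).left := ⟨a, rfl⟩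
    have hb : (mapR T puncB).left b ∈ Set.range (mapR T puncB.{u}).left := ⟨b, rfl⟩
    rw [← pieceA_ι, h, pieceB_ι, mapR_range, isOpenImmersion_punc.1.2] at ha
    rw [mapR_range, isOpenImmersion_punc.2.1.2] at hb
    have hz : PrimeSpectrum.basicOpen xN.{u} ⊓ PrimeSpectrum.basicOpen yN.{u} = ⊥ := by
      rw [← PrimeSpectrum.basicOpen_mul, show xN.{u} * yN.{u} = 0 from
        Subtype.ext (Prod.ext (mul_zero _) (zero_mul _)), PrimeSpectrum.basicOpen_zero]
    exact ((le_of_eq hz) (show _ ∈ PrimeSpectrum.basicOpen xN.{u} ⊓ PrimeSpectrum.basicOpen yN.{u} from ⟨ha, hb⟩)).elim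
  sqa := by rw [pieceA_incl, mapR_comp]; rfl
  sqb := by rw [pieceB_incl, mapR_comp]; rfl
  origin := by rw [secR_mapR, secR_mapR, ev0_eA]
  hop := by rw [mapR_pr, secR_pr]
  la_ra := by rw [mapR_comp, eA_rA, mapR_id]
  lb_ra := by rw [mapR_comp, eB_rA, mapR_pr_assoc, pr_secR ev0 C]
  ra_p := by rw [mapR_pr, mapR_pr]
  lb_rb := by rw [mapR_comp, eB_rB, mapR_id]
  la_rb := by rw [mapR_comp, eA_rB, mapR_pr_assoc, pr_secR ev0 C]
  rb_p := by rw [mapR_pr, mapR_pr]

end Rings

section Dense

open Polynomial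

theorem isPushout_polynomial (A : Type u) [CommRing A] (f : ZU.{u} →+* A) :
    CategoryTheory.IsPushout (CommRingCat.ofHom f) (CommRingCat.ofHom (C : ZU.{u} →+* (ZU.{u})[X]))
      (CommRingCat.ofHom (C : A →+* A[X])) (CommRingCat.ofHom (mapRingHom f)) := by
  have hw : CommRingCat.ofHom f ≫ CommRingCat.ofHom (C : A →+* A[X]) =
      CommRingCat.ofHom (C : ZU.{u} →+* (ZU.{u})[X]) ≫ CommRingCat.ofHom (mapRingHom f) := by
    ext r
    simp
  refine ⟨⟨hw⟩, ⟨PushoutCocone.IsColimit.mk _
    (fun c => CommRingCat.ofHom (eval₂RingHom c.inl.hom (c.inr.hom X))) (fun c => ?_) (fun c => ?_) fun c m h₁ h₂ => ?_⟩⟩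
  · ext a
    simp
  · refine CommRingCat.hom_ext (Polynomial.ringHom_ext (fun r => ?_) ?_)
    · have e := congrArg (fun w => w.hom r) c.condition
      simpa using e
    · simp
  · refine CommRingCat.hom_ext (Polynomial.ringHom_ext (fun a => ?_) ?_)
    · have e := congrArg (fun w => w.hom a) h₁
      simpa using e
    · have e := congrArg (fun w => w.hom (X : (ZU.{u})[X])) h₂
      simpa using e

/-- isomorphisms over a line are determined on the punctured line -/
theorem dense_line {𝒳 : AlgSt.Cat S} (h𝒳 : Stk.IsStack (QuotSh.J Scheme.fppfPrecoverage S) 𝒳)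
    (hd : AlgSt.RepByAlgSpWith AlgSp.IsSeparatedMor (FibCat.diag (FibCat.toSelf 𝒳))) {U : Over S}
    {c : FibCat.overCat U ⥤ᵇ 𝒳} (g : prodR T (ZU.{u})[X] ⟶ U) (h h' : Iso1 c g c g)
    (e : Iso1.pb h𝒳.1 h (mapR T (algebraMap (ZU.{u})[X] LP.{u})) rfl rfl =
      Iso1.pb h𝒳.1 h' (mapR T (algebraMap (ZU.{u})[X] LP.{u})) rfl rfl) : h = h' := by
  have gX := h𝒳.1
  let 𝒰 := T.left.affineCover
  let Ti : 𝒰.I₀ → Over S := fun i => Over.mk (𝒰.f i ≫ T.hom)
  let A : 𝒰.I₀ → Type u := fun i => Γ(𝒰.X i, ⊤)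
  haveI : ∀ i, IsAffine (𝒰.X i) := fun i => inferInstance
  let str : ∀ i, Spec (CommRingCat.of (A i)) ⟶ S := fun i => (𝒰.X i).isoSpec.inv ≫ 𝒰.f i ≫ T.hom
  let W : 𝒰.I₀ → Over S := fun i => overK (str i) (C : A i →+* (A i)[X])
  let fZ : ∀ i, ZU.{u} →+* A i := fun i => (Int.castRingHom (A i)).comp ULift.ringEquiv.toRingHom
  let π : ∀ i, W i ⟶ prodR T (ZU.{u})[X] := fun i => liftR
    (Over.homMk (Spec.map (CommRingCat.ofHom (C : A i →+* (A i)[X])) ≫ (𝒰.X i).isoSpec.inv ≫ 𝒰.f i)
      (by simp [W, str]) : W i ⟶ T)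
    (Spec.map (CommRingCat.ofHom (mapRingHom (fZ i))))
  have hsq : ∀ i, IsPullback (π i).left (Spec.map (CommRingCat.ofHom (C : A i →+* (A i)[X])))
      (prR T (ZU.{u})[X]).left ((𝒰.X i).isoSpec.inv ≫ 𝒰.f i) := fun i => by
    refine IsPullback.of_right (h₁₂ := sndR T (ZU.{u})[X]) (v₁₃ := toZ (Spec (CommRingCat.of (ZU.{u})[X])))
      (h₂₂ := toZ T.left) ?_ ?_ (IsPullback.of_hasPullback _ _).flip
    · rw [show (π i).left ≫ sndR T (ZU.{u})[X] = Spec.map (CommRingCat.ofHom (mapRingHom (fZ i))) from liftR_snd _ _,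
        toZ_hom_ext (toZ (Spec (CommRingCat.of (ZU.{u})[X]))) (Spec.map (CommRingCat.ofHom C)),
        toZ_hom_ext (((𝒰.X i).isoSpec.inv ≫ 𝒰.f i) ≫ toZ T.left) (Spec.map (CommRingCat.ofHom (fZ i)))]
      exact (isPullback_SpecMap_of_isPushout _ _ _ _ (isPushout_polynomial (A i) (fZ i))).flip
    · rw [← Over.comp_left, liftR_pr]
      simp
  refine iso1_eq_of_cover h𝒳 h h' (AlgSpace.mem_J_of_openImmersions π
    (fun i => MorphismProperty.of_isPullback (P := @IsOpenImmersion) (hsq i).flip inferInstance) fun t => ?_) ?_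
  · let x := (prR T (ZU.{u})[X]).left t
    obtain ⟨v, hv⟩ := 𝒰.covers x
    have hr : x ∈ Set.range ((𝒰.X (𝒰.idx x)).isoSpec.inv ≫ 𝒰.f (𝒰.idx x)) := by
      refine ⟨(𝒰.X _).isoSpec.hom v, ?_⟩
      rw [← Scheme.Hom.comp_apply, Iso.hom_inv_id_assoc]
      exact hv
    have hm : t ∈ Set.range (π (𝒰.idx x)).left := by
      rw [FibreLocus.range_eq_preimage_of_isPullback (hsq (𝒰.idx x))]
      exact hr
    obtain ⟨w, hw⟩ := hm
    exact ⟨_, w, hw⟩
  · rintro Z f ⟨Wi, l, π', ⟨i⟩, rfl⟩
    haveI : IsAffine (W i).left := inferInstanceAs (IsAffine (Spec _))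
    let al : (A i)[X] →+* Localization.Away (X : (A i)[X]) := algebraMap _ _
    let W' := overK (str i) (al.comp C)
    let q' : W' ⟶ W i := specK (str i) al rfl
    obtain ⟨r, hr⟩ : ∃ r : W' ⟶ prodR T LP.{u}, r ≫ mapR T (algebraMap (ZU.{u})[X] LP.{u}) = q' ≫ π i := by
      let ρ : LP.{u} →+* Localization.Away (X : (A i)[X]) :=
        IsLocalization.Away.lift (X : (ZU.{u})[X]) (g := al.comp (mapRingHom (fZ i)))
          (by simpa [al] using IsLocalization.Away.algebraMap_isUnit (S := Localization.Away (X : (A i)[X])) (X : (A i)[X]))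
      refine ⟨liftR (q' ≫ π i ≫ prR T _) (Spec.map (CommRingCat.ofHom ρ)), prodR_ext (by simp) ?_⟩
      rw [Over.comp_left, Category.assoc, mapR_snd, liftR_snd_assoc, ← Spec.map_comp, Over.comp_left,
        Category.assoc, show (π i).left ≫ sndR T (ZU.{u})[X] = Spec.map (CommRingCat.ofHom (mapRingHom (fZ i))) from
          liftR_snd _ _]
      show Spec.map _ = Spec.map (CommRingCat.ofHom al) ≫ Spec.map _
      rw [← Spec.map_comp, ← CommRingCat.ofHom_comp, ← CommRingCat.ofHom_comp]
      simp only [ρ, IsLocalization.Away.lift_comp]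
    have h1 : Iso1.pb gX h (π i) rfl rfl = Iso1.pb gX h' (π i) rfl rfl := by
      refine eq_of_dense gX hd q' (injective_appTop_specK (str i) _ _
        (IsLocalization.injective _ (Submonoid.powers_le.2 Polynomial.monic_X.mem_nonZeroDivisors))) _ _ ?_
      have h2 := congrArg (fun w => Iso1.pb gX w r (g' := q' ≫ π i ≫ g) (t' := q' ≫ π i ≫ g)
        (by rw [reassoc_of% hr]) (by rw [reassoc_of% hr])) e
      simp only [Iso1.pb_pb] at h2
      simp only [Iso1.pb_pb]
      exact (Iso1.pb_congr gX h hr.symm _ _).trans (h2.trans (Iso1.pb_congr gX h' hr _ _))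
    have h3 := congrArg (fun w => Iso1.pb gX w l (g' := (l ≫ π i) ≫ g) (t' := (l ≫ π i) ≫ g)
      (Category.assoc _ _ _).symm (Category.assoc _ _ _).symm) h1
    simp only [Iso1.pb_pb] at h3
    exact h3

theorem nodeSys_dense {𝒳 : AlgSt.Cat S} (h𝒳 : Stk.IsStack (QuotSh.J Scheme.fppfPrecoverage S) 𝒳)
    (hd : AlgSt.RepByAlgSpWith AlgSp.IsSeparatedMor (FibCat.diag (FibCat.toSelf 𝒳))) {U : Over S}
    (c : FibCat.overCat U ⥤ᵇ 𝒳) : (nodeSys T).Dense 𝒳 c :=
  fun _ => ⟨fun g h h' e => dense_line h𝒳 hd g h h' e, fun g h h' e => dense_line h𝒳 hd g h h' e⟩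

end Dense

end Groth.Agent.IsoNat5
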