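import Groth.Agent.Lib.IsoNat5.QCPre
import Groth.Agent.Lib.StAlg16.SubstackLift

/-!
Quasi-compactness of a morphism of algebraic stacks, tested on quasi-compact open substacks.
-/

universe u

open CategoryTheory CategoryTheory.Functor AlgebraicGeometry Topology

set_option linter.style.haveILetI false
set_option linter.unusedSectionVars false
set_option backward.isDefEq.respectTransparency false
set_option backward.isDefEq.respectTransparency.types false

namespace Groth.Agent.IsoNat5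

open Groth.Agent.FC16 Groth.Agent.StAlg Groth.Agent.StAlg16 AlgSt

variable {S : Scheme.{u}} {𝒳 𝒴 : AlgSt.Cat S}

/-- the open substack of a compact open set of points is quasi-compact -/
theorem isQuasiCompact_fullSub_qsub (h𝒴 : IsAlgStack Scheme.fppfPrecoverage 𝒴) {T : Set (Points 𝒴)}
    (hT : IsOpen T) (hTc : IsCompact T) : AlgSt.IsQuasiCompact (fullSub 𝒴 (Qsub T)) := by
  have hQ := isAlgStack_fullSub_qsub hT h𝒴
  obtain ⟨U, y, hy, hys⟩ := h𝒴.atlas
  obtain ⟨t, h1, h2, -, -⟩ := exists_affine_cover h𝒴 y hy hys hTc hT le_rfl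
  suffices h : CompactSpace (Points (fullSub 𝒴 (Qsub T))) from haveI := h; isQuasiCompact_of_compactSpace hQ
  have hA : ∀ A : {A // A ∈ t}, Set.range (Points.map (resChart y (A.1 : U.left.Opens))) ⊆ T := fun A => by
    rw [range_map_resChart]
    exact (Set.subset_iUnion₂ (s := fun (B : U.left.affineOpens) (_ : B ∈ t) =>
      Points.ofChart y '' ((B : U.left.Opens) : Set ↥U.left)) A.1 A.2).trans h2
  let L := fun A : {A // A ∈ t} => liftSub (Q := Qsub T) (resChart y (A.1 : U.left.Opens))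
    (qsub_range_map (overCat_isFibGrpd _) h𝒴.isStack.1 _ (hA A))
  refine ⟨IsCompact.of_isClosed_subset (s := ⋃ A, Set.range (Points.map (L A))) ?_ isClosed_univ ?_⟩
  · refine isCompact_iUnion fun A => ?_
    haveI : IsAffine (openPart (A.1 : U.left.Opens)).left := A.1.2
    haveI := compactSpace_of_isQuasiCompact (isAlgStack_overCat _) (isQuasiCompact_overCat (openPart (A.1 : U.left.Opens)))
    exact isCompact_range (continuous_map hQ _)
  · intro z _
    obtain ⟨A, hA', hz⟩ := Set.mem_iUnion₂.1 (h1 ((range_map_subIncl_qsub T).le ⟨z, rfl⟩))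
    rw [← range_map_resChart] at hz
    obtain ⟨v, hv⟩ := hz
    refine Set.mem_iUnion.2 ⟨⟨A, hA'⟩, v, injective_map_subIncl h𝒴.isStack.1 (fun φ h => qsub_of_hom φ h) ?_⟩
    rw [← StAlg16.map_comp_apply]
    exact hv

/-- quasi-compactness of a morphism, tested on quasi-compact open substacks of the target -/
theorem isQuasiCompactMor_iff_openImm [QuasiSeparatedSpace S] (h𝒳 : IsAlgStack Scheme.fppfPrecoverage 𝒳)
    (h𝒴 : IsAlgStack Scheme.fppfPrecoverage 𝒴)
    (h𝒴d : AlgSt.RepByAlgSpWith AlgSp.IsQuasiCompactMor (FibCat.diag (FibCat.toSelf 𝒴))) (f : 𝒳 ⥤ᵇ 𝒴) :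
    AlgSt.IsQuasiCompactMor Scheme.fppfPrecoverage f ↔
      ∀ (𝒴' : AlgSt.Cat S), AlgSt.IsAlgStack Scheme.fppfPrecoverage 𝒴' → AlgSt.IsQuasiCompact 𝒴' →
        ∀ (j : 𝒴' ⥤ᵇ 𝒴), AlgSt.IsOpenImm j → AlgSt.IsQuasiCompact (FibCat.fp j f) := by
  refine ⟨fun h 𝒴' h' hq j _ => h 𝒴' h' hq j, fun h => isQuasiCompactMor_of_preimage h𝒳 h𝒴 h𝒴d fun T hT hTc => ?_⟩
  have hQ := isAlgStack_fullSub_qsub hT h𝒴
  have hP := isAlgStack_fp' hQ h𝒳 h𝒴 (subIncl 𝒴 (Qsub T)) f
  haveI := compactSpace_of_isQuasiCompact hP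
    (h _ hQ (isQuasiCompact_fullSub_qsub h𝒴 hT hTc) _ (isOpenImm_subIncl_qsub hT h𝒴))
  rw [show Points.map f ⁻¹' T = Set.range (Points.map (FibCat.fpSnd (subIncl 𝒴 (Qsub T)) f)) from ?_]
  · exact isCompact_range (continuous_map h𝒳 _)
  conv_lhs => rw [← range_map_subIncl_qsub T]
  ext x
  constructor
  · rintro ⟨a, ha⟩
    obtain ⟨w, -, hw⟩ := exists_fp_point h𝒳.isStack.1 h𝒴.isStack.1 hQ.isStack.1 f _ a x ha
    exact ⟨w, hw⟩
  · rintro ⟨w, rfl⟩
    exact ⟨Points.map (FibCat.fpFst _ f) w, by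
      rw [← StAlg16.map_comp_apply, ← StAlg16.map_comp_apply, map_eq_map_of_iso (FibCat.fpIso _ f)]⟩

end Groth.Agent.IsoNat5
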