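import Groth.Agent.Lib.IsoNat5.CleanLocus
import Groth.Agent.Lib.IsoNat5.Unique
import Groth.Agent.Lib.IsoNat5.Dense5
import Groth.Agent.Lib.NeronMap.Dense

/-!
Isomorphisms over smooth covers of a chart with dense clean locus are unique.
-/

universe u

open CategoryTheory CategoryTheory.Functor CategoryTheory.Limits AlgebraicGeometry Opposite

set_option linter.style.haveILetI false
set_option linter.unusedSectionVars false
set_option backward.isDefEq.respectTransparency false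
set_option backward.isDefEq.respectTransparency.types false

namespace Groth.Agent.IsoNat5

open Groth.Agent.FC16 Groth.Agent.StAlg Groth.Agent.StAlg16 AlgSt

variable {S : Scheme.{u}} {𝒳 : AlgSt.Cat S} {U : Over S}

/-- at most one isomorphism onto a smooth pullback of the chart -/
def Rigid (x : FibCat.overCat U ⥤ᵇ 𝒳) : Prop :=
  ∀ (T : Over S) (u v : T ⟶ U), Smooth v.left → ∀ b b' : Iso1 x u x v, b = b'

/-- a chart with dense clean locus is rigid -/
theorem rigid_of_clean_dense (h𝒳 : Stk.IsStack (QuotSh.J Scheme.fppfPrecoverage S) 𝒳)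
    (hi : AlgSt.RepByAlgSpWith (AlgSp.LocP @LocallyOfFinitePresentation)
      (FibCat.inertiaToBase (FibCat.toSelf 𝒳)))
    (hpr : AlgSt.RepByAlgSpWith AlgSp.IsProperMor (FibCat.inertiaToBase (FibCat.toSelf 𝒳)))
    (hd : AlgSt.RepByAlgSpWith AlgSp.IsSeparatedMor (FibCat.diag (FibCat.toSelf 𝒳)))
    (x : FibCat.overCat U ⥤ᵇ 𝒳) {V : U.left.Opens}
    (hV : ∀ (T : Over S) (g : T ⟶ U),
      (∃ g' : T.left ⟶ ↑V, g' ≫ V.ι = g.left) ↔ IsoNat.IsClean (x.obj (Over.mk g)))
    (hVd : CInt.IsSchematicallyDense V) : Rigid x := by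
  have h1 : ∀ (T : Over S) (t : T ⟶ U), Set.range t.left ⊆ V → IsoNat.IsClean (x.obj (Over.mk t)) :=
    fun T t ht => (hV T t).1 ⟨IsOpenImmersion.lift V.ι t.left (by rwa [Scheme.Opens.range_ι]),
      IsOpenImmersion.lift_fac _ _ _⟩
  have h2 : ∀ (K : Type u) [Field K] (str : Spec (CommRingCat.of K) ⟶ S) (s : Over.mk str ⟶ U),
      IsoNat.IsClean (x.obj (Over.mk s)) → s.left (IsLocalRing.closedPoint K) ∈ V := fun K _ str s hs => by
    obtain ⟨g', hg'⟩ := (hV _ s).2 hs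
    rw [← hg']
    exact (g' (IsLocalRing.closedPoint K)).2
  haveI : QuasiCompact V.ι := quasiCompact_openIncl_clean hi hpr h𝒳.1 x V
    (Set.ext fun v => (mem_clean_open_iff h𝒳.1 x h1 h2 v).symm)
  intro T u v hv b b'
  haveI := hv
  refine iso1_eq_of_cover h𝒳 b b' (AlgSpace.mem_J_of_openImmersions (κ := T.left.affineOpens)
    (T' := fun A => openPart A.1) (fun A => openIncl A.1) (fun A => inferInstanceAs (IsOpenImmersion A.1.ι))
    fun r => ?_) ?_
  · obtain ⟨_, ⟨A, hA, rfl⟩, hr, -⟩ := T.left.isBasis_affineOpens.exists_subset_of_mem_open (Set.mem_univ r) isOpen_univ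
    exact ⟨⟨A, hA⟩, ⟨r, hr⟩, rfl⟩
  rintro W f ⟨_, l, _, ⟨A⟩, rfl⟩
  haveI : IsAffine (openPart A.1).left := A.2
  -- the affine piece
  let i := openIncl A.1
  let bA : Iso1 x (i ≫ u) x (i ≫ v) := Iso1.pb h𝒳.1 b i rfl rfl
  let bA' : Iso1 x (i ≫ u) x (i ≫ v) := Iso1.pb h𝒳.1 b' i rfl rfl
  have key : bA = bA' := by
    haveI : Smooth (i ≫ v).left := by
      show Smooth (A.1.ι ≫ v.left)
      infer_instance
    let O : (openPart A.1).left.Opens := (i ≫ v).left ⁻¹ᵁ V
    have hO : CInt.IsSchematicallyDense O := dense_preimage_of_flat (i ≫ v).left hVd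
    have hinj : Function.Injective (openIncl O).left.appTop := by
      show Function.Injective O.ι.appTop
      rw [Scheme.Hom.appTop, Scheme.Opens.ι_app]
      refine NeronMap.injective_map_of_le hO _ ?_
      rintro y ⟨-, hy⟩
      exact ⟨⟨y, hy⟩, trivial, rfl⟩
    refine eq_of_dense h𝒳.1 hd (openIncl O) hinj _ _ ?_
    have hc : IsoNat.IsClean (x.obj (Over.mk (openIncl O ≫ i ≫ v))) := h1 _ _ (by
      rintro _ ⟨r, rfl⟩
      exact r.2)
    let c := (Iso1.pb h𝒳.1 bA (openIncl O) rfl rfl).symm.trans (Iso1.pb h𝒳.1 bA' (openIncl O) rfl rfl)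
    have hc' : c = Iso1.refl x _ := by
      let c₀ := Iso1.pb h𝒳.1 c (𝟙 (openPart O)) (g' := 𝟙 _ ≫ openIncl O ≫ i ≫ v)
        (t' := 𝟙 _ ≫ openIncl O ≫ i ≫ v) rfl rfl
      have h0 : c₀ = Iso1.refl x _ := (isClean_obj_iff h𝒳.1 x _).1 hc _ (𝟙 _) c₀
      have h3 := congrArg (fun w => Iso1.pb h𝒳.1 w (𝟙 _) (g' := openIncl O ≫ i ≫ v) (t' := openIncl O ≫ i ≫ v)
        ((Category.id_comp _).trans (Category.id_comp _)) ((Category.id_comp _).trans (Category.id_comp _))) h0
      simp only [c₀, Iso1.pb_pb, Iso1.pb_refl] at h3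
      exact ((Iso1.pb_congr h𝒳.1 c (Category.id_comp (𝟙 _)) _ _).trans (Iso1.pb_id h𝒳.1 c)).symm.trans h3
    have h4 := congrArg (fun w => (Iso1.pb h𝒳.1 bA (openIncl O) rfl rfl).trans w) hc'
    simp only [c, ← Iso1.trans_assoc, Iso1.trans_symm, Iso1.refl_trans, Iso1.trans_refl] at h4
    exact h4.symm
  have h5 := congrArg (fun w => Iso1.pb h𝒳.1 w l (g' := (l ≫ i) ≫ u) (t' := (l ≫ i) ≫ v)
    (Category.assoc _ _ _).symm (Category.assoc _ _ _).symm) key
  simpa only [bA, bA', Iso1.pb_pb] using h5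

end Groth.Agent.IsoNat5
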