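import Groth.Agent.Lib.IsoNat5.Iso1
import Groth.Agent.Lib.AlgSpDescent.FormallyLift
import Groth.Agent.Lib.AlgSpace.MorDiag

/-!
Objects of a fibre product read as sections of the representing space.
-/

universe u

open CategoryTheory CategoryTheory.Functor CategoryTheory.Limits AlgebraicGeometry Opposite

set_option linter.style.haveILetI false
set_option linter.unusedSectionVars false
set_option backward.isDefEq.respectTransparency false
set_option backward.isDefEq.respectTransparency.types false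

namespace Groth.Agent.IsoNat5

open Groth.Agent.FC16 Groth.Agent.StAlg AlgSt

variable {S : Scheme.{u}} {𝒳 𝒵 : AlgSt.Cat S} {V T T' : Over S} {F : AlgSp.Sp S}
  {z : FibCat.overCat V ⥤ᵇ 𝒳} {w : 𝒵 ⥤ᵇ 𝒳} {e : AlgSt.ofSp F ⥤ᵇ FibCat.fp z w}

/-- an object of a fibre product as an object over `T` lying over `v` -/
structure SecObj (z : FibCat.overCat V ⥤ᵇ 𝒳) (w : 𝒵 ⥤ᵇ 𝒳) (v : T ⟶ V) where
  /-- the second component -/
  obj : 𝒵.p.Fiber T
  /-- the comparison -/
  iso : z.obj (Over.mk v) ≅ w.obj obj.1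
  lift : 𝒳.p.IsHomLift (𝟙 T) iso.hom

namespace SecObj

variable {v : T ⟶ V} {v' : T' ⟶ V}

/-- as an object of the fibre product -/
noncomputable def toFp (ξ : SecObj z w v) : (FibCat.fp z w).obj :=
  ⟨{ fst := Over.mk v, snd := ξ.obj.1, iso := ξ.iso }, ξ.lift⟩

theorem exists_section (he : FibCat.IsEquivOver e) (ξ : SecObj z w v) :
    ∃ (s : F.obj.obj (op T)) (θ : e.obj ⟨T, s⟩ ≅ ξ.toFp), (FibCat.fp z w).p.IsHomLift (𝟙 T) θ.hom := by
  obtain ⟨⟨B, s⟩, θ, hθ⟩ := essSurjOver_of_isEquivOver he ξ.toFp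
  have hB : B = T := (e.w_obj ⟨B, s⟩).symm.trans (@IsHomLift.domain_eq _ _ _ _ _ _ _ _ _ _ _ hθ)
  subst hB
  exact ⟨s, θ, hθ⟩

/-- the section -/
noncomputable def sec (he : FibCat.IsEquivOver e) (ξ : SecObj z w v) : (AlgSp.yon S).obj T ⟶ F :=
  AlgSpace.sect.symm (exists_section he ξ).choose

theorem sec_comp (he : FibCat.IsEquivOver e) (ξ : SecObj z w v) :
    sec he ξ ≫ AlgSt.spMapOfOver (BasedFunctor.comp e (FibCat.fpFst z w)) = (AlgSp.yon S).map v := by
  obtain ⟨θ, hθ⟩ := (exists_section he ξ).choose_spec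
  apply AlgSpace.sect.injective
  rw [show AlgSpace.sect (sec he ξ ≫ AlgSt.spMapOfOver (BasedFunctor.comp e (FibCat.fpFst z w))) =
      (AlgSt.spMapOfOver (BasedFunctor.comp e (FibCat.fpFst z w))).hom.app (op T) (AlgSpace.sect (sec he ξ)) from
    GrothendieckTopology.uliftYonedaEquiv_comp _ _ _, AlgSt.spMapOfOver_app,
    show AlgSpace.sect ((AlgSp.yon S).map v) = ULift.up v from
      GrothendieckTopology.uliftYonedaEquiv_uliftYoneda_map _ _]
  refine ULift.ext _ _ ?_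
  haveI := hθ
  let s := (exists_section he ξ).choose
  haveI hl : (FibCat.overCat V).p.IsHomLift (𝟙 T) ((FibCat.fpFst z w).map θ.hom) :=
    BasedFunctor.preserves_isHomLift (FibCat.fpFst z w) (𝟙 T) θ.hom
  have h1 : ((FibCat.fpFst z w).map θ.hom).left = eqToHom ((BasedFunctor.comp e (FibCat.fpFst z w)).w_obj ⟨T, s⟩) :=
    (IsHomLift.fac' (FibCat.overCat V).p (𝟙 T) ((FibCat.fpFst z w).map θ.hom)).trans (by simp)
  have h2 : ((FibCat.fpFst z w).map θ.hom).left ≫ v =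
      ((BasedFunctor.comp e (FibCat.fpFst z w)).obj ⟨T, s⟩).hom := Over.w ((FibCat.fpFst z w).map θ.hom)
  rw [h1] at h2
  have key : AlgSt.secHom (BasedFunctor.comp e (FibCat.fpFst z w)) ⟨T, s⟩ = v := by
    show eqToHom _ ≫ _ = v
    rw [← h2]
    simp
  refine Eq.trans ?_ key
  exact congrArg (β := T ⟶ V) (fun r : F.obj.obj (op T) =>
    (AlgSt.secHom (BasedFunctor.comp e (FibCat.fpFst z w)) (⟨T, r⟩ : (AlgSt.ofSp F).obj) : T ⟶ V))
    (AlgSpace.sect.apply_symm_apply s)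

/-- a morphism of objects gives a relation of sections -/
theorem sec_map (he : FibCat.IsEquivOver e) (ξ' : SecObj z w v') (ξ : SecObj z w v) (f : T' ⟶ T) (hv : f ≫ v = v')
    (b : ξ'.obj.1 ⟶ ξ.obj.1) (hb : 𝒵.p.IsHomLift f b)
    (hw : z.map (sl f hv) ≫ ξ.iso.hom = ξ'.iso.hom ≫ w.map b) :
    (AlgSp.yon S).map f ≫ sec he ξ = sec he ξ' := by
  obtain ⟨θ, hθ⟩ := (exists_section he ξ).choose_spec
  obtain ⟨θ', hθ'⟩ := (exists_section he ξ').choose_spec
  haveI := hθ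
  haveI := hθ'
  let ν : ξ'.toFp ⟶ ξ.toFp := ObjectProperty.homMk { fst := sl f hv, snd := b, w := hw }
  haveI hν : (FibCat.fp z w).p.IsHomLift f ν := by
    haveI : (FibCat.overCat V).p.IsHomLift f (sl f hv) := IsHomLift.map (FibCat.overCat V).p (sl f hv)
    exact @isHomLift_of_fst _ _ _ _ _ _ _ _ _ _ _ _ _ this
  haveI := isEquivalence_of_isEquivOver he
  obtain ⟨μ, hμ⟩ := e.toFunctor.map_surjective (θ'.hom ≫ ν ≫ θ.inv)
  haveI hμ' : (AlgSt.ofSp F).p.IsHomLift f μ := by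
    rw [← BasedFunctor.isHomLift_iff e, hμ]
    have : (FibCat.fp z w).p.IsHomLift (𝟙 T' ≫ f ≫ 𝟙 T) (θ'.hom ≫ ν ≫ θ.inv) := inferInstance
    simpa using this
  have hμf : μ.hom = f := (IsHomLift.fac' (AlgSt.ofSp F).p f μ).trans (by simp)
  apply AlgSpace.sect.injective
  rw [sec, sec, ← GrothendieckTopology.uliftYonedaEquiv_naturality, Equiv.apply_symm_apply, Equiv.apply_symm_apply]
  exact (congrArg (fun q : T' ⟶ T => F.obj.map q.op (exists_section he ξ).choose) hμf).symm.trans μ.map_sec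

/-- equal sections give isomorphic objects -/
theorem exists_iso_of_sec_eq (he : FibCat.IsEquivOver e) (ξ ξ' : SecObj z w v) (h : sec he ξ = sec he ξ') :
    ∃ b : ξ.obj.1 ⟶ ξ'.obj.1, 𝒵.p.IsHomLift (𝟙 T) b ∧ ξ'.iso.hom = ξ.iso.hom ≫ w.map b := by
  obtain ⟨θ, hθ⟩ := (exists_section he ξ).choose_spec
  obtain ⟨θ', hθ'⟩ := (exists_section he ξ').choose_spec
  have hs : (exists_section he ξ).choose = (exists_section he ξ').choose := AlgSpace.sect.symm.injective h
  revert θ'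
  rw [← hs]
  intro θ' hθ'
  haveI := hθ
  haveI := hθ'
  let κ : ξ.toFp ⟶ ξ'.toFp := θ.inv ≫ θ'.hom
  haveI hκ : (FibCat.fp z w).p.IsHomLift (𝟙 T) κ := inferInstance
  haveI h1 : (FibCat.overCat V).p.IsHomLift (𝟙 T) ((FibCat.fpFst z w).map κ) :=
    BasedFunctor.preserves_isHomLift (FibCat.fpFst z w) (𝟙 T) κ
  haveI h2 : 𝒵.p.IsHomLift (𝟙 T) ((FibCat.fpSnd z w).map κ) :=
    BasedFunctor.preserves_isHomLift (FibCat.fpSnd z w) (𝟙 T) κ
  refine ⟨(FibCat.fpSnd z w).map κ, h2, ?_⟩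
  have hfst : (FibCat.fpFst z w).map κ = 𝟙 (Over.mk v) :=
    Over.OverMorphism.ext ((IsHomLift.fac' (FibCat.overCat V).p (𝟙 T) ((FibCat.fpFst z w).map κ)).trans (by simp; rfl))
  have hw : z.map ((FibCat.fpFst z w).map κ) ≫ ξ'.iso.hom = ξ.iso.hom ≫ w.map ((FibCat.fpSnd z w).map κ) := fp_w κ
  rw [hfst] at hw
  exact ((congrArg (fun r => r ≫ ξ'.iso.hom) (z.toFunctor.map_id (Over.mk v))).trans (Category.id_comp _)).symm.trans hw

end SecObj

/-- sections of a separated map agreeing on a schematically dense piece are equal -/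
theorem eq_of_separated_dense {G : AlgSp.Sp S} {a : F ⟶ G} (ha : AlgSp.IsSeparatedMor a) {W W' : Over S}
    [IsAffine W.left] (q : W' ⟶ W) (hq : Function.Injective q.left.appTop)
    (l₁ l₂ : (AlgSp.yon S).obj W ⟶ F) (h : l₁ ≫ a = l₂ ≫ a)
    (hl : (AlgSp.yon S).map q ≫ l₁ = (AlgSp.yon S).map q ≫ l₂) : l₁ = l₂ := by
  have hr : AlgSp.Representable (pullback.diagonal a) := ha.1
  obtain ⟨E, k, fE, sqE⟩ := hr (pullback.lift l₁ l₂ h)
  haveI hcl : IsClosedImmersion k.left := ha.2 _ _ _ sqE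
  have hq' : (AlgSp.yon S).map q ≫ pullback.lift l₁ l₂ h = ((AlgSp.yon S).map q ≫ l₁) ≫ pullback.diagonal a := by
    apply pullback.hom_ext
    · simp
    · simp [hl]
  obtain ⟨l, hl'⟩ : ∃ l : W' ⟶ E, l ≫ k = q := by
    obtain ⟨l, hl'⟩ := (AlgSp.yon S).map_surjective (sqE.lift ((AlgSp.yon S).map q ≫ l₁) ((AlgSp.yon S).map q) hq'.symm)
    exact ⟨l, (AlgSp.yon S).map_injective (by rw [Functor.map_comp, hl', sqE.lift_snd])⟩
  haveI : IsIso k.left := IsClosedImmersion.isIso_of_injective_of_isAffine (by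
    have e : q.left.appTop = k.left.appTop ≫ l.left.appTop := by
      rw [← hl', Over.comp_left, Scheme.Hom.comp_appTop]
    intro x y hxy
    exact hq (by rw [e]; exact congrArg l.left.appTop hxy))
  haveI : IsIso ((Over.forget S).map k) := ‹IsIso k.left›
  haveI : IsIso k := isIso_of_reflects_iso k (Over.forget S)
  have h1 := congrArg (fun t => inv ((AlgSp.yon S).map k) ≫ t ≫ pullback.fst a a) sqE.w
  have h2 := congrArg (fun t => inv ((AlgSp.yon S).map k) ≫ t ≫ pullback.snd a a) sqE.w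
  simp only [Category.assoc, pullback.diagonal_fst, pullback.diagonal_snd, pullback.lift_fst, pullback.lift_snd,
    IsIso.inv_hom_id_assoc] at h1 h2
  rw [← h1, ← h2]

end Groth.Agent.IsoNat5
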