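import Groth.Agent.Lib.IsoNat5.LiftTransfer
import Groth.Agent.Lib.IsoNat5.ProperInertia
import Groth.Agent.Lib.StAlg16.Squares

/-!
Separatedness from lifting of isomorphisms along discrete valuation rings.
-/

universe u

open CategoryTheory CategoryTheory.Functor CategoryTheory.Limits AlgebraicGeometry Opposite

set_option linter.style.haveILetI false
set_option linter.unusedSectionVars false
set_option backward.isDefEq.respectTransparency false
set_option backward.isDefEq.respectTransparency.types false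

namespace Groth.Agent.IsoNat5

open Groth.Agent.FC16 Groth.Agent.StAlg Groth.Agent.StAlg16 AlgSt

variable {S : Scheme.{u}} {𝒳 𝒴 : AlgSt.Cat S}

/-- generically equal isomorphisms over a valuation ring are equal when the inertia is separated -/
theorem iso1_eq_of_generic (g𝒳 : FibCat.IsFibGrpd 𝒳.p)
    (hs : AlgSt.RepByAlgSpWith AlgSp.IsSeparatedMor (FibCat.inertiaToBase (FibCat.toSelf 𝒳)))
    (A : Type u) [CommRing A] [IsDomain A] [ValuationRing A] (K : Type u) [Field K] [Algebra A K]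
    [IsFractionRing A K] (str : Spec (CommRingCat.of A) ⟶ S)
    {x y : FibCat.overCat (Over.mk str) ⥤ᵇ 𝒳} (γ₁ γ₂ : Iso1 x (𝟙 _) y (𝟙 _))
    (h : Iso1.pb g𝒳 γ₁ (Over.homMk (Spec.map (CommRingCat.ofHom (algebraMap A K))) rfl :
        Over.mk (Spec.map (CommRingCat.ofHom (algebraMap A K)) ≫ str) ⟶ Over.mk str)
        (Category.comp_id _) (Category.comp_id _) =
      Iso1.pb g𝒳 γ₂ (Over.homMk (Spec.map (CommRingCat.ofHom (algebraMap A K))) rfl :
        Over.mk (Spec.map (CommRingCat.ofHom (algebraMap A K)) ≫ str) ⟶ Over.mk str)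
        (Category.comp_id _) (Category.comp_id _)) : γ₁ = γ₂ := by
  obtain ⟨F, e, he, hF⟩ := hs _ x
  let sq : AlgSp.ValSq (AlgSt.spMapOfOver (BasedFunctor.comp e
      (FibCat.fpFst x (FibCat.inertiaToBase (FibCat.toSelf 𝒳))))) :=
    { A := A, K := K, str := str, top := (autObj (Iso1.refl x _)).sec he, bot := 𝟙 _
      comm := (SecObj.sec_comp he _).trans (Category.comp_id _).symm }
  have hid := fun γ : Iso1 x (𝟙 (Over.mk str)) x (𝟙 (Over.mk str)) =>
    ((SecObj.sec_comp he (autObj γ)).trans ((AlgSp.yon S).map_id _))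
  have hc : γ₁.trans γ₂.symm = Iso1.refl x _ := by
    refine eq_of_sec_eq he _ _ (AlgSpace.uniqVC_of_isSeparatedMor hF sq _ _ ?_ (hid _) ?_ (hid _))
    · rw [← sec_pb g𝒳 he (γ₁.trans γ₂.symm) sq.j (Category.comp_id _),
        Iso1.pb_trans g𝒳 γ₁ γ₂.symm sq.j (Category.comp_id _) (Category.comp_id _) (Category.comp_id _),
        Iso1.pb_symm g𝒳 γ₂ sq.j (Category.comp_id _) (Category.comp_id _)]
      show (autObj ((Iso1.pb g𝒳 γ₁ _ _ _).trans (Iso1.pb g𝒳 γ₂ _ _ _).symm)).sec he = _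
      rw [h, Iso1.trans_symm]
    · rw [← sec_pb g𝒳 he (Iso1.refl x (𝟙 _)) sq.j (Category.comp_id _), Iso1.pb_refl]
  have h2 := congrArg (fun w => w.trans γ₂) hc
  simpa [Iso1.trans_assoc] using h2

/-- a separated morphism lifts isomorphisms along valuation rings -/
theorem liftIso_of_separated {f : 𝒳 ⥤ᵇ 𝒴} (g𝒳 : FibCat.IsFibGrpd 𝒳.p) (g𝒴 : FibCat.IsFibGrpd 𝒴.p)
    (hf : AlgSt.IsSeparatedMor f)
    (A : Type u) [CommRing A] [IsDomain A] [ValuationRing A] (K : Type u) [Field K] [Algebra A K]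
    [IsFractionRing A K] (str : Spec (CommRingCat.of A) ⟶ S) :
    LiftIso g𝒳 g𝒴 f (Over.homMk (Spec.map (CommRingCat.ofHom (algebraMap A K))) rfl :
      Over.mk (Spec.map (CommRingCat.ofHom (algebraMap A K)) ≫ str) ⟶ Over.mk str) := by
  rintro x₁ x₂ a ⟨b, hb⟩
  let q : Over.mk (Spec.map (CommRingCat.ofHom (algebraMap A K)) ≫ str) ⟶ Over.mk str :=
    Over.homMk (Spec.map (CommRingCat.ofHom (algebraMap A K))) rfl
  obtain ⟨i, hi⟩ := exists_iso (presCart_of_isFibGrpd g𝒴 (BasedFunctor.comp x₁ f))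
    (presCart_of_isFibGrpd g𝒴 (BasedFunctor.comp x₂ f)) b.iso b.lift
  let z : FibCat.overCat (Over.mk str) ⥤ᵇ FibCat.fp f f := FibCat.fpLift x₁ x₂ i
  obtain ⟨F, e, he, hp⟩ := hf _ z
  have hiq : (FC16.appIso i (Over.mk q)).hom = f.map a.iso.hom := by
    have h1 : Iso1.pb g𝒴 b q (Category.comp_id _) (Category.comp_id _) =
        ⟨FC16.appIso i (Over.mk q), FC16.isHomLift_appIso_hom i _ rfl⟩ := by
      refine Iso1.pb_unique g𝒴 _ ?_
      rw [← hi]
      exact (i.hom.toNatTrans.naturality (sl q (Category.comp_id q))).symm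
    exact congrArg (fun w : Iso1 _ _ _ _ => w.iso.hom) (h1.symm.trans hb)
  let ξ₀ : SecObj z (FibCat.diag f) q :=
    { obj := ⟨x₂.obj (Over.mk q), x₂.w_obj _⟩
      iso := fpIsoMk a.iso (Iso.refl _) (by
        show f.map a.iso.hom ≫ 𝟙 _ = (FC16.appIso i (Over.mk q)).hom ≫ f.map (𝟙 _)
        rw [hiq, CategoryTheory.Functor.map_id])
      lift := @isHomLift_of_fst _ _ _ _ _ _ _ _ _ _ _ _ _ a.lift }
  let sq : AlgSp.ValSq (AlgSt.spMapOfOver (BasedFunctor.comp e (FibCat.fpFst z (FibCat.diag f)))) :=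
    { A := A, K := K, str := str, top := ξ₀.sec he, bot := 𝟙 _
      comm := (SecObj.sec_comp he _).trans (Category.comp_id _).symm }
  have hV := AlgSp.IsAlgSpace.yon_obj (Over.mk str)
  obtain ⟨dx, hdx⟩ := AlgSpace.existVC_of_isUnivClosedMor F.property hV
    (AlgSpace.repWith_mono (fun _ _ g (_ : IsClosedImmersion g) => (inferInstance : QuasiCompact g)) hp.1) hp.2.2 sq
  obtain ⟨l, hl₁, hl₂⟩ := AlgSpace.hasLift_of_domExt F.property hV hp.1 sq dx hdx
  obtain ⟨ξ, rfl⟩ := exists_secObj he l (𝟙 _) (hl₂.trans ((AlgSp.yon S).map_id _).symm)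
  haveI := ξ.lift
  haveI hl1 : 𝒳.p.IsHomLift (𝟙 (Over.mk str)) ((FibCat.fpFst f f).map ξ.iso.hom) := BasedFunctor.preserves_isHomLift _ _ _
  haveI hl2 : 𝒳.p.IsHomLift (𝟙 (Over.mk str)) ((FibCat.fpSnd f f).map ξ.iso.hom) := BasedFunctor.preserves_isHomLift _ _ _
  let i₁ : x₁.obj (Over.mk (𝟙 (Over.mk str))) ≅ ξ.obj.1 := (FibCat.fpFst f f).toFunctor.mapIso ξ.iso
  let i₂ : x₂.obj (Over.mk (𝟙 (Over.mk str))) ≅ ξ.obj.1 := (FibCat.fpSnd f f).toFunctor.mapIso ξ.iso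
  haveI : 𝒳.p.IsHomLift (𝟙 _) i₂.inv :=
    @IsHomLift.lift_id_inv _ _ _ _ 𝒳.p (Over.mk str) _ _ i₂ hl2
  haveI : 𝒳.p.IsHomLift (𝟙 (Over.mk str)) i₁.hom := hl1
  let γ : Iso1 x₁ (𝟙 (Over.mk str)) x₂ (𝟙 (Over.mk str)) := ⟨i₁ ≪≫ i₂.symm,
    show 𝒳.p.IsHomLift (𝟙 (Over.mk str)) (i₁.hom ≫ i₂.inv) by infer_instance⟩
  refine ⟨γ, ?_⟩
  -- compare the restriction
  haveI := map_sl_lift x₁ q (Category.comp_id q)
  haveI := map_sl_lift x₂ q (Category.comp_id q)
  let a' := Iso1.pb g𝒳 γ q (Category.comp_id q) (Category.comp_id q)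
  have ha' : a'.iso.hom ≫ x₂.map (sl q (Category.comp_id q)) = x₁.map (sl q (Category.comp_id q)) ≫ i₁.hom ≫ i₂.inv :=
    Iso1.pb_spec g𝒳 γ q _ _
  haveI := a'.lift
  have hb' : f.map a'.iso.hom = (FC16.appIso i (Over.mk q)).hom := by
    have hm : Iso1.map f γ = ⟨FC16.appIso i (Over.mk (𝟙 _)), FC16.isHomLift_appIso_hom i _ rfl⟩ := by
      refine Iso1.ext (Iso.ext ?_)
      show f.map (i₁.hom ≫ i₂.inv) = (FC16.appIso i (Over.mk (𝟙 _))).hom
      rw [Functor.map_comp]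
      have w : f.map i₁.hom ≫ 𝟙 _ = (FC16.appIso i (Over.mk (𝟙 _))).hom ≫ f.map i₂.hom := fp_w ξ.iso.hom
      rw [Category.comp_id] at w
      rw [w, Category.assoc, ← Functor.map_comp, i₂.hom_inv_id, CategoryTheory.Functor.map_id]
      exact Category.comp_id _
    have h1 : Iso1.pb g𝒴 (Iso1.map f γ) q (Category.comp_id _) (Category.comp_id _) =
        ⟨FC16.appIso i (Over.mk q), FC16.isHomLift_appIso_hom i _ rfl⟩ := by
      rw [hm]
      refine Iso1.pb_unique g𝒴 _ ?_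
      exact (i.hom.toNatTrans.naturality (sl q (Category.comp_id q))).symm
    rw [Iso1.pb_map f g𝒳 g𝒴 γ q (Category.comp_id _) (Category.comp_id _)] at h1
    exact congrArg (fun w : Iso1 _ _ _ _ => w.iso.hom) h1
  let ξ₁ : SecObj z (FibCat.diag f) q :=
    { obj := ⟨x₂.obj (Over.mk q), x₂.w_obj _⟩
      iso := fpIsoMk a'.iso (Iso.refl _) (by
        show f.map a'.iso.hom ≫ 𝟙 _ = (FC16.appIso i (Over.mk q)).hom ≫ f.map (𝟙 _)
        rw [hb', CategoryTheory.Functor.map_id])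
      lift := @isHomLift_of_fst _ _ _ _ _ _ _ _ _ _ _ _ _ a'.lift }
  have h1 : (AlgSp.yon S).map q ≫ ξ.sec he = ξ₁.sec he := by
    refine SecObj.sec_map he ξ₁ ξ q (Category.comp_id q) (x₂.map (sl q (Category.comp_id q)) ≫ i₂.hom) ?_ ?_
    · haveI : 𝒳.p.IsHomLift (𝟙 (Over.mk str)) i₂.hom := hl2
      infer_instance
    · refine fp_hom_ext ?_ ?_
      · show x₁.map (sl q _) ≫ i₁.hom = a'.iso.hom ≫ x₂.map (sl q _) ≫ i₂.hom
        rw [← Category.assoc, ha', Category.assoc, Category.assoc, i₂.inv_hom_id, Category.comp_id]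
      · show x₂.map (sl q _) ≫ i₂.hom = 𝟙 _ ≫ x₂.map (sl q _) ≫ i₂.hom
        rw [Category.id_comp]
  obtain ⟨c, -, hc⟩ := SecObj.exists_iso_of_sec_eq he ξ₁ ξ₀ (h1.symm.trans hl₁)
  have c2 : 𝟙 (x₂.obj (Over.mk q)) = 𝟙 _ ≫ c := congrArg (fun w => w.hom.snd) hc
  have c1 : a.iso.hom = a'.iso.hom ≫ c := congrArg (fun w => w.hom.fst) hc
  rw [Category.id_comp] at c2
  rw [← c2, Category.comp_id] at c1
  exact Iso1.ext (Iso.ext c1.symm)

/-- separatedness from lifting along discrete valuation rings -/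
theorem isSeparatedMor_of_liftIso (h𝒳 : AlgSt.IsAlgStack Scheme.fppfPrecoverage 𝒳)
    (h𝒴 : AlgSt.IsAlgStack Scheme.fppfPrecoverage 𝒴)
    (h𝒳d : AlgSt.RepByAlgSpWith (AlgSp.IsSeparatedMor ⊓ AlgSp.IsQuasiCompactMor)
      (FibCat.diag (FibCat.toSelf 𝒳)))
    (h𝒴d : AlgSt.RepByAlgSpWith (AlgSp.IsSeparatedMor ⊓ AlgSp.IsQuasiCompactMor)
      (FibCat.diag (FibCat.toSelf 𝒴)))
    {f : 𝒳 ⥤ᵇ 𝒴} (hft : AlgSt.LocQ (AlgSp.LocP @LocallyOfFiniteType) f)
    (hN : AlgSt.SmoothLocally (fun X => IsLocallyNoetherian X) 𝒴)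
    (H : ∀ (A : Type u) [CommRing A] [IsDomain A] [IsDiscreteValuationRing A] (K : Type u) [Field K] [Algebra A K]
      [IsFractionRing A K] (str : Spec (CommRingCat.of A) ⟶ S),
      LiftIso h𝒳.isStack.1 h𝒴.isStack.1 f (Over.homMk (Spec.map (CommRingCat.ofHom (algebraMap A K))) rfl :
        Over.mk (Spec.map (CommRingCat.ofHom (algebraMap A K)) ≫ str) ⟶ Over.mk str)) :
    AlgSt.IsSeparatedMor f := by
  obtain ⟨U, V, x, y, h, i, hx, hxs, hy, hh⟩ := hft
  have gX := h𝒳.isStack.1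
  have gY := h𝒴.isStack.1
  -- the source is covered by a locally noetherian chart of finite type over the target
  haveI : IsLocallyNoetherian V.left := hN V y hy
  haveI hhl : LocallyOfFiniteType h.left := of_with_locP_overMap h
    ((with_congr (f := AlgSt.overMap h) (f' := AlgSt.ofSpMap ((AlgSp.yon S).map h)) (a := AlgSt.toOverCat U)
      (b := AlgSt.toOverCat V) (toOverCat_isEquivOver U) (toOverCat_isEquivOver V) (overMapIso h)).2
      (with_locP_ofSpMap (AlgSp.IsAlgSpace.yon_obj U) (AlgSp.IsAlgSpace.yon_obj V) _ hh))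
  haveI : IsLocallyNoetherian U.left := LocallyOfFiniteType.isLocallyNoetherian h.left
  have hxf : AlgSt.RepByAlgSpWith (AlgSp.LocP @LocallyOfFiniteType) (BasedFunctor.comp x f) :=
    with_of_iso i.symm (with_comp goodP_locP (overCat_isFibGrpd U) (overCat_isFibGrpd V)
      (with_locP_overMap h hhl) (with_locP_mono smooth_le_lft hy))
  obtain ⟨W, c, hce, hcs⟩ := exists_fp_chart gY (BasedFunctor.comp x f) (repByAlgSp1_of_with hxf)
  obtain ⟨k, ⟨ik⟩⟩ := exists_overMap_iso (BasedFunctor.comp c (FibCat.fpFst (BasedFunctor.comp x f) (BasedFunctor.comp x f)))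
  haveI hkl : LocallyOfFiniteType k.left := of_with_locP_overMap k (with_of_iso ik
    (with_comp goodP_locP (overCat_isFibGrpd W) (fp_isFibGrpd (overCat_isFibGrpd U) (overCat_isFibGrpd U) gY _ _)
      (hce @LocallyOfFiniteType) (with_fpFst _ hxf)))
  haveI : IsLocallyNoetherian W.left := LocallyOfFiniteType.isLocallyNoetherian k.left
  -- the chart of the fibre square
  have gW := overCat_isFibGrpd W
  have gP := fp_isFibGrpd (overCat_isFibGrpd U) (overCat_isFibGrpd U) gY (BasedFunctor.comp x f) (BasedFunctor.comp x f)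
  let M := fpMap (F := BasedFunctor.comp x f) (G := BasedFunctor.comp x f) (F' := f) (G' := f) (a := x) (b := x)
    (s := BasedFunctor.id 𝒴) (Iso.refl _) (Iso.refl _)
  let z := BasedFunctor.comp c M
  have gU := overCat_isFibGrpd U
  have hz₁ : AlgSt.RepByAlgSpWith (AlgSp.LocP @Flat) z := with_comp goodP_locP gW gP (hce @Flat)
    (with_fp_map_gen goodP_locP gX gY f f gU gU (with_locP_mono smooth_le_flat hx) (with_locP_mono smooth_le_flat hx))
  have hz₂ : AlgSt.RepByAlgSpWith (AlgSp.LocP @LocallyOfFinitePresentation) z :=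
    with_comp goodP_locP gW gP (hce @LocallyOfFinitePresentation)
      (with_fp_map_gen goodP_locP gX gY f f gU gU (with_locP_mono smooth_le_lfp hx) (with_locP_mono smooth_le_lfp hx))
  have hz₃ : AlgSt.RepByAlgSpWith AlgSp.IsSurjectiveMor z :=
    with_comp goodP_surjective gW gP hcs (with_fp_map_gen goodP_surjective gX gY f f gU gU hxs hxs)
  -- the diagonal is separated and of finite type
  have hsq : AlgSt.RepByAlgSpWith (AlgSp.IsSeparatedMor ⊓ AlgSp.IsQuasiCompactMor) (FibCat.diag f) :=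
    with_diag_of_comp (g := FibCat.toSelf 𝒴) (Q := AlgSp.IsSeparatedMor ⊓ AlgSp.IsQuasiCompactMor)
      (goodP_isSeparatedMor.inf goodP_isQuasiCompactMor) (pbP_isSeparatedMor.inf pbP_isQuasiCompactMor) gX gY
      selfOver_isFibGrpd (with_diag_of_iso (eqToIso (selfOver_functor_eq _ _)) h𝒳d) h𝒴d
      fun X hX T a ha => by
        refine ⟨isSeparatedMor_diagonal hX a, ?_⟩
        have hr : AlgSp.RepWith @QuasiCompact (pullback.diagonal a) :=
          AlgSpace.repWith_mono (fun _ _ g (_ : IsClosedImmersion g) => (inferInstance : QuasiCompact g)) ha.1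
        exact (AlgSpace.repWith_quasiCompact_iff hX
          (AlgSpace.isAlgSpace_baseChange hX (AlgSp.IsAlgSpace.yon_obj T) hX (IsPullback.of_hasPullback a a)) hr.1).1 hr
  have hall : AlgSt.RepByAlgSpWith ((AlgSp.IsSeparatedMor ⊓ AlgSp.IsQuasiCompactMor) ⊓ AlgSp.LocP @LocallyOfFiniteType)
      (FibCat.diag f) :=
    with_inf (goodP_isSeparatedMor.inf goodP_isQuasiCompactMor).preIso (preIso_of_pullback pbP_locP) gX
      (fp_isFibGrpd gX gX gY f f) hsq (lft_diag h𝒳 h𝒴 f)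
  refine with_of_fpFst_cover pbP_isProperMor (isLocalOnBase_fppf_of_fpqc isLocalOnBase_fpqc_isProperMor) gX
    (fp_isFibGrpd gX gX gY f f) gW (repByAlgSp1_of_with hall) hz₁ hz₂ hz₃
    (with_fpFst_of_repOf pbP_isProperMor z ?_)
  obtain ⟨F, e, he, ⟨hs, hq⟩, hl⟩ := hall W z
  refine ⟨F, e, he, ?_⟩
  have hW : AlgSp.IsAlgSpace ((AlgSp.yon S).obj W) := AlgSp.IsAlgSpace.yon_obj W
  have hWN : AlgSp.IsLocNoethSp ((AlgSp.yon S).obj W) :=
    ⟨W, 𝟙 _, AlgSp.repWith_id _ _, AlgSp.repWith_id _ _, inferInstance⟩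
  refine AlgSpace.isProperMor_of_dvrLifts (h := 𝟙 _) F.property F.property hW hWN hs ⟨hl, hq⟩ ?_ ?_ fun sq hA => ?_
  · exact ⟨AlgSpace.locP_of_repWith F.property (AlgSpace.repWith_of_isIso @LocallyOfFiniteType (𝟙 F.obj)),
      ((AlgSpace.repWith_quasiCompact_iff F.property F.property
        (AlgSpace.repWith_of_isIso @QuasiCompact (𝟙 F.obj)).1).1 (AlgSpace.repWith_of_isIso @QuasiCompact (𝟙 F.obj)))⟩
  · exact Function.Surjective.denseRange fun p => ⟨p, AlgSp.Points.map_id p⟩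
  obtain ⟨b, hb⟩ := (AlgSp.yon S).map_surjective sq.bot
  let q := sq.j
  have htop : sq.top ≫ AlgSt.spMapOfOver (BasedFunctor.comp e (FibCat.fpFst z (FibCat.diag f))) =
      (AlgSp.yon S).map (q ≫ b) := by
    rw [Functor.map_comp, hb]
    exact (congrArg (sq.top ≫ ·) (Category.id_comp _).symm).trans sq.comm
  obtain ⟨ξ, hξ⟩ := exists_secObj he sq.top (q ≫ b) htop
  haveI := ξ.lift
  let x₁ := BasedFunctor.comp (AlgSt.overMap b) (BasedFunctor.comp z (FibCat.fpFst f f))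
  let x₂ := BasedFunctor.comp (AlgSt.overMap b) (BasedFunctor.comp z (FibCat.fpSnd f f))
  haveI hl1 : 𝒳.p.IsHomLift (𝟙 sq.ptK) ((FibCat.fpFst f f).map ξ.iso.hom) := BasedFunctor.preserves_isHomLift _ _ _
  haveI hl2 : 𝒳.p.IsHomLift (𝟙 sq.ptK) ((FibCat.fpSnd f f).map ξ.iso.hom) := BasedFunctor.preserves_isHomLift _ _ _
  let i₁ : x₁.obj (Over.mk q) ≅ ξ.obj.1 := (FibCat.fpFst f f).toFunctor.mapIso ξ.iso
  let i₂ : x₂.obj (Over.mk q) ≅ ξ.obj.1 := (FibCat.fpSnd f f).toFunctor.mapIso ξ.iso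
  haveI : 𝒳.p.IsHomLift (𝟙 sq.ptK) i₁.hom := hl1
  haveI : 𝒳.p.IsHomLift (𝟙 sq.ptK) i₂.inv := @IsHomLift.lift_id_inv _ _ _ _ 𝒳.p sq.ptK _ _ i₂ hl2
  let a : Iso1 x₁ q x₂ q := ⟨i₁ ≪≫ i₂.symm,
    show 𝒳.p.IsHomLift (𝟙 sq.ptK) (i₁.hom ≫ i₂.inv) by infer_instance⟩
  let o₁ := z.obj (Over.mk (𝟙 sq.ptA ≫ b))
  have ho : 𝒳.p.obj o₁.obj.fst = sq.ptA := z.w_obj (Over.mk (𝟙 sq.ptA ≫ b))
  let β : Iso1 (BasedFunctor.comp x₁ f) (𝟙 sq.ptA) (BasedFunctor.comp x₂ f) (𝟙 sq.ptA) :=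
    ⟨o₁.obj.iso, iso_lift o₁ (U := sq.ptA) ho⟩
  have hsl : (q : sq.ptK ⟶ sq.ptA) ≫ (𝟙 sq.ptA ≫ b) = q ≫ b := congrArg (q ≫ ·) (Category.id_comp b)
  have hβ : Iso1.pb gY β q (Category.comp_id _) (Category.comp_id _) = Iso1.map f a := by
    refine Iso1.pb_unique gY _ ?_
    show f.map (i₁.hom ≫ i₂.inv) ≫ f.map (z.map (sl q hsl)).hom.snd =
      f.map (z.map (sl q hsl)).hom.fst ≫ o₁.obj.iso.hom
    rw [fp_w (z.map (sl q hsl))]
    refine congrArg (· ≫ f.map (z.map (sl q hsl)).hom.snd) ?_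
    have w : f.map i₁.hom ≫ 𝟙 _ = (z.obj (Over.mk (q ≫ b))).obj.iso.hom ≫ f.map i₂.hom := fp_w ξ.iso.hom
    rw [Category.comp_id] at w
    rw [Functor.map_comp, w, Category.assoc, ← Functor.map_comp, i₂.hom_inv_id]
    exact (congrArg (_ ≫ ·) (f.toFunctor.map_id _)).trans (Category.comp_id _)
  obtain ⟨γ, hγ⟩ := H sq.A sq.K sq.str x₁ x₂ a ⟨β, hβ⟩
  have hγf : Iso1.map f γ = β := iso1_eq_of_generic gY
    (fun T w => by
      obtain ⟨G, d, hd, hG, -⟩ := (with_inertiaToBase gY selfOver_isFibGrpd h𝒴d) T w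
      exact ⟨G, d, hd, hG⟩) sq.A sq.K sq.str _ _ (by rw [Iso1.pb_map f gX gY γ q, hγ, hβ])
  haveI := γ.lift
  let ξ' : SecObj z (FibCat.diag f) (𝟙 sq.ptA ≫ b) :=
    { obj := ⟨x₂.obj (Over.mk (𝟙 sq.ptA)), x₂.w_obj _⟩
      iso := fpIsoMk γ.iso (Iso.refl _) (by
        show f.map γ.iso.hom ≫ 𝟙 _ = o₁.obj.iso.hom ≫ f.map (𝟙 _)
        rw [show f.map γ.iso.hom = o₁.obj.iso.hom from congrArg (fun w : Iso1 _ _ _ _ => w.iso.hom) hγf]
        exact congrArg (_ ≫ ·) (f.toFunctor.map_id _).symm)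
      lift := @isHomLift_of_fst _ _ _ _ _ _ _ _ _ _ _ _ _ γ.lift }
  refine ⟨ξ'.sec he, ?_, ?_⟩
  · rw [Category.comp_id, ← hξ]
    refine SecObj.sec_map he ξ ξ' q hsl (i₂.inv ≫ x₂.map (sl q (Category.comp_id q))) ?_ ?_
    · haveI := map_sl_lift x₂ q (Category.comp_id q)
      infer_instance
    · refine fp_hom_ext ?_ ?_
      · show x₁.map (sl q (Category.comp_id q)) ≫ γ.iso.hom = i₁.hom ≫ i₂.inv ≫ x₂.map (sl q (Category.comp_id q))
        have h2 := Iso1.pb_spec gX γ q (Category.comp_id q) (Category.comp_id q)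
        rw [hγ] at h2
        exact h2.symm.trans (Category.assoc _ _ _)
      · show x₂.map (sl q (Category.comp_id q)) ≫ 𝟙 _ = i₂.hom ≫ i₂.inv ≫ x₂.map (sl q (Category.comp_id q))
        rw [i₂.hom_inv_id_assoc, Category.comp_id]
  · exact (SecObj.sec_comp he ξ').trans ((congrArg (AlgSp.yon S).map (Category.id_comp b)).trans hb)

end Groth.Agent.IsoNat5
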