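import Groth.Agent.Lib.IsoNat5.HomEquiv
import Groth.Agent.Lib.FC16.Fiber

/-!
Two stacks with locally surjective charts and corresponding isomorphisms are equivalent.
-/

universe u

open CategoryTheory CategoryTheory.Functor CategoryTheory.Limits AlgebraicGeometry Opposite

set_option linter.style.haveILetI false
set_option linter.unusedSectionVars false
set_option backward.isDefEq.respectTransparency false
set_option backward.isDefEq.respectTransparency.types false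

namespace Groth.Agent.IsoNat5

open Groth.Agent.FC16 Groth.Agent.StAlg Groth.Agent.StAlg16 AlgSt

variable {S : Scheme.{u}} {𝒳 𝒴 : AlgSt.Cat S} {U : Over S} {g𝒳 : FibCat.IsFibGrpd 𝒳.p}
  {g𝒴 : FibCat.IsFibGrpd 𝒴.p} {x : FibCat.overCat U ⥤ᵇ 𝒳} {y : FibCat.overCat U ⥤ᵇ 𝒴}

/-- a chart is locally surjective -/
def LocSurj (x : FibCat.overCat U ⥤ᵇ 𝒳) : Prop :=
  ∀ (T : Over S) (z : FibCat.overCat T ⥤ᵇ 𝒳), ∃ R ∈ QuotSh.J Scheme.fppfPrecoverage S T,
    ∀ {T' : Over S} (g : T' ⟶ T), R g → ∃ s : T' ⟶ U, Nonempty (Iso1 z g x s)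

/-- a smooth surjective chart is locally surjective -/
theorem locSurj_of_smooth (h𝒳 : AlgSt.IsAlgStack Scheme.fppfPrecoverage 𝒳)
    (hx : AlgSt.RepByAlgSpWith (AlgSp.LocP @Smooth) x) (hxs : AlgSt.RepByAlgSpWith AlgSp.IsSurjectiveMor x) :
    LocSurj x := by
  intro T z
  obtain ⟨T', k, s, hk, hks, ⟨i⟩⟩ := exists_local_factor h𝒳 z x hx hxs
  haveI := hk
  haveI := hks
  refine ⟨Sieve.generate (Presieve.singleton k),
    AlgSpace.mem_J_of_singleton k _ (Sieve.le_generate _ _ _ ⟨⟩), ?_⟩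
  rintro W g ⟨_, l, _, ⟨⟩, rfl⟩
  exact ⟨l ≫ s, ⟨⟨FC16.appIso i (Over.mk l), FC16.isHomLift_appIso_hom i _ rfl⟩⟩⟩

/-- classes carry local surjectivity along -/
theorem locSurj_transfer (φ : IsoNat.FIso 𝒳 𝒴) (h𝒳 : FibCat.IsFibGrpd 𝒳.p) (h𝒴 : FibCat.IsFibGrpd 𝒴.p)
    (h : φ.toEquiv U (IsoNat.objCls x) = IsoNat.objCls y) (hx : LocSurj x) : LocSurj y := by
  intro T w
  obtain ⟨z, hz⟩ := exists_chart (symm h𝒳 h𝒴 φ) h𝒳 w
  obtain ⟨R, hR, hs⟩ := hx T z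
  refine ⟨R, hR, fun g hg => ?_⟩
  obtain ⟨s, ⟨a⟩⟩ := hs g hg
  refine ⟨s, Iso1.nonempty_of_cls_eq ?_⟩
  exact ((cls_obj_eq φ h𝒴 ((Equiv.symm_apply_eq _).1 hz).symm g).symm.trans
    ((congrArg (φ.toEquiv _) a.cls_eq).trans (cls_obj_eq φ h𝒴 h s)))

variable (H : HomMap g𝒳 g𝒴 x y)

/-- corresponding objects: trivialisations correspond -/
structure Pair {T : Over S} (z : FibCat.overCat T ⥤ᵇ 𝒳) (w : FibCat.overCat T ⥤ᵇ 𝒴) where
  /-- the map -/
  map : ∀ {T' : Over S} {g : T' ⟶ T} {s : T' ⟶ U}, Iso1 z g x s → Iso1 w g y s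
  map_pb : ∀ {T' T'' : Over S} {g : T' ⟶ T} {s : T' ⟶ U} {g' : T'' ⟶ T} {s' : T'' ⟶ U} (a : Iso1 z g x s)
    (k : T'' ⟶ T') (hg : k ≫ g = g') (hs : k ≫ s = s'),
      map (Iso1.pb g𝒳 a k hg hs) = Iso1.pb g𝒴 (map a) k hg hs
  map_trans : ∀ {T' : Over S} {g : T' ⟶ T} {s t : T' ⟶ U} (a : Iso1 z g x s) (b : Iso1 x s x t),
    map (a.trans b) = (map a).trans (H.map b)

variable {H}

theorem Pair.map_eq {T : Over S} {z : FibCat.overCat T ⥤ᵇ 𝒳} {w : FibCat.overCat T ⥤ᵇ 𝒴} (P : Pair H z w)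
    {T' : Over S} {g : T' ⟶ T} {s t : T' ⟶ U} (a : Iso1 z g x s) (b : Iso1 z g x t) :
    P.map b = (P.map a).trans (H.map (a.symm.trans b)) := by
  rw [← P.map_trans, ← Iso1.trans_assoc, Iso1.trans_symm, Iso1.refl_trans]

variable (H)

theorem locCover (g𝒳 : FibCat.IsFibGrpd 𝒳.p) (hs : LocSurj x) {T : Over S} (z : FibCat.overCat T ⥤ᵇ 𝒳) :
    ∃ R ∈ QuotSh.J Scheme.fppfPrecoverage S T,
      ∀ {T' : Over S} (g : T' ⟶ T), R g ↔ ∃ s : T' ⟶ U, Nonempty (Iso1 z g x s) := by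
  obtain ⟨R₀, hR₀, h₀⟩ := hs T z
  let R : Sieve T :=
    { arrows := fun T' g => ∃ s : T' ⟶ U, Nonempty (Iso1 z g x s)
      downward_closed := fun {Y Z f} hf g => by
        obtain ⟨s, ⟨a⟩⟩ := hf
        exact ⟨g ≫ s, ⟨Iso1.pb g𝒳 a g rfl rfl⟩⟩ }
  exact ⟨R, GrothendieckTopology.superset_covering _ (fun T' g hg => h₀ g hg) hR₀, fun g => Iff.rfl⟩

set_option maxHeartbeats 1000000 in
/-- every object has a corresponding object -/
theorem exists_pair (h𝒴 : Stk.IsStack (QuotSh.J Scheme.fppfPrecoverage S) 𝒴) (hs : LocSurj x) {T : Over S}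
    (z : FibCat.overCat T ⥤ᵇ 𝒳) : ∃ w : FibCat.overCat T ⥤ᵇ 𝒴, Nonempty (Pair H z w) := by
  obtain ⟨R, hR, hR'⟩ := locCover g𝒳 hs z
  haveI : (Stk.resSieve R 𝒴).IsEquivalence := h𝒴.2 R hR
  have hsa : ∀ o : (Stk.sieveCat R).obj, ∃ s : o.obj.left ⟶ U, Nonempty (Iso1 z o.obj.hom x s) :=
    fun o => (hR' o.obj.hom).1 o.property
  choose s ha using hsa
  let a : ∀ o : (Stk.sieveCat R).obj, Iso1 z o.obj.hom x (s o) := fun o => (ha o).some
  let γ : ∀ {o o' : (Stk.sieveCat R).obj} (φ : o ⟶ o'), Iso1 x (s o) x (φ.hom.left ≫ s o') := fun {o o'} φ =>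
    (a o).symm.trans (Iso1.pb g𝒳 (a o') φ.hom.left (Over.w φ.hom) rfl)
  let tw : ∀ {o o' : (Stk.sieveCat R).obj}, (o ⟶ o') → (y.obj (Over.mk (s o)) ⟶ y.obj (Over.mk (s o'))) :=
    fun {o o'} φ => (H.map (γ φ)).iso.hom ≫ y.map (sl φ.hom.left rfl)
  have htwl : ∀ {o o' : (Stk.sieveCat R).obj} (φ : o ⟶ o'), 𝒴.p.IsHomLift φ.hom.left (tw φ) := fun {o o'} φ => by
    haveI := (H.map (γ φ)).lift
    haveI := map_sl_lift y φ.hom.left (rfl : φ.hom.left ≫ s o' = φ.hom.left ≫ s o')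
    show 𝒴.p.IsHomLift φ.hom.left ((H.map (γ φ)).iso.hom ≫ y.map (sl φ.hom.left rfl))
    infer_instance
  let F : Stk.sieveCat R ⥤ᵇ 𝒴 :=
    { toFunctor :=
        { obj := fun o => y.obj (Over.mk (s o))
          map := tw
          map_id := fun o => by
            show (H.map (γ (𝟙 o))).iso.hom ≫ y.map (sl (𝟙 o.obj.left) rfl) = 𝟙 _
            have e : Iso1.pb g𝒴 (Iso1.refl y (s o)) (𝟙 o.obj.left) (Category.id_comp (s o)) (Category.id_comp _) =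
                Iso1.refl y (s o) := Iso1.pb_id g𝒴 _
            have h1 : H.map (γ (𝟙 o)) = Iso1.ofEq y (Category.id_comp (s o)).symm := by
              have : γ (𝟙 o) = Iso1.ofEq x (Category.id_comp (s o)).symm := by
                have h2 : Iso1.pb g𝒳 (a o) (𝟙 o.obj.left) (g' := o.obj.hom) (t' := 𝟙 o.obj.left ≫ s o)
                    (Category.id_comp _) rfl = (a o).trans (Iso1.ofEq x (Category.id_comp (s o)).symm) := by
                  have h3 := Iso1.pb_trans g𝒳 (a o) (Iso1.refl x (s o)) (𝟙 o.obj.left) (g' := o.obj.hom)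
                    (t' := s o) (s' := 𝟙 o.obj.left ≫ s o) (Category.id_comp _) (Category.id_comp _) rfl
                  rw [Iso1.trans_refl] at h3
                  rw [h3, Iso1.pb_id g𝒳 (a o)]
                  congr 1
                  exact Iso1.pb_ofEq g𝒳 (rfl : s o = s o) (𝟙 o.obj.left) (Category.id_comp _) rfl
                show (a o).symm.trans (Iso1.pb g𝒳 (a o) (𝟙 o.obj.left) _ _) = _
                rw [h2, ← Iso1.trans_assoc, Iso1.symm_trans, Iso1.refl_trans]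
              rw [this]
              have key : ∀ (t : o.obj.left ⟶ U) (ht : s o = t), H.map (Iso1.ofEq x ht) = Iso1.ofEq y ht := by
                intro t ht
                subst ht
                exact H.map_refl _
              exact key _ _
            rw [h1]
            have key : ∀ (t : o.obj.left ⟶ U) (ht : s o = t) (h' : 𝟙 o.obj.left ≫ s o = t),
                (Iso1.ofEq y ht).iso.hom ≫ y.map (sl (𝟙 o.obj.left) h') = 𝟙 _ := by
              intro t ht h'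
              subst ht
              show 𝟙 _ ≫ y.map _ = _
              rw [Category.id_comp, show sl (𝟙 o.obj.left) h' = 𝟙 (Over.mk (s o)) from Over.OverMorphism.ext rfl]
              exact y.toFunctor.map_id _
            exact key _ _ rfl
          map_comp := fun {o o' o''} φ ψ => by
            show (H.map (γ (φ ≫ ψ))).iso.hom ≫ y.map (sl (φ ≫ ψ).hom.left rfl) =
              ((H.map (γ φ)).iso.hom ≫ y.map (sl φ.hom.left rfl)) ≫ (H.map (γ ψ)).iso.hom ≫ y.map (sl ψ.hom.left rfl)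
            let u : o.obj.left ⟶ U := φ.hom.left ≫ ψ.hom.left ≫ s o''
            have h1 := Iso1.pb_spec g𝒴 (H.map (γ ψ)) φ.hom.left (g' := φ.hom.left ≫ s o') (t' := u) rfl rfl
            rw [Category.assoc, ← Category.assoc (y.map (sl φ.hom.left rfl)), ← h1, Category.assoc, ← H.map_pb]
            have hcomp : y.map (sl φ.hom.left (rfl : φ.hom.left ≫ ψ.hom.left ≫ s o'' = u)) ≫ y.map (sl ψ.hom.left rfl) =
                y.map (sl (φ ≫ ψ).hom.left (show (φ.hom.left ≫ ψ.hom.left) ≫ s o'' = u from Category.assoc _ _ _)) := by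
              rw [← y.toFunctor.map_comp]
              exact congrArg y.map (Over.OverMorphism.ext rfl)
            rw [hcomp, ← Category.assoc]
            have h2 : ((H.map (γ φ)).trans (H.map (Iso1.pb g𝒳 (γ ψ) φ.hom.left
                (g' := φ.hom.left ≫ s o') (t' := u) rfl rfl))) = H.map ((a o).symm.trans
                (Iso1.pb g𝒳 (a o'') (φ.hom.left ≫ ψ.hom.left) (g' := o.obj.hom) (t' := u)
                  (by rw [Category.assoc, Over.w ψ.hom, Over.w φ.hom]) (Category.assoc _ _ _))) := by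
              rw [← H.map_trans]
              congr 1
              simp only [γ]
              rw [Iso1.pb_trans g𝒳 (a o').symm _ φ.hom.left (hs := rfl) (ht := Over.w φ.hom),
                Iso1.pb_symm g𝒳 (a o') φ.hom.left (Over.w φ.hom) rfl, Iso1.pb_pb, Iso1.trans_assoc,
                ← Iso1.trans_assoc (Iso1.pb g𝒳 (a o') φ.hom.left _ _), Iso1.trans_symm, Iso1.refl_trans]
            have h3 := congrArg (fun w : Iso1 y (s o) y u => w.iso.hom) h2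
            change (H.map (γ φ)).iso.hom ≫ _ = _ at h3
            rw [h3]
            have key : ∀ (v : o.obj.left ⟶ U) (hv : u = v) (h' : (φ ≫ ψ).hom.left ≫ s o'' = v)
                (pf : (φ.hom.left ≫ ψ.hom.left) ≫ o''.obj.hom = o.obj.hom),
                (H.map ((a o).symm.trans (Iso1.pb g𝒳 (a o'') (φ.hom.left ≫ ψ.hom.left) (g' := o.obj.hom) (t' := v)
                  pf h'))).iso.hom ≫ y.map (sl (φ ≫ ψ).hom.left h') =
                (H.map ((a o).symm.trans (Iso1.pb g𝒳 (a o'') (φ.hom.left ≫ ψ.hom.left) (g' := o.obj.hom) (t' := u)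
                  pf (Category.assoc _ _ _)))).iso.hom ≫
                  y.map (sl (φ ≫ ψ).hom.left (show (φ.hom.left ≫ ψ.hom.left) ≫ s o'' = u from Category.assoc _ _ _)) := by
              intro v hv h' pf
              subst hv
              rfl
            exact key _ (Category.assoc _ _ _).symm rfl _ }
      w := CategoryTheory.Functor.ext (fun o => y.w_obj _) fun o o' φ => by
        haveI := htwl φ
        exact (IsHomLift.fac' 𝒴.p φ.hom.left (tw φ)).trans (by simp; rfl) }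
  let η := (Stk.resSieve R 𝒴).objPreimage F
  let i : BasedFunctor.comp (Stk.sieveIncl R) η ≅ F := (Stk.resSieve R 𝒴).objObjPreimageIso F
  let zs : ∀ {T' : Over S} (g : T' ⟶ T), R g → (Stk.sieveCat R).obj := fun g h => ⟨Over.mk g, h⟩
  let io : ∀ {T' : Over S} (g : T' ⟶ T) (h : R g), Iso1 η g y (s (zs g h)) := fun g h =>
    ⟨FC16.appIso i (zs g h), FC16.isHomLift_appIso_hom i _ rfl⟩
  refine ⟨η, ⟨{
    map := fun {T'} {g} {t} α => (io g ((hR' g).2 ⟨t, ⟨α⟩⟩)).trans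
      (H.map ((a (zs g ((hR' g).2 ⟨t, ⟨α⟩⟩))).symm.trans α))
    map_pb := fun {T' T''} {g} {t} {g'} {t'} α k hg ht => ?_
    map_trans := fun {T'} {g} {t t'} α b => by
      rw [Iso1.trans_assoc, ← H.map_trans, Iso1.trans_assoc] }⟩⟩
  subst hg ht
  have h : R g := (hR' g).2 ⟨t, ⟨α⟩⟩
  have h' : R (k ≫ g) := R.downward_closed h k
  show (io (k ≫ g) h').trans (H.map ((a (zs (k ≫ g) h')).symm.trans (Iso1.pb g𝒳 α k rfl rfl))) =
    Iso1.pb g𝒴 ((io g h).trans (H.map ((a (zs g h)).symm.trans α))) k rfl rfl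
  let φ : zs (k ≫ g) h' ⟶ zs g h := ObjectProperty.homMk (Over.homMk k rfl)
  have hio : Iso1.pb g𝒴 (io g h) k rfl rfl = (io (k ≫ g) h').trans (H.map (γ φ)) := by
    refine Iso1.pb_unique g𝒴 _ ?_
    exact (Category.assoc _ _ _).trans (i.hom.toNatTrans.naturality φ).symm
  rw [Iso1.pb_trans g𝒴 (io g h) _ k rfl rfl rfl, hio, ← H.map_pb, Iso1.trans_assoc, ← H.map_trans]
  congr 2
  simp only [γ]
  rw [Iso1.pb_trans g𝒳 (a (zs g h)).symm α k (hs := rfl) (ht := rfl),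
    Iso1.pb_symm g𝒳 (a (zs g h)) k rfl rfl, Iso1.trans_assoc]
  congr 1
  exact (Iso1.trans_assoc _ _ _).symm.trans ((congrArg (fun w => Iso1.trans w (Iso1.pb g𝒳 α k rfl rfl))
    (Iso1.trans_symm _)).trans (Iso1.refl_trans _)) |>.symm

section Mor

variable {T T' : Over S} {z : FibCat.overCat T ⥤ᵇ 𝒳} {w : FibCat.overCat T ⥤ᵇ 𝒴}
  {z' : FibCat.overCat T' ⥤ᵇ 𝒳} {w' : FibCat.overCat T' ⥤ᵇ 𝒴} {H}

/-- compatibility of isomorphisms with the correspondences -/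
def Compat (P : Pair H z w) (P' : Pair H z' w') {A : Over S} {g : A ⟶ T} {g' : A ⟶ T'} (γ : Iso1 z g z' g')
    (c : Iso1 w g w' g') : Prop :=
  ∀ {B : Over S} (h : B ⟶ A) (s : B ⟶ U) (α : Iso1 z' (h ≫ g') x s),
    (Iso1.pb g𝒴 c h rfl rfl).trans (P'.map α) = P.map ((Iso1.pb g𝒳 γ h rfl rfl).trans α)

variable {A : Over S} {g : A ⟶ T} {g' : A ⟶ T'}

theorem chartCover (hs : LocSurj x) (z' : FibCat.overCat T' ⥤ᵇ 𝒳) (g' : A ⟶ T') :
    ∃ R ∈ QuotSh.J Scheme.fppfPrecoverage S A,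
      ∀ {B : Over S} (h : B ⟶ A), R h → ∃ s : B ⟶ U, Nonempty (Iso1 z' (h ≫ g') x s) := by
  obtain ⟨R, hR, h⟩ := hs A (BasedFunctor.comp (AlgSt.overMap g') z')
  refine ⟨R, hR, fun k hk => ?_⟩
  obtain ⟨s, ⟨a⟩⟩ := h k hk
  exact ⟨s, ⟨⟨a.iso, a.lift⟩⟩⟩

theorem exists_compat (h𝒴 : Stk.IsStack (QuotSh.J Scheme.fppfPrecoverage S) 𝒴) (hs : LocSurj x)
    (P : Pair H z w) (P' : Pair H z' w') (γ : Iso1 z g z' g') : ∃ c, Compat P P' γ c := by
  obtain ⟨R₀, hR₀, h₀⟩ := chartCover hs z' g'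
  let R : Sieve A :=
    { arrows := fun B h => ∃ s : B ⟶ U, Nonempty (Iso1 z' (h ≫ g') x s)
      downward_closed := fun {Y Z f} hf k => by
        obtain ⟨s, ⟨a⟩⟩ := hf
        exact ⟨k ≫ s, ⟨Iso1.pb g𝒳 a k (Category.assoc _ _ _).symm rfl⟩⟩ }
  have hR : R ∈ QuotSh.J Scheme.fppfPrecoverage S A :=
    GrothendieckTopology.superset_covering _ (fun B h hh => h₀ h hh) hR₀
  let E : ∀ {B : Over S} (h : B ⟶ A) {s : B ⟶ U}, Iso1 z' (h ≫ g') x s → Iso1 w (h ≫ g) w' (h ≫ g') :=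
    fun h _ α => (P.map ((Iso1.pb g𝒳 γ h rfl rfl).trans α)).trans (P'.map α).symm
  have indep : ∀ {B : Over S} (h : B ⟶ A) {s t : B ⟶ U} (α : Iso1 z' (h ≫ g') x s) (β : Iso1 z' (h ≫ g') x t),
      E h α = E h β := by
    intro B h s t α β
    have hβ : (Iso1.pb g𝒳 γ h rfl rfl).trans β = ((Iso1.pb g𝒳 γ h rfl rfl).trans α).trans (α.symm.trans β) := by
      rw [Iso1.trans_assoc, ← Iso1.trans_assoc α, Iso1.trans_symm, Iso1.refl_trans]
    simp only [E]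
    rw [hβ, P.map_trans, P'.map_eq α β]
    exact Iso1.ext (by
      ext
      simp [Iso1.trans, Iso1.symm])
  obtain ⟨c, hc, -⟩ := existsUnique_iso1_of_sieve h𝒴 hR (fun h hh => E h hh.choose_spec.some)
    (fun {B B'} k h hh => by
      rw [indep (k ≫ h) _ (Iso1.pb g𝒳 hh.choose_spec.some k (Category.assoc _ _ _).symm rfl)]
      simp only [E]
      rw [Iso1.pb_trans g𝒴 _ _ k (hs := (Category.assoc _ _ _).symm) (ht := rfl),
        Iso1.pb_symm g𝒴 _ k (Category.assoc _ _ _).symm rfl, ← P.map_pb, ← P'.map_pb,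
        Iso1.pb_trans g𝒳 _ _ k (hs := rfl) (ht := (Category.assoc _ _ _).symm), Iso1.pb_pb])
  refine ⟨c, fun {B} h s α => ?_⟩
  have hh : R h := ⟨s, ⟨α⟩⟩
  rw [show Iso1.pb g𝒴 c h rfl rfl = E h α from (hc h hh).trans (indep h _ α)]
  simp only [E]
  rw [Iso1.trans_assoc, Iso1.symm_trans, Iso1.trans_refl]

theorem compat_unique (h𝒴 : Stk.IsStack (QuotSh.J Scheme.fppfPrecoverage S) 𝒴) (hs : LocSurj x)
    {P : Pair H z w} {P' : Pair H z' w'} {γ : Iso1 z g z' g'} {c c' : Iso1 w g w' g'}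
    (hc : Compat P P' γ c) (hc' : Compat P P' γ c') : c = c' := by
  obtain ⟨R, hR, h₀⟩ := chartCover hs z' g'
  refine iso1_eq_of_cover h𝒴 c c' hR fun {B} h hh => ?_
  obtain ⟨s, ⟨α⟩⟩ := h₀ h hh
  exact Iso1.trans_right_cancel (P'.map α) ((hc h s α).trans (hc' h s α).symm)

theorem compat_refl (P : Pair H z w) : Compat P P (Iso1.refl z g) (Iso1.refl w g) := fun h s α => by
  rw [Iso1.pb_refl, Iso1.pb_refl, Iso1.refl_trans, Iso1.refl_trans]

theorem compat_trans {T'' : Over S} {z'' : FibCat.overCat T'' ⥤ᵇ 𝒳} {w'' : FibCat.overCat T'' ⥤ᵇ 𝒴}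
    {g'' : A ⟶ T''} {P : Pair H z w} {P' : Pair H z' w'} {P'' : Pair H z'' w''} {γ : Iso1 z g z' g'}
    {γ' : Iso1 z' g' z'' g''} {c : Iso1 w g w' g'} {c' : Iso1 w' g' w'' g''} (hc : Compat P P' γ c)
    (hc' : Compat P' P'' γ' c') : Compat P P'' (γ.trans γ') (c.trans c') := fun h s α => by
  rw [Iso1.pb_trans g𝒴 c c' h rfl rfl rfl, Iso1.trans_assoc, hc' h s α, hc h s _,
    Iso1.pb_trans g𝒳 γ γ' h rfl rfl rfl, Iso1.trans_assoc]

theorem compat_pb {P : Pair H z w} {P' : Pair H z' w'} {γ : Iso1 z g z' g'} {c : Iso1 w g w' g'}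
    (hc : Compat P P' γ c) {A' : Over S} (k : A' ⟶ A) {g₁ : A' ⟶ T} {g₁' : A' ⟶ T'} (h₁ : k ≫ g = g₁)
    (h₁' : k ≫ g' = g₁') : Compat P P' (Iso1.pb g𝒳 γ k h₁ h₁') (Iso1.pb g𝒴 c k h₁ h₁') := by
  subst h₁ h₁'
  intro B h s α
  let α' : Iso1 z' ((h ≫ k) ≫ g') x s :=
    Iso1.pb g𝒳 α (𝟙 B) (by rw [Category.id_comp, Category.assoc]) (Category.id_comp s)
  have e := congrArg (fun v => Iso1.pb g𝒴 v (𝟙 B) (g' := h ≫ k ≫ g) (t' := s)
    (by rw [Category.id_comp, Category.assoc]) (Category.id_comp s)) (hc (h ≫ k) s α')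
  rw [Iso1.pb_trans g𝒴 _ _ (𝟙 B) (hs := Category.id_comp s) (ht := show 𝟙 B ≫ (h ≫ k) ≫ g' = h ≫ k ≫ g' by
      rw [Category.id_comp, Category.assoc]), ← P'.map_pb, ← P.map_pb,
    Iso1.pb_trans g𝒳 _ _ (𝟙 B) (hs := Category.id_comp s) (ht := show 𝟙 B ≫ (h ≫ k) ≫ g' = h ≫ k ≫ g' by
      rw [Category.id_comp, Category.assoc]), Iso1.pb_pb, Iso1.pb_pb] at e
  simp only [α', Iso1.pb_pb] at e
  rw [Iso1.pb_congr g𝒳 α (Category.id_comp (𝟙 B)) (g' := h ≫ k ≫ g') (t' := s), Iso1.pb_id g𝒳 α] at e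
  rw [Iso1.pb_pb, Iso1.pb_pb]
  rw [Iso1.pb_congr g𝒴 c (Category.id_comp (h ≫ k)), Iso1.pb_congr g𝒳 γ (Category.id_comp (h ≫ k))] at e
  exact e

variable (H' : HomMap g𝒴 g𝒳 y x)

theorem compat_inj (h𝒳 : Stk.IsStack (QuotSh.J Scheme.fppfPrecoverage S) 𝒳) (hs : LocSurj x)
    (hl : ∀ {B : Over S} {s t : B ⟶ U} (a : Iso1 x s x t), H'.map (H.map a) = a)
    {P : Pair H z w} {P' : Pair H z' w'} {γ γ' : Iso1 z g z' g'} {c : Iso1 w g w' g'}
    (hc : Compat P P' γ c) (hc' : Compat P P' γ' c) : γ = γ' := by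
  obtain ⟨R, hR, h₀⟩ := chartCover hs z' g'
  refine iso1_eq_of_cover h𝒳 γ γ' hR fun {B} h hh => ?_
  obtain ⟨s, ⟨α⟩⟩ := h₀ h hh
  let a : Iso1 z (h ≫ g) x s := (Iso1.pb g𝒳 γ h rfl rfl).trans α
  let a' : Iso1 z (h ≫ g) x s := (Iso1.pb g𝒳 γ' h rfl rfl).trans α
  have e : P.map a' = P.map a := (hc' h s α).symm.trans (hc h s α)
  rw [P.map_eq a a'] at e
  have e2 : H.map (a.symm.trans a') = Iso1.refl y s :=
    Iso1.trans_left_cancel (P.map a) (e.trans (Iso1.trans_refl _).symm)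
  have e3 : a.symm.trans a' = Iso1.refl x s := by
    rw [← hl (a.symm.trans a'), e2, H'.map_refl]
  have e4 : a' = a := by
    have := congrArg (fun v => a.trans v) e3
    simpa only [← Iso1.trans_assoc, Iso1.trans_symm, Iso1.refl_trans, Iso1.trans_refl] using this
  exact (Iso1.trans_right_cancel α e4).symm

theorem compat_surj (h𝒳 : Stk.IsStack (QuotSh.J Scheme.fppfPrecoverage S) 𝒳)
    (h𝒴 : Stk.IsStack (QuotSh.J Scheme.fppfPrecoverage S) 𝒴) (hs : LocSurj x)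
    (hl : ∀ {B : Over S} {s t : B ⟶ U} (a : Iso1 x s x t), H'.map (H.map a) = a)
    (hr : ∀ {B : Over S} {s t : B ⟶ U} (a : Iso1 y s y t), H.map (H'.map a) = a)
    (P : Pair H z w) (P' : Pair H z' w') (c : Iso1 w g w' g') : ∃ γ, Compat P P' γ c := by
  obtain ⟨R₁, hR₁, h₁⟩ := chartCover hs z g
  obtain ⟨R₂, hR₂, h₂⟩ := chartCover hs z' g'
  let R : Sieve A :=
    { arrows := fun B h => (∃ s : B ⟶ U, Nonempty (Iso1 z (h ≫ g) x s)) ∧
        ∃ s : B ⟶ U, Nonempty (Iso1 z' (h ≫ g') x s)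
      downward_closed := fun {Y Z f} hf k => by
        obtain ⟨⟨s, ⟨a⟩⟩, t, ⟨b⟩⟩ := hf
        exact ⟨⟨k ≫ s, ⟨Iso1.pb g𝒳 a k (Category.assoc _ _ _).symm rfl⟩⟩,
          k ≫ t, ⟨Iso1.pb g𝒳 b k (Category.assoc _ _ _).symm rfl⟩⟩ }
  have hR : R ∈ QuotSh.J Scheme.fppfPrecoverage S A :=
    GrothendieckTopology.superset_covering _ (show R₁ ⊓ R₂ ≤ R from fun B h hh => ⟨h₁ h hh.1, h₂ h hh.2⟩)
      ((QuotSh.J Scheme.fppfPrecoverage S).intersection_covering hR₁ hR₂)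
  let E : ∀ {B : Over S} (h : B ⟶ A) {s t : B ⟶ U}, Iso1 z (h ≫ g) x s → Iso1 z' (h ≫ g') x t →
      Iso1 z (h ≫ g) z' (h ≫ g') := fun h _ _ a b =>
    (a.trans (H'.map ((P.map a).symm.trans ((Iso1.pb g𝒴 c h rfl rfl).trans (P'.map b))))).trans b.symm
  have indep : ∀ {B : Over S} (h : B ⟶ A) {s t s' t' : B ⟶ U} (a : Iso1 z (h ≫ g) x s) (b : Iso1 z' (h ≫ g') x t)
      (a' : Iso1 z (h ≫ g) x s') (b' : Iso1 z' (h ≫ g') x t'), E h a b = E h a' b' := by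
    intro B h s t s' t' a b a' b'
    obtain ⟨u, rfl⟩ : ∃ u, a' = a.trans u :=
      ⟨a.symm.trans a', by rw [← Iso1.trans_assoc, Iso1.trans_symm, Iso1.refl_trans]⟩
    obtain ⟨v, rfl⟩ : ∃ v, b' = b.trans v :=
      ⟨b.symm.trans b', by rw [← Iso1.trans_assoc, Iso1.trans_symm, Iso1.refl_trans]⟩
    simp only [E]
    have hsymm : ∀ {C : Over S} {i j l : B ⟶ C} {Z : FibCat.overCat C ⥤ᵇ 𝒳}
        {𝒵 : FibCat.overCat C ⥤ᵇ 𝒳} (p : Iso1 Z i 𝒵 j) (q : Iso1 𝒵 j 𝒵 l),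
        (p.trans q).symm = q.symm.trans p.symm := fun p q => Iso1.ext (Iso.ext rfl)
    have e1 : ((P.map (a.trans u)).symm.trans ((Iso1.pb g𝒴 c h rfl rfl).trans (P'.map (b.trans v)))) =
        (H.map u).symm.trans (((P.map a).symm.trans ((Iso1.pb g𝒴 c h rfl rfl).trans (P'.map b))).trans (H.map v)) := by
      rw [P.map_trans, P'.map_trans]
      exact Iso1.ext (by
        ext
        simp [Iso1.trans, Iso1.symm])
    rw [e1, H'.map_trans, H'.map_trans, HomMap.map_symm, hl, hl]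
    exact Iso1.ext (by
      ext
      simp [Iso1.trans, Iso1.symm])
  obtain ⟨γ, hγ, -⟩ := existsUnique_iso1_of_sieve h𝒳 hR
    (fun h hh => E h hh.1.choose_spec.some hh.2.choose_spec.some) (fun {B B'} k h hh => by
      rw [indep (k ≫ h) _ _ (Iso1.pb g𝒳 hh.1.choose_spec.some k (Category.assoc _ _ _).symm rfl)
        (Iso1.pb g𝒳 hh.2.choose_spec.some k (Category.assoc _ _ _).symm rfl)]
      simp only [E]
      rw [Iso1.pb_trans g𝒳 _ _ k (hs := (Category.assoc _ _ _).symm) (ht := rfl),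
        Iso1.pb_trans g𝒳 _ _ k (hs := rfl) (ht := rfl),
        Iso1.pb_symm g𝒳 _ k (Category.assoc _ _ _).symm rfl, ← H'.map_pb, P.map_pb, P'.map_pb,
        Iso1.pb_trans g𝒴 _ _ k (hs := rfl) (ht := (Category.assoc _ _ _).symm),
        Iso1.pb_trans g𝒴 _ _ k (hs := rfl) (ht := (Category.assoc _ _ _).symm),
        Iso1.pb_symm g𝒴 _ k (Category.assoc _ _ _).symm rfl, Iso1.pb_pb])
  refine ⟨γ, fun {B} h t b => ?_⟩
  obtain ⟨R₃, hR₃, h₃⟩ := chartCover hs z (h ≫ g)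
  refine iso1_eq_of_cover h𝒴 _ _ hR₃ fun {B'} k hk => ?_
  obtain ⟨s, ⟨a₀⟩⟩ := h₃ k hk
  let a : Iso1 z ((k ≫ h) ≫ g) x s :=
    Iso1.pb g𝒳 a₀ (𝟙 B') (by rw [Category.id_comp, Category.assoc]) (Category.id_comp s)
  let bk : Iso1 z' ((k ≫ h) ≫ g') x (k ≫ t) := Iso1.pb g𝒳 b k (Category.assoc _ _ _).symm rfl
  have hh : R (k ≫ h) := ⟨⟨s, ⟨a⟩⟩, k ≫ t, ⟨bk⟩⟩
  have e : (Iso1.pb g𝒴 c (k ≫ h) rfl rfl).trans (P'.map bk) =
      P.map ((Iso1.pb g𝒳 γ (k ≫ h) rfl rfl).trans bk) := by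
    rw [show Iso1.pb g𝒳 γ (k ≫ h) rfl rfl = E (k ≫ h) a bk from (hγ _ hh).trans (indep _ _ _ _ _)]
    simp only [E]
    rw [Iso1.trans_assoc, Iso1.symm_trans, Iso1.trans_refl, P.map_trans, hr, ← Iso1.trans_assoc, Iso1.trans_symm,
      Iso1.refl_trans]
  have e2 := congrArg (fun v => Iso1.pb g𝒴 v (𝟙 B') (g' := k ≫ h ≫ g) (t' := k ≫ t)
    (by rw [Category.id_comp, Category.assoc]) (Category.id_comp _)) e
  rw [Iso1.pb_trans g𝒴 _ _ (𝟙 B') (hs := Category.id_comp (k ≫ t))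
      (ht := show 𝟙 B' ≫ (k ≫ h) ≫ g' = k ≫ h ≫ g' by rw [Category.id_comp, Category.assoc]),
    ← P'.map_pb, ← P.map_pb,
    Iso1.pb_trans g𝒳 _ _ (𝟙 B') (hs := Category.id_comp (k ≫ t))
      (ht := show 𝟙 B' ≫ (k ≫ h) ≫ g' = k ≫ h ≫ g' by rw [Category.id_comp, Category.assoc])] at e2
  simp only [bk, Iso1.pb_pb] at e2
  rw [Iso1.pb_trans g𝒴 _ _ k (hs := rfl) (ht := rfl), ← P'.map_pb, ← P.map_pb,
    Iso1.pb_trans g𝒳 _ _ k (hs := rfl) (ht := rfl), Iso1.pb_pb, Iso1.pb_pb]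
  rw [Iso1.pb_congr g𝒴 c (Category.id_comp (k ≫ h)), Iso1.pb_congr g𝒳 γ (Category.id_comp (k ≫ h)),
    Iso1.pb_congr g𝒳 b (Category.id_comp k)] at e2
  exact e2

end Mor

/-- correspondences can be inverted -/
theorem exists_pair_inv (h𝒴 : Stk.IsStack (QuotSh.J Scheme.fppfPrecoverage S) 𝒴) (hsy : LocSurj y)
    (H' : HomMap g𝒴 g𝒳 y x)
    (hr : ∀ {B : Over S} {s t : B ⟶ U} (a : Iso1 y s y t), H.map (H'.map a) = a)
    {T : Over S} {z : FibCat.overCat T ⥤ᵇ 𝒳} {w : FibCat.overCat T ⥤ᵇ 𝒴} (P : Pair H' w z) :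
    Nonempty (Pair H z w) := by
  have main : ∀ {T' : Over S} {g : T' ⟶ T} {s : T' ⟶ U} (α : Iso1 z g x s),
      ∃ R ∈ QuotSh.J Scheme.fppfPrecoverage S T',
        (∀ {B : Over S} (k : B ⟶ T'), R k → ∃ t : B ⟶ U, Nonempty (Iso1 w (k ≫ g) y t)) ∧
        ∃ β : Iso1 w g y s, ∀ {B : Over S} (k : B ⟶ T') (t : B ⟶ U) (b : Iso1 w (k ≫ g) y t),
          Iso1.pb g𝒴 β k rfl rfl = b.trans (H.map ((P.map b).symm.trans (Iso1.pb g𝒳 α k rfl rfl))) := by
    intro T' g s α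
    obtain ⟨R₀, hR₀, h₀⟩ := chartCover hsy w g
    let R : Sieve T' :=
      { arrows := fun B k => ∃ t : B ⟶ U, Nonempty (Iso1 w (k ≫ g) y t)
        downward_closed := fun {Y Z f} hf k => by
          obtain ⟨t, ⟨a⟩⟩ := hf
          exact ⟨k ≫ t, ⟨Iso1.pb g𝒴 a k (Category.assoc _ _ _).symm rfl⟩⟩ }
    have hR : R ∈ QuotSh.J Scheme.fppfPrecoverage S T' :=
      GrothendieckTopology.superset_covering _ (fun B k hk => h₀ k hk) hR₀
    let E : ∀ {B : Over S} (k : B ⟶ T') {t : B ⟶ U}, Iso1 w (k ≫ g) y t → Iso1 w (k ≫ g) y (k ≫ s) :=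
      fun k _ b => b.trans (H.map ((P.map b).symm.trans (Iso1.pb g𝒳 α k rfl rfl)))
    have indep : ∀ {B : Over S} (k : B ⟶ T') {t t' : B ⟶ U} (b : Iso1 w (k ≫ g) y t) (b' : Iso1 w (k ≫ g) y t'),
        E k b = E k b' := by
      intro B k t t' b b'
      obtain ⟨v, rfl⟩ : ∃ v, b' = b.trans v :=
        ⟨b.symm.trans b', by rw [← Iso1.trans_assoc, Iso1.trans_symm, Iso1.refl_trans]⟩
      simp only [E]
      rw [P.map_trans]
      have e1 : ((P.map b).trans (H'.map v)).symm.trans (Iso1.pb g𝒳 α k rfl rfl) =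
          (H'.map v).symm.trans ((P.map b).symm.trans (Iso1.pb g𝒳 α k rfl rfl)) :=
        Iso1.ext (by
          ext
          simp [Iso1.trans, Iso1.symm])
      rw [e1, H.map_trans (H'.map v).symm, HomMap.map_symm, hr]
      exact Iso1.ext (by
        ext
        simp [Iso1.trans, Iso1.symm])
    obtain ⟨β, hβ, -⟩ := existsUnique_iso1_of_sieve h𝒴 hR (fun k hk => E k hk.choose_spec.some)
      (fun {B B'} l k hk => by
        rw [indep (l ≫ k) _ (Iso1.pb g𝒴 hk.choose_spec.some l (Category.assoc _ _ _).symm rfl)]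
        simp only [E]
        rw [Iso1.pb_trans g𝒴 _ _ l (hs := (Category.assoc _ _ _).symm) (ht := rfl), ← H.map_pb,
          Iso1.pb_trans g𝒳 _ _ l (hs := (Category.assoc _ _ _).symm) (ht := (Category.assoc _ _ _).symm),
          Iso1.pb_symm g𝒳 _ l (Category.assoc _ _ _).symm rfl, ← P.map_pb, Iso1.pb_pb])
    exact ⟨R, hR, fun k hk => hk, β, fun k t b => (hβ k ⟨t, ⟨b⟩⟩).trans (indep k _ b)⟩
  choose R hR hR' β hβ using @main
  refine ⟨{ map := fun α => β α, map_pb := ?_, map_trans := ?_ }⟩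
  · intro T' T'' g s g' s' α k hg hs
    subst hg hs
    refine iso1_eq_of_cover h𝒴 _ _ (hR (Iso1.pb g𝒳 α k rfl rfl)) fun {B} l hl => ?_
    obtain ⟨t, ⟨b⟩⟩ := hR' _ l hl
    rw [hβ _ l t b, Iso1.pb_pb, Iso1.pb_pb]
    let b' : Iso1 w ((l ≫ k) ≫ g) y t :=
      Iso1.pb g𝒴 b (𝟙 B) (by rw [Category.id_comp, Category.assoc]) (Category.id_comp t)
    have e := congrArg (fun v => Iso1.pb g𝒴 v (𝟙 B) (g' := l ≫ k ≫ g) (t' := l ≫ k ≫ s)
      (by rw [Category.id_comp, Category.assoc]) (by rw [Category.id_comp, Category.assoc])) (hβ α (l ≫ k) t b')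
    rw [Iso1.pb_trans g𝒴 b' _ (𝟙 B) (ht := Category.id_comp t)
      (hs := by rw [Category.id_comp, Category.assoc]), ← H.map_pb] at e
    simp only [Iso1.pb_pb] at e
    rw [Iso1.pb_trans g𝒳 (P.map b').symm _ (𝟙 B) (ht := show 𝟙 B ≫ (l ≫ k) ≫ g = l ≫ k ≫ g by
        rw [Category.id_comp, Category.assoc]) (hs := by rw [Category.id_comp, Category.assoc]),
      Iso1.pb_symm g𝒳 (P.map b') (𝟙 B) (show 𝟙 B ≫ (l ≫ k) ≫ g = l ≫ k ≫ g by
        rw [Category.id_comp, Category.assoc]) (Category.id_comp t), ← P.map_pb] at e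
    simp only [b', Iso1.pb_pb] at e
    rw [Iso1.pb_congr g𝒴 b (Category.id_comp (𝟙 B)), Iso1.pb_id g𝒴 b,
      Iso1.pb_congr g𝒴 (β α) (Category.id_comp (l ≫ k)), Iso1.pb_congr g𝒳 α (Category.id_comp (l ≫ k))] at e
    exact e.symm
  · intro T' g s t α u
    refine iso1_eq_of_cover h𝒴 _ _ (hR (α.trans u)) fun {B} l hl => ?_
    obtain ⟨t', ⟨b⟩⟩ := hR' _ l hl
    rw [hβ _ l t' b, Iso1.pb_trans g𝒳 α u l rfl rfl rfl, Iso1.pb_trans g𝒴 (β α) (H.map u) l rfl rfl rfl,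
      hβ α l t' b, ← H.map_pb, Iso1.trans_assoc, ← H.map_trans, Iso1.trans_assoc]

end Groth.Agent.IsoNat5
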