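import Groth.Agent.Lib.IsoNat5.StackEquiv

/-!
The equivalence attached to a correspondence of isomorphisms.
-/

universe u

open CategoryTheory CategoryTheory.Functor CategoryTheory.Limits AlgebraicGeometry Opposite

set_option linter.style.haveILetI false
set_option linter.unusedSectionVars false
set_option backward.isDefEq.respectTransparency false
set_option backward.isDefEq.respectTransparency.types false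

namespace Groth.Agent.IsoNat5

open Groth.Agent.FC16 Groth.Agent.StAlg Groth.Agent.StAlg16 AlgSt

variable {S : Scheme.{u}} {𝒳 𝒴 : AlgSt.Cat S} {U : Over S}
  {x : FibCat.overCat U ⥤ᵇ 𝒳} {y : FibCat.overCat U ⥤ᵇ 𝒴}

theorem eq_map_of_isHomLift {p : 𝒳.obj ⥤ Over S} {a b : 𝒳.obj} (φ : a ⟶ b) (h : p.obj a ⟶ p.obj b)
    [p.IsHomLift h φ] : h = p.map φ := by
  have := IsHomLift.fac' p h φ
  simpa using this.symm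

set_option maxHeartbeats 1600000 in
/-- charts with corresponding isomorphisms give an equivalence -/
theorem exists_equiv_of_homMap (h𝒳 : Stk.IsStack (QuotSh.J Scheme.fppfPrecoverage S) 𝒳)
    (h𝒴 : Stk.IsStack (QuotSh.J Scheme.fppfPrecoverage S) 𝒴) (hs : LocSurj x) (hsy : LocSurj y)
    (H : HomMap h𝒳.1 h𝒴.1 x y) (H' : HomMap h𝒴.1 h𝒳.1 y x)
    (hl : ∀ {B : Over S} {s t : B ⟶ U} (a : Iso1 x s x t), H'.map (H.map a) = a)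
    (hr : ∀ {B : Over S} {s t : B ⟶ U} (a : Iso1 y s y t), H.map (H'.map a) = a) :
    ∃ e : 𝒳 ⥤ᵇ 𝒴, FibCat.IsEquivOver e := by
  haveI := FC16.isFibered h𝒳.1
  haveI := FC16.isFibered h𝒴.1
  let Z : ∀ ξ : 𝒳.obj, FibCat.overCat (𝒳.p.obj ξ) ⥤ᵇ 𝒳 := fun ξ => ofObj (x := ξ) rfl
  let ι : ∀ ξ : 𝒳.obj, (Z ξ).obj (Over.mk (𝟙 _)) ≅ ξ := fun ξ => ofObjIso (x := ξ) rfl
  have hι : ∀ ξ, 𝒳.p.IsHomLift (𝟙 _) (ι ξ).hom := fun ξ => ofObjIso_lift (x := ξ) rfl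
  choose W hW using fun ξ : 𝒳.obj => exists_pair H h𝒴 hs (Z ξ)
  let P : ∀ ξ, Pair H (Z ξ) (W ξ) := fun ξ => (hW ξ).some
  let Mor : ∀ {ξ ξ' : 𝒳.obj}, (𝒳.p.obj ξ ⟶ 𝒳.p.obj ξ') → (ξ ⟶ ξ') →
      ((W ξ).obj (Over.mk (𝟙 _)) ⟶ (W ξ').obj (Over.mk (𝟙 _))) → Prop := fun {ξ ξ'} h φ ψ =>
    ∃ (γ : Iso1 (Z ξ) (𝟙 _) (Z ξ') h) (c : Iso1 (W ξ) (𝟙 _) (W ξ') h),
      γ.iso.hom ≫ (Z ξ').map (sl h (Category.comp_id h)) ≫ (ι ξ').hom = (ι ξ).hom ≫ φ ∧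
      Compat (P ξ) (P ξ') γ c ∧ ψ = c.iso.hom ≫ (W ξ').map (sl h (Category.comp_id h))
  have hex : ∀ {ξ ξ' : 𝒳.obj} (h : 𝒳.p.obj ξ ⟶ 𝒳.p.obj ξ') (φ : ξ ⟶ ξ'), 𝒳.p.IsHomLift h φ →
      ∃ ψ, Mor h φ ψ := by
    intro ξ ξ' h φ hφ
    haveI := hφ
    haveI := hι ξ
    haveI := hι ξ'
    haveI : 𝒳.p.IsHomLift (𝟙 (𝒳.p.obj ξ')) (ι ξ').inv := IsHomLift.lift_id_inv 𝒳.p (𝒳.p.obj ξ') (ι ξ')
    haveI : 𝒳.p.IsHomLift h ((ι ξ).hom ≫ φ ≫ (ι ξ').inv) := by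
      have : 𝒳.p.IsHomLift (𝟙 _ ≫ h ≫ 𝟙 _) ((ι ξ).hom ≫ φ ≫ (ι ξ').inv) := inferInstance
      simpa using this
    haveI := map_sl_lift (Z ξ') h (Category.comp_id h)
    obtain ⟨e, he, hee⟩ := exists_iso_of_lifts h𝒳.1 h ((ι ξ).hom ≫ φ ≫ (ι ξ').inv)
      ((Z ξ').map (sl h (Category.comp_id h)))
    let γ : Iso1 (Z ξ) (𝟙 _) (Z ξ') h := ⟨e, he⟩
    obtain ⟨c, hc⟩ := exists_compat h𝒴 hs (P ξ) (P ξ') γ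
    exact ⟨_, γ, c, by rw [← Category.assoc, hee, Category.assoc, Category.assoc, Iso.inv_hom_id, Category.comp_id],
      hc, rfl⟩
  have huniq : ∀ {ξ ξ' : 𝒳.obj} (h : 𝒳.p.obj ξ ⟶ 𝒳.p.obj ξ') (φ : ξ ⟶ ξ') (ψ ψ' : _),
      Mor h φ ψ → Mor h φ ψ' → ψ = ψ' := by
    rintro ξ ξ' h φ ψ ψ' ⟨γ, c, hγ, hc, rfl⟩ ⟨γ', c', hγ', hc', rfl⟩
    haveI := map_sl_lift (Z ξ') h (Category.comp_id h)
    haveI := FC16.isStronglyCartesian h𝒳.1 h ((Z ξ').map (sl h (Category.comp_id h)))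
    haveI := γ.lift
    haveI := γ'.lift
    have e1 : γ = γ' := Iso1.ext (Iso.ext (IsStronglyCartesian.ext 𝒳.p h
      ((Z ξ').map (sl h (Category.comp_id h))) (𝟙 _) ((cancel_mono (ι ξ').hom).1
        (by rw [Category.assoc, Category.assoc, hγ, hγ']))))
    subst e1
    rw [compat_unique h𝒴 hs hc hc']
  have hlift : ∀ {ξ ξ' : 𝒳.obj} (h : 𝒳.p.obj ξ ⟶ 𝒳.p.obj ξ') (φ : ξ ⟶ ξ') (ψ : _),
      Mor h φ ψ → 𝒴.p.IsHomLift h ψ := by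
    rintro ξ ξ' h φ ψ ⟨γ, c, hγ, hc, rfl⟩
    haveI := c.lift
    haveI := map_sl_lift (W ξ') h (Category.comp_id h)
    have : 𝒴.p.IsHomLift (𝟙 _ ≫ h) (c.iso.hom ≫ (W ξ').map (sl h (Category.comp_id h))) := inferInstance
    simpa using this
  have hid : ∀ ξ : 𝒳.obj, Mor (𝟙 _) (𝟙 ξ) (𝟙 _) := fun ξ => by
    refine ⟨Iso1.refl _ _, Iso1.refl _ _, ?_, compat_refl (P ξ), ?_⟩
    · show 𝟙 _ ≫ (Z ξ).map (sl (𝟙 _) _) ≫ (ι ξ).hom = (ι ξ).hom ≫ 𝟙 ξ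
      rw [show sl (𝟙 (𝒳.p.obj ξ)) (Category.comp_id (𝟙 (𝒳.p.obj ξ))) = 𝟙 (Over.mk (𝟙 (𝒳.p.obj ξ))) from
        Over.OverMorphism.ext rfl, CategoryTheory.Functor.map_id]
      simp
    · show 𝟙 _ = 𝟙 _ ≫ (W ξ).map (sl (𝟙 _) _)
      rw [show sl (𝟙 (𝒳.p.obj ξ)) (Category.comp_id (𝟙 (𝒳.p.obj ξ))) = 𝟙 (Over.mk (𝟙 (𝒳.p.obj ξ))) from
        Over.OverMorphism.ext rfl, CategoryTheory.Functor.map_id, Category.comp_id]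
  have hcomp : ∀ {ξ₁ ξ₂ ξ₃ : 𝒳.obj} (h : 𝒳.p.obj ξ₁ ⟶ 𝒳.p.obj ξ₂) (k : 𝒳.p.obj ξ₂ ⟶ 𝒳.p.obj ξ₃)
      (φ : ξ₁ ⟶ ξ₂) (φ' : ξ₂ ⟶ ξ₃) (ψ : _) (ψ' : _), Mor h φ ψ → Mor k φ' ψ' →
        Mor (h ≫ k) (φ ≫ φ') (ψ ≫ ψ') := by
    rintro ξ₁ ξ₂ ξ₃ h k φ φ' ψ ψ' ⟨γ₁, c₁, hγ₁, hc₁, rfl⟩ ⟨γ₂, c₂, hγ₂, hc₂, rfl⟩
    let γ₂' := Iso1.pb h𝒳.1 γ₂ h (g' := h) (t' := h ≫ k) (Category.comp_id h) rfl
    let c₂' := Iso1.pb h𝒴.1 c₂ h (g' := h) (t' := h ≫ k) (Category.comp_id h) rfl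
    have hm : ∀ {𝒵 : AlgSt.Cat S} (V : FibCat.overCat (𝒳.p.obj ξ₃) ⥤ᵇ 𝒵),
        V.map (sl h (rfl : h ≫ k = h ≫ k)) ≫ V.map (sl k (Category.comp_id k)) =
          V.map (sl (h ≫ k) (Category.comp_id (h ≫ k))) := fun V => by
      rw [← V.toFunctor.map_comp]
      exact congrArg V.map (Over.OverMorphism.ext rfl)
    refine ⟨γ₁.trans γ₂', c₁.trans c₂', ?_, compat_trans hc₁ (compat_pb hc₂ h (Category.comp_id h) rfl), ?_⟩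
    · show (γ₁.iso.hom ≫ γ₂'.iso.hom) ≫ (Z ξ₃).map (sl (h ≫ k) _) ≫ (ι ξ₃).hom = (ι ξ₁).hom ≫ φ ≫ φ'
      rw [← hm (Z ξ₃)]
      simp only [Category.assoc]
      rw [← Category.assoc γ₂'.iso.hom, Iso1.pb_spec, Category.assoc, hγ₂, ← reassoc_of% hγ₁]
    · show _ = (c₁.iso.hom ≫ c₂'.iso.hom) ≫ (W ξ₃).map (sl (h ≫ k) _)
      rw [← hm (W ξ₃)]
      simp only [Category.assoc]
      rw [← Category.assoc c₂'.iso.hom, Iso1.pb_spec, Category.assoc]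
  choose M hM using fun (ξ ξ' : 𝒳.obj) (φ : ξ ⟶ ξ') => hex (𝒳.p.map φ) φ inferInstance
  have hMeq : ∀ {ξ ξ' : 𝒳.obj} (h : 𝒳.p.obj ξ ⟶ 𝒳.p.obj ξ') (φ : ξ ⟶ ξ') (ψ : _), h = 𝒳.p.map φ → Mor h φ ψ →
      M ξ ξ' φ = ψ := by
    intro ξ ξ' h φ ψ hh hψ
    subst hh
    exact huniq _ φ _ _ (hM ξ ξ' φ) hψ
  let e : 𝒳 ⥤ᵇ 𝒴 :=
    { toFunctor :=
        { obj := fun ξ => (W ξ).obj (Over.mk (𝟙 _))
          map := fun {ξ ξ'} φ => M ξ ξ' φ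
          map_id := fun ξ => hMeq _ _ _ (𝒳.p.map_id ξ).symm (hid ξ)
          map_comp := fun {a b c} φ φ' => hMeq _ _ _ (𝒳.p.map_comp φ φ').symm
            (hcomp _ _ _ _ _ _ (hM a b φ) (hM b c φ')) }
      w := CategoryTheory.Functor.ext (fun ξ => (W ξ).w_obj _) fun ξ ξ' φ => by
        haveI := hlift _ φ _ (hM ξ ξ' φ)
        exact (IsHomLift.fac' 𝒴.p (𝒳.p.map φ) (M ξ ξ' φ)).trans (by simp) }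
  refine ⟨e, ?_⟩
  haveI : e.toFunctor.Full := ⟨fun {ξ ξ'} ψ => by
    change (W ξ).obj (Over.mk (𝟙 _)) ⟶ (W ξ').obj (Over.mk (𝟙 _)) at ψ
    have hwξ : 𝒴.p.obj ((W ξ).obj (Over.mk (𝟙 _))) = 𝒳.p.obj ξ := (W ξ).w_obj _
    have hwξ' : 𝒴.p.obj ((W ξ').obj (Over.mk (𝟙 _))) = 𝒳.p.obj ξ' := (W ξ').w_obj _
    let h : 𝒳.p.obj ξ ⟶ 𝒳.p.obj ξ' := eqToHom hwξ.symm ≫ 𝒴.p.map ψ ≫ eqToHom hwξ'
    haveI : 𝒴.p.IsHomLift h ψ := IsHomLift.of_fac 𝒴.p h ψ hwξ hwξ' rfl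
    haveI := map_sl_lift (W ξ') h (Category.comp_id h)
    obtain ⟨d, hd, hdd⟩ := exists_iso_of_lifts h𝒴.1 h ψ ((W ξ').map (sl h (Category.comp_id h)))
    obtain ⟨γ, hγ⟩ := compat_surj H' h𝒳 h𝒴 hs hl hr (P ξ) (P ξ') (⟨d, hd⟩ : Iso1 (W ξ) (𝟙 _) (W ξ') h)
    haveI := γ.lift
    haveI := hι ξ
    haveI := hι ξ'
    haveI : 𝒳.p.IsHomLift (𝟙 (𝒳.p.obj ξ)) (ι ξ).inv := IsHomLift.lift_id_inv 𝒳.p (𝒳.p.obj ξ) (ι ξ)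
    haveI := map_sl_lift (Z ξ') h (Category.comp_id h)
    let φ : ξ ⟶ ξ' := (ι ξ).inv ≫ γ.iso.hom ≫ (Z ξ').map (sl h (Category.comp_id h)) ≫ (ι ξ').hom
    haveI : 𝒳.p.IsHomLift h φ := by
      have : 𝒳.p.IsHomLift (𝟙 _ ≫ 𝟙 _ ≫ h ≫ 𝟙 _)
          ((ι ξ).inv ≫ γ.iso.hom ≫ (Z ξ').map (sl h (Category.comp_id h)) ≫ (ι ξ').hom) := inferInstance
      simpa using this
    refine ⟨φ, hMeq h φ ψ (eq_map_of_isHomLift φ h) ⟨γ, ⟨d, hd⟩, ?_, hγ, hdd.symm⟩⟩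
    simp [φ]⟩
  haveI : e.toFunctor.Faithful := ⟨fun {ξ ξ' φ φ'} he => by
    have hp : 𝒳.p.map φ' = 𝒳.p.map φ := (p_map_eq_of_map_eq e he).symm
    have key : ∀ (h : 𝒳.p.obj ξ ⟶ 𝒳.p.obj ξ'), h = 𝒳.p.map φ' → Mor h φ' (M ξ ξ' φ') := by
      intro h hh
      subst hh
      exact hM ξ ξ' φ'
    obtain ⟨γ, c, hγ, hc, hψ⟩ := hM ξ ξ' φ
    obtain ⟨γ', c', hγ', hc', hψ'⟩ := key (𝒳.p.map φ) hp.symm
    haveI := map_sl_lift (W ξ') (𝒳.p.map φ) (Category.comp_id _)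
    haveI := FC16.isStronglyCartesian h𝒴.1 (𝒳.p.map φ) ((W ξ').map (sl (𝒳.p.map φ) (Category.comp_id _)))
    haveI := c.lift
    haveI := c'.lift
    have e1 : c = c' := Iso1.ext (Iso.ext (IsStronglyCartesian.ext 𝒴.p (𝒳.p.map φ)
      ((W ξ').map (sl (𝒳.p.map φ) (Category.comp_id _))) (𝟙 _) (hψ.symm.trans (he.trans hψ'))))
    subst e1
    rw [compat_inj H' h𝒳 hs hl hc hc'] at hγ
    exact (cancel_epi (ι ξ).hom).1 (hγ.symm.trans hγ')⟩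
  refine isEquivOver_of e fun η => ?_
  let T := 𝒴.p.obj η
  let w₀ : FibCat.overCat T ⥤ᵇ 𝒴 := ofObj (x := η) rfl
  obtain ⟨z₀, ⟨P'⟩⟩ := exists_pair H' h𝒳 hsy w₀
  obtain ⟨P₀⟩ := exists_pair_inv (H := H) h𝒴 hsy H' hr P'
  let ξ := z₀.obj (Over.mk (𝟙 T))
  have hξ : 𝒳.p.obj ξ = T := z₀.w_obj _
  let h : 𝒳.p.obj ξ ⟶ T := eqToHom hξ
  haveI := hι ξ
  haveI : 𝒳.p.IsHomLift h (ι ξ).hom := by
    have hw : 𝒳.p.obj ((Z ξ).obj (Over.mk (𝟙 _))) = 𝒳.p.obj ξ := (Z ξ).w_obj _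
    refine IsHomLift.of_fac' 𝒳.p h (ι ξ).hom hw hξ ?_
    rw [IsHomLift.fac' 𝒳.p (𝟙 (𝒳.p.obj ξ)) (ι ξ).hom]
    simp [h]
  haveI := map_sl_lift z₀ h (Category.comp_id h)
  obtain ⟨d, hd, -⟩ := exists_iso_of_lifts h𝒳.1 h (ι ξ).hom (z₀.map (sl h (Category.comp_id h)))
  obtain ⟨c, -⟩ := exists_compat h𝒴 hs (P ξ) P₀ (⟨d, hd⟩ : Iso1 (Z ξ) (𝟙 _) z₀ h)
  let κ : (W ξ).obj (Over.mk (𝟙 _)) ⟶ η :=
    c.iso.hom ≫ w₀.map (sl h (Category.comp_id h)) ≫ (ofObjIso (x := η) (rfl : 𝒴.p.obj η = T)).hom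
  haveI hκ : 𝒴.p.IsHomLift h κ := by
    haveI := c.lift
    haveI := map_sl_lift w₀ h (Category.comp_id h)
    haveI : 𝒴.p.IsHomLift (𝟙 T) (ofObjIso (x := η) (rfl : 𝒴.p.obj η = T)).hom := ofObjIso_lift rfl
    have : 𝒴.p.IsHomLift (𝟙 _ ≫ h ≫ 𝟙 T)
        (c.iso.hom ≫ w₀.map (sl h (Category.comp_id h)) ≫ (ofObjIso (x := η) (rfl : 𝒴.p.obj η = T)).hom) := inferInstance
    simpa using this
  haveI : 𝒴.p.IsHomLift (𝟙 T) κ := by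
    have hw : 𝒴.p.obj ((W ξ).obj (Over.mk (𝟙 _))) = 𝒳.p.obj ξ := (W ξ).w_obj _
    refine IsHomLift.of_fac' 𝒴.p (𝟙 T) κ (hw.trans hξ) rfl ?_
    rw [IsHomLift.fac' 𝒴.p h κ]
    simp [h]
  haveI := isIso_of_isHomLift h𝒴.1 (𝟙 T) κ
  refine ⟨ξ, asIso κ, ?_⟩
  show 𝒴.p.IsHomLift (𝟙 T) κ
  infer_instance

end Groth.Agent.IsoNat5
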