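import Groth.Agent.Lib.IsoNat5.Lift

/-!
Infinitesimal lifting transfers along isomorphisms of presheaves of isomorphism classes.
-/

universe u

open CategoryTheory CategoryTheory.Functor CategoryTheory.Limits AlgebraicGeometry Opposite

set_option linter.style.haveILetI false
set_option linter.unusedSectionVars false
set_option backward.isDefEq.respectTransparency false
set_option backward.isDefEq.respectTransparency.types false

namespace Groth.Agent.IsoNat5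

open Groth.Agent.FC16 Groth.Agent.StAlg AlgSt

variable {S : Scheme.{u}} {𝒳 𝒴 : AlgSt.Cat S}

/-- the gluing of an affine scheme and a thickening along a common closed subscheme -/
theorem exists_glue {B C A : CommRingCat.{u}} (strB : Spec B ⟶ S) (strC : Spec C ⟶ S)
    (s : Over.mk strB ⟶ Over.mk strC) (I : Ideal A) (hI : I ^ 2 = ⊥) (str : Spec A ⟶ S)
    (u : subT I str ⟶ Over.mk strB) (v : Over.mk str ⟶ Over.mk strC) (hv : thick I str ≫ v = u ≫ s) :
    ∃ (P : CommRingCat.{u}) (J : Ideal P) (strP : Spec P ⟶ S) (κ : subT J strP ⟶ Over.mk strB)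
      (i : Over.mk strB ⟶ Over.mk strP) (q : Over.mk str ⟶ Over.mk strP) (vz : Over.mk strP ⟶ Over.mk strC),
      J ^ 2 = ⊥ ∧ IsIso κ ∧ κ ≫ i = thick J strP ∧ i ≫ vz = s ∧ q ≫ vz = v ∧ thick I str ≫ q = u ≫ i := by
  obtain ⟨σ, hσ⟩ := Spec.map_surjective s.left
  obtain ⟨ν, hν⟩ := Spec.map_surjective v.left
  obtain ⟨φ, hφ⟩ := Spec.map_surjective u.left
  let R : Subring (B × A) :=
    RingHom.eqLocus (φ.hom.comp (RingHom.fst B A)) ((Ideal.Quotient.mk I).comp (RingHom.snd B A))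
  let P : CommRingCat.{u} := CommRingCat.of R
  let p₁ : P ⟶ B := CommRingCat.ofHom ((RingHom.fst B A).comp R.subtype)
  let p₂ : P ⟶ A := CommRingCat.ofHom ((RingHom.snd B A).comp R.subtype)
  have hp : p₁ ≫ φ = p₂ ≫ CommRingCat.ofHom (Ideal.Quotient.mk I) := by
    ext r
    exact r.2
  have hmem : σ ≫ φ = ν ≫ CommRingCat.ofHom (Ideal.Quotient.mk I) := by
    apply Spec.map_injective
    rw [Spec.map_comp, Spec.map_comp, hσ, hν, hφ]
    exact (congrArg (fun t => t.left) hv).symm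
  let γ : C ⟶ P := CommRingCat.ofHom ((RingHom.prod σ.hom ν.hom).codRestrict R fun c =>
    congrArg (fun t : C ⟶ CommRingCat.of (A ⧸ I) => t.hom c) hmem)
  have hγ₁ : γ ≫ p₁ = σ := rfl
  have hγ₂ : γ ≫ p₂ = ν := rfl
  let J : Ideal P := RingHom.ker p₁.hom
  have hJ : J ^ 2 = ⊥ := by
    rw [pow_two, Submodule.eq_bot_iff]
    intro w hw
    refine Submodule.mul_induction_on hw (fun a ha b hb => ?_) fun a b ha hb => by rw [ha, hb, add_zero]
    have ha' : (a : B × A).1 = 0 := ha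
    have hb' : (b : B × A).1 = 0 := hb
    have hI' : ∀ r : P, (r : B × A).1 = 0 → (r : B × A).2 ∈ I := fun r hr => by
      rw [← Ideal.Quotient.eq_zero_iff_mem]
      have h2 : φ.hom (r : B × A).1 = Ideal.Quotient.mk I (r : B × A).2 := r.2
      rw [← h2, hr, map_zero]
    refine Subtype.ext (Prod.ext ?_ ?_)
    · show (a : B × A).1 * (b : B × A).1 = 0
      rw [ha', zero_mul]
    · show (a : B × A).2 * (b : B × A).2 = 0
      have := Ideal.mul_mem_mul (hI' a ha') (hI' b hb')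
      rwa [← pow_two, hI, Ideal.mem_bot] at this
  have hsurj : Function.Surjective p₁.hom := fun b => by
    obtain ⟨a, ha⟩ := Ideal.Quotient.mk_surjective (φ.hom b)
    exact ⟨⟨(b, a), ha.symm⟩, rfl⟩
  let θ : CommRingCat.of (P ⧸ J) ≅ B := (RingHom.quotientKerEquivOfSurjective hsurj).toCommRingCatIso
  have hθ : CommRingCat.ofHom (Ideal.Quotient.mk J) ≫ θ.hom = p₁ := by
    ext r
    rfl
  let strP : Spec P ⟶ S := Spec.map γ ≫ strC
  have hθ' : CommRingCat.ofHom (Ideal.Quotient.mk J) = p₁ ≫ θ.inv := by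
    rw [← hθ, Category.assoc, θ.hom_inv_id, Category.comp_id]
  have hi : Spec.map p₁ ≫ strP = strB := by
    show Spec.map p₁ ≫ Spec.map γ ≫ strC = strB
    rw [← Category.assoc, ← Spec.map_comp, hγ₁, hσ]
    exact Over.w s
  have hq : Spec.map p₂ ≫ strP = str := by
    show Spec.map p₂ ≫ Spec.map γ ≫ strC = str
    rw [← Category.assoc, ← Spec.map_comp, hγ₂, hν]
    exact Over.w v
  have hκ : Spec.map θ.inv ≫ strB = Spec.map (CommRingCat.ofHom (Ideal.Quotient.mk J)) ≫ strP := by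
    rw [hθ', Spec.map_comp, Category.assoc, hi]
  let κ : subT J strP ⟶ Over.mk strB := Over.homMk (Spec.map θ.inv) hκ
  refine ⟨P, J, strP, κ, Over.homMk (Spec.map p₁) hi, Over.homMk (Spec.map p₂) hq, Over.homMk (Spec.map γ) rfl,
    hJ, ?_, ?_, ?_, ?_, ?_⟩
  · haveI : IsIso ((Over.forget S).map κ) := (inferInstance : IsIso (Spec.map θ.inv))
    exact isIso_of_reflects_iso κ (Over.forget S)
  · apply Over.OverMorphism.ext
    show Spec.map θ.inv ≫ Spec.map p₁ = Spec.map (CommRingCat.ofHom (Ideal.Quotient.mk J))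
    rw [hθ', Spec.map_comp]
  · apply Over.OverMorphism.ext
    show Spec.map p₁ ≫ Spec.map γ = s.left
    rw [← Spec.map_comp, hγ₁, hσ]
  · apply Over.OverMorphism.ext
    show Spec.map p₂ ≫ Spec.map γ = v.left
    rw [← Spec.map_comp, hγ₂, hν]
  · apply Over.OverMorphism.ext
    show Spec.map (CommRingCat.ofHom (Ideal.Quotient.mk I)) ≫ Spec.map p₂ = u.left ≫ Spec.map p₁
    rw [← hφ, ← Spec.map_comp, ← Spec.map_comp, hp]

variable (φ : IsoNat.FIso 𝒳 𝒴)

/-- the morphism of a slice attached to a factorisation -/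
noncomputable abbrev sl {U T T' : Over S} {u : T ⟶ U} {u' : T' ⟶ U} (g : T ⟶ T') (h : g ≫ u' = u) :
    (Over.mk u : (FibCat.overCat U).obj) ⟶ Over.mk u' :=
  Over.homMk g h

theorem map_sl_lift {U T T' : Over S} (x : FibCat.overCat U ⥤ᵇ 𝒳) {u : T ⟶ U} {u' : T' ⟶ U} (g : T ⟶ T')
    (h : g ≫ u' = u) : 𝒳.p.IsHomLift g (x.map (sl g h)) :=
  haveI : (FibCat.overCat U).p.IsHomLift g (sl g h) := IsHomLift.map (FibCat.overCat U).p (sl g h)
  BasedFunctor.preserves_isHomLift x g _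

/-- classes of the objects of corresponding charts correspond -/
theorem cls_obj_eq (h𝒴 : FibCat.IsFibGrpd 𝒴.p) {U : Over S} {x : FibCat.overCat U ⥤ᵇ 𝒳}
    {y : FibCat.overCat U ⥤ᵇ 𝒴} (h : φ.toEquiv U (IsoNat.objCls x) = IsoNat.objCls y) {T : Over S} (g : T ⟶ U) :
    φ.toEquiv T (IsoNat.cls ⟨x.obj (Over.mk g), x.w_obj _⟩) = IsoNat.cls ⟨y.obj (Over.mk g), y.w_obj _⟩ :=
  natural' h𝒴 φ g (x' := ⟨x.obj (Over.mk g), x.w_obj _⟩) (x := ⟨_, x.w_obj _⟩)
    (y' := ⟨y.obj (Over.mk g), y.w_obj _⟩) (y := ⟨_, y.w_obj _⟩)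
    (x.map (sl g (Category.comp_id g))) (y.map (sl g (Category.comp_id g))) (map_sl_lift x _ _) (map_sl_lift y _ _) h

/-- the lifting property passes to the corresponding chart, if it factors through a smooth affine chart -/
theorem stLift_comp (h𝒳 : FibCat.IsFibGrpd 𝒳.p) (h𝒴 : FibCat.IsFibGrpd 𝒴.p) {B C : CommRingCat.{u}}
    {strB : Spec B ⟶ S} {strC : Spec C ⟶ S} {x : FibCat.overCat (Over.mk strB) ⥤ᵇ 𝒳}
    (hx : StLift x) {b : FibCat.overCat (Over.mk strC) ⥤ᵇ 𝒴} (hb : StLift b)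
    (s : Over.mk strB ⟶ Over.mk strC)
    (hxy : φ.toEquiv _ (IsoNat.objCls x) = IsoNat.objCls (BasedFunctor.comp (AlgSt.overMap s) b)) :
    StLift (BasedFunctor.comp (AlgSt.overMap s) b) := by
  intro A I hI str u η a ha
  let y := BasedFunctor.comp (AlgSt.overMap s) b
  change y.obj (Over.mk u) ⟶ η.1 at a
  obtain ⟨v, hv, β, hβ, hβa⟩ := hb A I hI str (u ≫ s) η a ha
  obtain ⟨P, J, strP, κ, i, q, vz, hJ, hκ, hκi, hivz, hqvz, hju⟩ := exists_glue strB strC s I hI str u v hv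
  -- the object of `𝒳` over the glued scheme
  obtain ⟨ζ, hζ⟩ := cls_surjective ((φ.toEquiv _).symm
    (IsoNat.cls (⟨b.obj (Over.mk vz), b.w_obj _⟩ : 𝒴.p.Fiber (Over.mk strP))))
  have hζ' : φ.toEquiv _ (IsoNat.cls ζ) = IsoNat.cls (⟨b.obj (Over.mk vz), b.w_obj _⟩ : 𝒴.p.Fiber (Over.mk strP)) := by
    rw [hζ, Equiv.apply_symm_apply]
  obtain ⟨ζ₀, π₀, hπ₀⟩ := FC16.exists_lift h𝒳 ζ.2 (thick J strP)
  haveI := hπ₀
  have hζ₀ : 𝒳.p.obj ζ₀ = subT J strP := IsHomLift.domain_eq 𝒳.p (thick J strP) π₀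
  have e₁ : φ.toEquiv _ (IsoNat.cls (⟨ζ₀, hζ₀⟩ : 𝒳.p.Fiber (subT J strP))) =
      IsoNat.cls (⟨b.obj (Over.mk (κ ≫ s)), b.w_obj _⟩ : 𝒴.p.Fiber (subT J strP)) :=
    natural' h𝒴 φ (thick J strP) (x' := ⟨ζ₀, hζ₀⟩) (x := ζ) (y' := ⟨b.obj (Over.mk (κ ≫ s)), b.w_obj _⟩)
      (y := ⟨b.obj (Over.mk vz), b.w_obj _⟩) π₀
      (b.map (sl (thick J strP) (by rw [← hκi, Category.assoc, hivz]))) hπ₀ (map_sl_lift b _ _) hζ'
  obtain ⟨θ, hθ⟩ := exists_iso_of_cls_eq ((φ.toEquiv _).injective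
    ((cls_obj_eq φ h𝒴 hxy (T := subT J strP) κ).trans e₁.symm))
  haveI := hθ
  have hθπ : 𝒳.p.IsHomLift (thick J strP) (θ.hom ≫ π₀) := inferInstance
  obtain ⟨r, hr, a', ha', -⟩ := hx P J hJ strP κ ζ (θ.hom ≫ π₀) hθπ
  have hir : i ≫ r = 𝟙 _ := by
    rw [← cancel_epi κ, ← Category.assoc, hκi, hr, Category.comp_id]
  -- back to `𝒴`
  haveI := ha'
  haveI : IsIso a' := isIso_of_isHomLift h𝒳 (𝟙 (Over.mk strP)) a'
  have e₂ : IsoNat.cls (⟨x.obj (Over.mk r), x.w_obj _⟩ : 𝒳.p.Fiber (Over.mk strP)) = IsoNat.cls ζ :=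
    cls_eq_of_lifts _ _ (asIso a') ha'
  obtain ⟨δ₀, hδ₀⟩ := exists_iso_of_cls_eq
    (((cls_obj_eq φ h𝒴 hxy (T := Over.mk strP) r).symm.trans (congrArg _ e₂)).trans hζ')
  let δ : y.obj (Over.mk r) ≅ b.obj (Over.mk vz) := δ₀
  haveI hδ : 𝒴.p.IsHomLift (𝟙 (Over.mk strP)) δ.hom := hδ₀
  let π := y.map (sl (u := 𝟙 (Over.mk strB)) i hir)
  let ρ := y.map (sl (u' := 𝟙 (Over.mk strB)) r (Category.comp_id r))
  haveI hπl : 𝒴.p.IsHomLift i π := map_sl_lift y _ _
  haveI hρl : 𝒴.p.IsHomLift r ρ := map_sl_lift y _ _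
  let a₀ : y.obj (Over.mk (𝟙 (Over.mk strB))) ⟶ b.obj (Over.mk vz) :=
    b.map (sl i (hivz.trans (Category.id_comp s).symm))
  haveI ha₀ : 𝒴.p.IsHomLift i a₀ := map_sl_lift b _ _
  haveI : 𝒴.p.IsHomLift i (π ≫ δ.hom) := inferInstance
  obtain ⟨γ, hγ, hγa⟩ := exists_iso_of_lifts h𝒴 i a₀ (π ≫ δ.hom)
  haveI := hγ
  haveI : 𝒴.p.IsHomLift r (ρ ≫ γ.hom) := inferInstance
  obtain ⟨ε, hε, hερ⟩ := exists_iso_of_lifts h𝒴 r (ρ ≫ γ.hom) ρ
  haveI := hε
  have hπρ : π ≫ ρ = 𝟙 _ := by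
    rw [← Functor.map_comp, ← CategoryTheory.Functor.map_id]
    exact congrArg _ (Over.OverMorphism.ext hir)
  have hπε : π ≫ ε.hom = γ.hom ≫ π := by
    haveI := FC16.isStronglyCartesian h𝒴 r ρ
    haveI : 𝒴.p.IsHomLift i (π ≫ ε.hom) := inferInstance
    haveI : 𝒴.p.IsHomLift i (γ.hom ≫ π) := inferInstance
    refine IsStronglyCartesian.ext 𝒴.p r ρ i ?_
    rw [Category.assoc, Category.assoc, hερ, ← Category.assoc, hπρ, Category.id_comp]
    exact (Category.comp_id γ.hom).symm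
  let u' : Over.mk str ⟶ Over.mk strB := q ≫ r
  have hu : thick I str ≫ u' = u := by
    show thick I str ≫ q ≫ r = u
    rw [← Category.assoc, hju, Category.assoc, hir, Category.comp_id]
  let δ' := ε.hom ≫ δ.hom
  have hπδ : π ≫ δ' = a₀ := by
    show π ≫ ε.hom ≫ δ.hom = a₀
    rw [← Category.assoc, hπε, Category.assoc, hγa]
  haveI : 𝒴.p.IsHomLift (𝟙 (Over.mk strP)) δ' := inferInstance
  haveI := map_sl_lift y (u := u') (u' := r) q rfl
  haveI : 𝒴.p.IsHomLift q (y.map (sl (u := u') (u' := r) q rfl) ≫ δ') := inferInstance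
  haveI := map_sl_lift b (u := v) (u' := vz) q hqvz
  obtain ⟨e, he, hee⟩ := exists_iso_of_lifts h𝒴 q (y.map (sl (u := u') (u' := r) q rfl) ≫ δ')
    (b.map (sl (u := v) (u' := vz) q hqvz))
  haveI := he
  haveI := hβ
  refine ⟨u', hu, e.hom ≫ β, inferInstance, ?_⟩
  have key : y.map (sl (thick I str) hu) ≫ e.hom = b.map (sl (thick I str) hv) := by
    haveI := map_sl_lift y (thick I str) hu
    haveI := map_sl_lift b (thick I str) hv
    haveI := FC16.isStronglyCartesian h𝒴 q (b.map (sl (u := v) (u' := vz) q hqvz))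
    haveI : 𝒴.p.IsHomLift (thick I str) (y.map (sl (thick I str) hu) ≫ e.hom) := inferInstance
    refine IsStronglyCartesian.ext 𝒴.p q (b.map (sl (u := v) (u' := vz) q hqvz)) (thick I str) ?_
    rw [Category.assoc, hee, ← Category.assoc, ← Functor.map_comp]
    have e3 : sl (thick I str) hu ≫ sl (u := u') (u' := r) q rfl =
        sl (u' := 𝟙 (Over.mk strB)) u (Category.comp_id u) ≫ sl i hir :=
      Over.OverMorphism.ext hju
    rw [e3, Functor.map_comp, Category.assoc, hπδ]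
    show b.map _ ≫ b.map _ = _
    rw [← Functor.map_comp, ← Functor.map_comp]
    exact congrArg _ (Over.OverMorphism.ext hju.symm)
  rw [← Category.assoc]
  exact (congrArg (· ≫ β) key).trans hβa

end Groth.Agent.IsoNat5
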